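import Cfsg.Agent.Lib.OddChar.TauTwoEmpty
import Cfsg.Agent.Lib.OddLocal.KappaSupport
import Cfsg.Agent.Lib.OddLocal.KappaTypeI
import Cfsg.Agent.Lib.OddLocal.KappaTI
import Cfsg.Agent.Lib.OddLocal.KappaSecond
import Cfsg.Agent.Lib.Solv.FrobeniusFormula

/-!
Maximal subgroups with empty `κ`: Frobenius groups with kernel `M_σ = M_F`, and they are of Type I.
-/

set_option autoImplicit false
set_option linter.style.haveILetI false

namespace Cfsg.Agent.OddLocal.Kappa

open scoped Pointwise commutatorElement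
open Cfsg
open Cfsg.Agent.Fusion (SylIn cj cj_eq_self cj_mono card_cj exists_sylIn exists_sylIn_ge)
open Cfsg.Agent.OddLocal.Uniq
open Cfsg.Agent.OddLocal.Sig
open Cfsg.Agent.OddLocal.RankTwo
open Cfsg.Agent.OddLocal.TauTwo
open Cfsg.Agent.OddLocal.Prime
open Cfsg.Agent.OddLocal.Disjoint (mem_centralizer_zpowers zpowers_card)

universe u

variable {G : Type u} [Group G] [Finite G] {M K U E : Subgroup G}

/-- `K = 1` means `κ(M) = ∅`. -/
theorem kappa_empty_of_bot (hKU : IsSigmaDecomposition M K U) (hK : K = ⊥) : kappa M = ∅ :=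
  Set.eq_empty_iff_forall_notMem.2 fun q hq => K_ne_bot_of_kappa hKU ⟨q, hq⟩ hK

/-- A point of `M_σ` is centralized inside `M_σ` only. -/
theorem centralizer_le_core (hG : IsMinSimpleOddOrder G) (hM : IsCoatom M) (hκ : kappa M = ∅) {x : G}
    (hx : x ∈ sigmaCore M) (hx1 : x ≠ 1) : M ⊓ Subgroup.centralizer ({x} : Set G) ≤ sigmaCore M := fun z hz => by
  refine le_of_hall (sigmaCore_hall hG hM).1 le_normalizer_piCoreOf (Subgroup.zpowers_le.2 hz.1)
    (fun t ht htd => ?_) (Subgroup.mem_zpowers z)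
  rw [Nat.card_zpowers] at htd
  by_contra hσ
  rcases fixed_class hG hM hz.1 hx hx1 (Subgroup.mem_centralizer_singleton_iff.1 hz.2) ht htd hσ with h | h
  · exact Set.eq_empty_iff_forall_notMem.1 hκ t h.1
  · exact Set.eq_empty_iff_forall_notMem.1 (OddChar.tau2_empty hG hM hκ) t h

/-- A complement of `M_σ` acts without fixed points. -/
theorem compl_free (hG : IsMinSimpleOddOrder G) (hM : IsCoatom M) (hκ : kappa M = ∅)
    (hE : IsComplIn E (sigmaCore M) M) : ∀ e ∈ E, e ≠ 1 → ∀ s ∈ sigmaCore M, e * s = s * e → s = 1 := by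
  intro e he he1 s hs hes
  by_contra hs1
  refine he1 (Subgroup.mem_bot.1 (hE.2.2.1 ▸ Subgroup.mem_inf.2 ⟨he, ?_⟩))
  exact centralizer_le_core hG hM hκ hs hs1 ⟨hE.1 he, Subgroup.mem_centralizer_singleton_iff.2 hes⟩

/-- A complement of `M_σ` for empty `κ`. -/
theorem exists_compl_ne (hG : IsMinSimpleOddOrder G) (hM : IsCoatom M) (hκ : kappa M = ∅) :
    ∃ E : Subgroup G, IsComplIn E (sigmaCore M) M ∧ E ≠ ⊥ := by
  obtain ⟨K, U, hKU⟩ := exists_full_decomp hG hM
  have hK : K = ⊥ := by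
    by_contra hK
    obtain ⟨q, hq, hqK⟩ := Nat.exists_prime_and_dvd fun h => hK (Subgroup.card_eq_one.1 h)
    exact Set.eq_empty_iff_forall_notMem.1 hκ q (hKU.hall.2.1 q hq hqK)
  refine ⟨U, ?_, fun h => U_ne_bot_of_K hG hM hKU h hK⟩
  have h := hKU.compl
  rwa [hK, bot_sup_eq] at h

/-- `M_σ` is nilpotent for empty `κ`. -/
theorem core_nilpotent (hG : IsMinSimpleOddOrder G) (hM : IsCoatom M) (hκ : kappa M = ∅) :
    Group.IsNilpotent ↥(sigmaCore M) := by
  obtain ⟨E, hE, hE1⟩ := exists_compl_ne hG hM hκ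
  exact Solv.FrobFix.isNilpotent_of_fpf hE1 (hE.1.trans le_normalizer_piCoreOf) (compl_free hG hM hκ hE)

/-- `M_F = M_σ` for empty `κ`. -/
theorem fittingHallOf_eq (hG : IsMinSimpleOddOrder G) (hM : IsCoatom M) (hκ : kappa M = ∅) :
    fittingHallOf M = sigmaCore M := by
  refine le_antisymm (Support.fittingHallOf_le hG hM) ?_
  have hσM : sigmaCore M ≤ M := Subgroup.map_subtype_le _
  haveI : ((sigmaCore M).subgroupOf M).Normal :=
    (Subgroup.normal_subgroupOf_iff_le_normalizer hσM).2 le_normalizer_piCoreOf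
  intro x hx
  refine ⟨⟨x, hσM hx⟩, le_sSup (show (sigmaCore M).subgroupOf M ∈ {N : Subgroup ↥M | N.Normal ∧ Group.IsNilpotent N ∧
    (Nat.card N).Coprime N.index} from ⟨inferInstance, ?_, ?_⟩) (Subgroup.mem_subgroupOf.2 hx), rfl⟩
  · haveI := core_nilpotent hG hM hκ
    exact Group.nilpotent_of_mulEquiv (Subgroup.subgroupOfEquivOfLe hσM).symm
  · rw [Solv.card_subgroupOf hσM]
    exact Nat.coprime_of_dvd fun q hq h1 h2 => (sigmaCore_hall hG hM).1.2.2 q hq
      ((sigmaCore_hall hG hM).1.2.1 q hq h1) h2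

/-- A group acting freely on a line of order `q`. -/
theorem card_dvd_pred_of_line {Z : Subgroup G} {q : ℕ} (hq : q.Prime) (hZ : Nat.card Z = q)
    (hn : E ≤ Subgroup.normalizer (Z : Set G))
    (hfree : ∀ e ∈ E, e ≠ 1 → ∀ z ∈ Z, e * z = z * e → z = 1) : Nat.card E ∣ q - 1 := by
  haveI := Fact.mk hq
  haveI := isCyclic_of_prime_card hZ
  obtain ⟨z, hz, hz1⟩ := exists_ne_one (ne_bot_of_card (p := q) hZ)
  let φ : ↥E →* MulAut ↥Z := (Subgroup.normalizerMonoidHom Z).comp (Subgroup.inclusion hn)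
  have hinj : Function.Injective φ := (injective_iff_map_eq_one φ).2 fun e he => Subtype.ext <| by_contra fun he1 => by
    have h := congrArg (fun f : MulAut ↥Z => ((f ⟨z, hz⟩ : ↥Z) : G)) he
    exact hz1 (hfree e e.2 he1 z hz (mul_inv_eq_iff_eq_mul.1 (show (e : G) * z * (e : G)⁻¹ = z from h)))
  refine (Subgroup.card_dvd_of_injective φ hinj).trans ?_
  rw [IsCyclic.card_mulAut, hZ, Nat.totient_prime hq]

section Stray

variable {p : ℕ} [hp : Fact p.Prime] {N B S : Subgroup G} {x : G}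

/-- With abelian Sylow subgroups `M_σ` has rank exactly two. -/
theorem Stray.rank_exact (d : Stray p M N B S x) (hab : IsMulCommutative ↥S) :
    RankLE 2 ↥(sigmaCore M) ∧ ¬ RankLE 1 ↥(sigmaCore M) := by
  have hG := d.setup.minSimple
  have hσab := d.core_abelian hab
  have hle : sigmaCore M ≤ M ⊓ N := le_inf (Subgroup.map_subtype_le _) (fun y hy => d.centralizer
    (Subgroup.mem_centralizer_singleton_iff.2 (congrArg Subtype.val
      (hσab.is_comm.comm (⟨y, hy⟩ : sigmaCore M) ⟨x, d.mem⟩))))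
  refine ⟨fun q hq A hAc hAe => ?_, fun h => ?_⟩
  · haveI := Fact.mk hq
    by_cases hA : A = ⊥
    · rw [hA, Subgroup.card_bot]
      exact Nat.one_le_pow _ _ hq.pos
    obtain ⟨a, ha, ha1⟩ := exists_ne_one hA
    have hqσ : q ∣ Nat.card (sigmaCore M) := orderOf_eq_prime (hAe a ha) ha1 ▸ orderOf_dvd_natCard a
    have hqN : q ∉ sigma N :=
      compl_pi hG d.coatomN d.compl hq (hqσ.trans (Subgroup.card_dvd_of_le hle))
    exact Solv.RankTwo.prankLE_of_injective (Subgroup.inclusion (hle.trans inf_le_right))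
      (Subgroup.inclusion_injective _) (prankLE_of_not_alpha hq (not_alpha_of_not_sigma hG d.coatomN hqN)) A hAc hAe
  · have hBσ : B ≤ sigmaCore M := d.B_S.trans d.S_le
    have h1 := h p hp.out (B.subgroupOf (sigmaCore M)) ⟨⟨fun a b => Subtype.ext (Subtype.ext (congrArg Subtype.val
      (d.setup.elem.1.is_comm.comm (⟨_, a.2⟩ : B) ⟨_, b.2⟩) :))⟩⟩ fun a ha => Subtype.ext (d.setup.elem.2 _ ha)
    rw [Solv.card_subgroupOf hBσ, d.setup.card, pow_one] at h1
    exact absurd h1 (not_le.2 (lt_self_pow₀ hp.out.one_lt (by norm_num)))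

/-- For nonabelian Sylow subgroups a complement has order dividing every `q - 1`. -/
theorem Stray.compl_dvd_pred (d : Stray p M N B S x) (hna : ¬ IsMulCommutative ↥S) (hκ : kappa M = ∅)
    (hE : IsComplIn E (sigmaCore M) M) {q : ℕ} (hq : q.Prime) (hqd : q ∣ Nat.card (sigmaCore M)) :
    Nat.card E ∣ q - 1 := by
  have hG := d.setup.minSimple
  have hfree := compl_free hG d.coatom hκ hE
  by_cases hqp : q = p
  · subst hqp
    have hSN : ¬ S ≤ N := fun h => hna (pgroup_abelian hG d.coatomN d.setup.not_sigma d.syl.isPGroup h)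
    refine card_dvd_pred_of_line hq (central_line d.setup d.syl d.B_S hSN).2
      (hE.1.trans (d.normal.trans (normalizer_le_omz S))) fun e he he1 z hz => hfree e he he1 z (d.S_le (omz_le S hz))
  haveI := Fact.mk hq
  obtain ⟨T, hT⟩ := exists_sylIn (p := q) (sigmaCore M)
  have hTn : M ≤ Subgroup.normalizer (T : Set G) :=
    SigmaSubgroups.sylow_of_nilpotent_normal d.nilpotent le_normalizer_piCoreOf hT
  have hT1 : T ≠ ⊥ := fun h => hT.not_dvd (by rw [h, Subgroup.relIndex_bot_left]; exact hqd)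
  obtain ⟨i, hi⟩ := IsPGroup.iff_card.1 hT.isPGroup
  have hTN : T ≤ M ⊓ N := d.coprime_le hT.le (hi ▸ ((Nat.coprime_primes hq hp.out).2 hqp).pow_left i)
  have hdN : q ∣ Nat.card N := by
    have h0 : i ≠ 0 := fun h => hT1 (Subgroup.card_eq_one.1 (by rw [hi, h, pow_zero]))
    exact ((dvd_pow_self q h0).trans hi.symm.dvd).trans (Subgroup.card_dvd_of_le (hTN.trans inf_le_right))
  have hqN : q ∉ sigma N := compl_pi hG d.coatomN d.compl hq (by
    have h0 : i ≠ 0 := fun h => hT1 (Subgroup.card_eq_one.1 (by rw [hi, h, pow_zero]))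
    exact ((dvd_pow_self q h0).trans hi.symm.dvd).trans (Subgroup.card_dvd_of_le hTN))
  have hr : PRankLE q 1 ↥T := by
    refine Solv.RankTwo.prankLE_of_injective (Subgroup.inclusion (hTN.trans inf_le_right))
      (Subgroup.inclusion_injective _) ?_
    exact ((classify hG d.coatomN hq hqN hdN).resolve_left (by rw [d.tau_eq hna]; exact hqp)).elim
      (fun h => h.2.2.2.2) fun h => h.2.2.2
  have hZ : Nat.card (omz q T) = q := by
    have hne := omz_ne_bot hT.isPGroup hT1
    have hle : Nat.card ((omz q T).subgroupOf T) ≤ q ^ 1 := hr _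
      ⟨⟨fun a b => Subtype.ext (Subtype.ext (congrArg Subtype.val
        ((omz_elab (q := q) T).1.is_comm.comm (⟨_, a.2⟩ : omz q T) ⟨_, b.2⟩) :))⟩⟩
      fun a ha => Subtype.ext ((omz_elab (q := q) T).2 _ ha)
    rw [Solv.card_subgroupOf (omz_le T), pow_one] at hle
    obtain ⟨z, hz, hz1⟩ := exists_ne_one hne
    refine le_antisymm hle ?_
    exact (card_zpowers_elab (omz_elab (q := q) T) hz hz1).symm.le.trans
      (Subgroup.card_le_of_le (Subgroup.zpowers_le.2 hz))
  exact card_dvd_pred_of_line hq hZ (hE.1.trans (hTn.trans (normalizer_le_omz T)))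
    fun e he he1 z hz => hfree e he he1 z (hT.le (omz_le T hz))

/-- `O_{p'}(M)` is cyclic for nonabelian Sylow subgroups. -/
theorem Stray.pPrime_cyclic_top (d : Stray p M N B S x) (hna : ¬ IsMulCommutative ↥S) (hκ : kappa M = ∅) :
    IsCyclic ↥(pPrimeCore p ↥M) := by
  have hG := d.setup.minSimple
  have hM := d.coatom
  set W := (pPrimeCore p ↥M).map M.subtype with hW
  have hSM : S ≤ M := d.S_le.trans (Subgroup.map_subtype_le _)
  have hco : (Nat.card W).Coprime p := by
    rw [hW, Subgroup.card_map_of_injective M.subtype_injective]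
    exact Fusion.card_pPrimeCore_coprime p _
  have hMW : M ≤ Subgroup.normalizer (W : Set G) := by
    haveI : (pPrimeCore p ↥M).Normal := Subgroup.sSup_normal _ fun _ h => h.1
    exact Bender.le_normalizer_map _
  obtain ⟨j, hj⟩ := IsPGroup.iff_card.1 d.syl.isPGroup
  have hinf : W ⊓ S = ⊥ := Solv.coprime_inf (hj ▸ hco.pow_right j)
  obtain ⟨s, hs, hs1⟩ := exists_ne_one (fun h : S = ⊥ => hna (by
    subst h
    exact ⟨⟨fun a b => Subsingleton.elim _ _⟩⟩))
  have hWσ : W ≤ sigmaCore M := fun z hz => by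
    have hzM : z ∈ M := (Subgroup.map_subtype_le _ : W ≤ M) hz
    refine centralizer_le_core hG hM hκ (d.S_le hs) hs1 ⟨hzM, Subgroup.mem_centralizer_singleton_iff.2 ?_⟩
    have h1 : z * s * z⁻¹ * s⁻¹ ∈ W ⊓ S := by
      refine ⟨?_, Subgroup.mul_mem _ ((Subgroup.mem_normalizer_iff.1 (d.normal hzM) s).1 hs) (S.inv_mem hs)⟩
      rw [show z * s * z⁻¹ * s⁻¹ = z * (s * z⁻¹ * s⁻¹) by group]
      exact Subgroup.mul_mem _ hz ((Subgroup.mem_normalizer_iff.1 (hMW (hSM hs)) _).1 (W.inv_mem hz))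
    rw [hinf, Subgroup.mem_bot, mul_inv_eq_one, mul_inv_eq_iff_eq_mul] at h1
    exact h1
  haveI := d.pPrime_cyclic hna
  haveI : (W.subgroupOf (sigmaCore M)).Normal := (Subgroup.normal_subgroupOf_iff_le_normalizer hWσ).2
    ((Subgroup.map_subtype_le _).trans hMW)
  have hle : W.subgroupOf (sigmaCore M) ≤ pPrimeCore p ↥(sigmaCore M) :=
    Fusion.le_pPrimeCore (by rw [Solv.card_subgroupOf hWσ]; exact hco)
  haveI : IsCyclic ↥(W.subgroupOf (sigmaCore M)) :=
    isCyclic_of_injective (Subgroup.inclusion hle) (Subgroup.inclusion_injective hle)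
  haveI : IsCyclic ↥W := isCyclic_of_surjective (Subgroup.subgroupOfEquivOfLe hWσ) (MulEquiv.surjective _)
  exact isCyclic_of_surjective ((pPrimeCore p ↥M).equivMapOfInjective M.subtype M.subtype_injective).symm
    (MulEquiv.surjective _)

end Stray

/-- A maximal subgroup with empty `κ` is of Type I. -/
theorem typeI_of_empty (hG : IsMinSimpleOddOrder G) (hM : IsCoatom M) (hκ : kappa M = ∅) : IsOfTypeI M := by
  obtain ⟨E, hE, hE1⟩ := exists_compl_ne hG hM hκ
  have hσM : sigmaCore M ≤ M := Subgroup.map_subtype_le _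
  have hEσ := fittingHallOf_eq hG hM hκ
  have hfree := compl_free hG hM hκ hE
  have hFH : fittingHall ↥M = (sigmaCore M).subgroupOf M := by
    rw [← hEσ]
    exact (Subgroup.comap_map_eq_self_of_injective M.subtype_injective _).symm
  have hcard : Nat.card (fittingHall ↥M) * Nat.card E = Nat.card M := by
    rw [hFH, Solv.card_subgroupOf hσM, mul_comm, ← (compl_card hE).2]
  have hcompl : Subgroup.IsComplement' (fittingHall ↥M) (E.subgroupOf M) := by
    refine Subgroup.isComplement'_of_card_mul_and_disjoint (by rw [Solv.card_subgroupOf hE.1, hcard]) ?_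
    rw [hFH, disjoint_iff, eq_bot_iff]
    intro z hz
    refine Subgroup.mem_bot.2 (Subtype.ext (Subgroup.mem_bot.1 (hE.2.2.1 ▸ Subgroup.mem_inf.2 ⟨?_, ?_⟩)))
    · exact Subgroup.mem_subgroupOf.1 (Subgroup.mem_inf.1 hz).2
    · exact Subgroup.mem_subgroupOf.1 (Subgroup.mem_inf.1 hz).1
  have hmem : ∀ z : ↥M, z ∈ fittingHall ↥M → (z : G) ∈ sigmaCore M := fun z hz =>
    Subgroup.mem_subgroupOf.1 (hFH ▸ hz)
  refine ⟨⟨hG.2.2.2 M hM.1, hG.1.of_dvd_nat (Subgroup.card_subgroup_dvd_card M), ?_, ?_, E.subgroupOf M, ?_, hcompl,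
    ⟨⊥, bot_le, ?_, ⟨⟨fun a b => Subsingleton.elim _ _⟩⟩, ?_⟩, E.subgroupOf M, le_rfl, rfl, ?_⟩, ?_⟩
  · intro h
    refine FitParts.sigmaCore_ne_bot hG hM ?_
    rw [← hEσ, fittingHallOf, h, Subgroup.map_bot]
  · intro h
    refine hE1 (Subgroup.card_eq_one.1 ?_)
    rw [h, Subgroup.card_top] at hcard
    exact Nat.eq_of_mul_eq_mul_left Nat.card_pos (hcard.trans (mul_one _).symm)
  · intro h
    exact hE1 (by rw [← Subgroup.map_subgroupOf_eq_of_le hE.1, h, Subgroup.map_bot])
  · intro z _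
    rw [Subgroup.mem_normalizer_iff]
    intro w
    simp [Subgroup.mem_bot]
  · intro y hy hy1 z hz
    refine Subgroup.mem_bot.2 (by_contra fun hz1 => hy1 (Subtype.ext (hfree (z : G) (Subgroup.mem_subgroupOf.1 hz.1)
      (fun h => hz1 (Subtype.ext h)) (y : G) (hmem y hy)
      (congrArg Subtype.val (Subgroup.mem_centralizer_singleton_iff.1 hz.2)))))
  · intro u hu hu1 y hy huy
    exact Subtype.ext (hfree (u : G) (Subgroup.mem_subgroupOf.1 hu) (fun h => hu1 (Subtype.ext h)) (y : G)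
      (hmem y hy) (congrArg Subtype.val huy))
  · by_cases hti : IsTISubset (sigmaCore M : Set G)
    · exact Or.inl (by rw [hEσ]; exact hti)
    obtain ⟨p, x, N, B, S, hp, d⟩ := exists_stray hG hM (core_nilpotent hG hM hκ) hti
    haveI := Fact.mk hp
    by_cases hab : IsMulCommutative ↥S
    · exact Or.inr (Or.inl (by rw [hEσ]; exact ⟨d.core_abelian hab, d.rank_exact hab⟩))
    refine Or.inr (Or.inr ⟨fun q hq hqd => ?_, p, hp, ?_, d.pPrime_cyclic_top hab hκ⟩)
    · rw [hEσ] at hqd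
      refine (Group.exponent_dvd_nat_card.trans ?_).trans (d.compl_dvd_pred hab hκ hE hq hqd)
      rw [← Subgroup.index_eq_card, hcompl.symm.index_eq_card, Solv.card_subgroupOf hE.1]
    · rw [hEσ]
      exact d.order ▸ Subgroup.orderOf_dvd_natCard _ d.mem

/-- Type I means `K = 1` and `U ≠ 1`. -/
theorem typeI_iff_bot (hG : IsMinSimpleOddOrder G) (hM : IsCoatom M) (hKU : IsSigmaDecomposition M K U) :
    IsOfTypeI M ↔ K = ⊥ ∧ U ≠ ⊥ :=
  ⟨typeI_forward hG hM hKU, fun h => typeI_of_empty hG hM (kappa_empty_of_bot hKU h.1)⟩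

/-- A maximal subgroup of Type I has empty `κ`. -/
theorem kappa_empty_of_typeI (hG : IsMinSimpleOddOrder G) (hM : IsCoatom M) (h : IsOfTypeI M) : kappa M = ∅ := by
  obtain ⟨K, U, hKU⟩ := exists_full_decomp hG hM
  exact kappa_empty_of_bot hKU (typeI_forward hG hM hKU h).1

end Cfsg.Agent.OddLocal.Kappa
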