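import Cfsg.Agent.Lib.OddChar.TauTwoCoh
import Cfsg.Agent.Lib.OddLocal.KappaTI
import Cfsg.Agent.Lib.OddLocal.KappaTypeI
import Cfsg.Agent.S1379
import Cfsg.Agent.S1526

/-!
In a minimal simple group of odd order some maximal subgroup has a `κ`-prime.
-/

set_option autoImplicit false
set_option linter.unusedSectionVars false
set_option linter.style.haveILetI false

open Cfsg
open Cfsg.Agent.Fusion (SylIn cj exists_sylIn)
open Cfsg.Agent.OddLocal

namespace Cfsg.Agent.OddChar

universe u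

variable {G : Type u} [Group G] [Finite G]

/-- Some maximal subgroup has a `κ`-prime. -/
theorem exists_kappa (hG : IsMinSimpleOddOrder G) : ∃ M : Subgroup G, IsCoatom M ∧ kappa M ≠ ∅ := by
  classical
  by_contra hno
  push Not at hno
  haveI := Fintype.ofFinite G
  have hτ : ∀ M : Subgroup G, IsCoatom M → tau2 M = ∅ := fun M hM => tau2_empty_of_kappa_empty hG hno hM
  have hfrob : ∀ M : Subgroup G, IsCoatom M → ∀ h ∈ sigmaCore M, h ≠ 1 →
      M ⊓ Subgroup.centralizer ({h} : Set G) ≤ sigmaCore M := by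
    intro M hM h hh hh1 x hx
    by_contra hxH
    obtain ⟨q, hq, hqd, hqσ⟩ : ∃ q : ℕ, q.Prime ∧ q ∣ orderOf x ∧ q ∉ sigma M := by
      by_contra hq
      push Not at hq
      refine hxH (Sig.le_of_hall (Sig.sigmaCore_hall hG hM).1 Sig.le_normalizer_piCoreOf (Subgroup.zpowers_le.2 hx.1)
        (fun q hq' hd => hq q hq' (by rwa [Nat.card_zpowers] at hd)) (Subgroup.mem_zpowers x))
    rcases Prime.fixed_class hG hM hx.1 hh hh1 (Subgroup.mem_centralizer_singleton_iff.1 hx.2) hq hqd hqσ with h' | h'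
    · exact Set.eq_empty_iff_forall_notMem.1 (hno M hM) q h'.1
    · exact Set.eq_empty_iff_forall_notMem.1 (hτ M hM) q h'
  have hne : ∀ M : Subgroup G, IsCoatom M → sigmaCore M ≠ ⊥ := fun M hM => FitParts.sigmaCore_ne_bot hG hM
  have hlt : ∀ M : Subgroup G, IsCoatom M → sigmaCore M < M := by
    intro M hM
    refine lt_of_le_of_ne (Subgroup.map_subtype_le _) fun h => ?_
    haveI := hG.2.2.2 M hM.1
    haveI : Nontrivial M := (Subgroup.nontrivial_iff_ne_bot M).2 fun hb => hne M hM (h.trans hb)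
    refine (Group.IsSolvable.commutator_lt_top_of_nontrivial M).ne (Subgroup.map_injective M.subtype_injective ?_)
    rw [M.map_subtype_commutator, ← MonoidHom.range_eq_map, Subgroup.range_subtype]
    exact le_antisymm (Subgroup.commutator_le_self M) (h.ge.trans (Kappa.core_le_derived hG hM))
  have hN : ∀ M : Subgroup G, IsCoatom M → Subgroup.normalizer (sigmaCore M : Set G) = M := by
    intro M hM
    rcases hM.le_iff.1 (show M ≤ Subgroup.normalizer (sigmaCore M : Set G) from Sig.le_normalizer_piCoreOf) with h | h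
    · exfalso
      haveI := hG.2.1
      rcases Subgroup.Normal.eq_bot_or_eq_top (Subgroup.normalizer_eq_top_iff.1 h) with h2 | h2
      · exact hne M hM h2
      · exact hM.1 (top_le_iff.1 (h2.ge.trans (hlt M hM).le))
    · exact h
  have hti : ∀ M : Subgroup G, IsCoatom M → IsTISubset (sigmaCore M : Set G) := by
    intro M hM
    by_contra hti
    haveI : ((sigmaCore M).subgroupOf M).Normal :=
      Subgroup.normal_subgroupOf_of_le_normalizer Sig.le_normalizer_piCoreOf
    have hKtop : (sigmaCore M).subgroupOf M ≠ ⊤ := fun h => (hlt M hM).not_ge (Subgroup.subgroupOf_eq_top.1 h)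
    have hnilK := Char.frobKernel_nilpotent ((sigmaCore M).subgroupOf M) hKtop fun h hh hh1 z hz =>
      Subgroup.mem_subgroupOf.2 (hfrob M hM h hh (fun e => hh1 (Subtype.ext e)) ⟨z.2,
        Subgroup.mem_centralizer_singleton_iff.2 (congrArg Subtype.val (Subgroup.mem_centralizer_singleton_iff.1 hz) :)⟩)
    haveI := hnilK
    obtain ⟨p, x, N, B, S, hp, d⟩ := Kappa.exists_stray hG hM
      (Group.nilpotent_of_mulEquiv (Subgroup.subgroupOfEquivOfLe (hlt M hM).le)) hti
    exact Set.eq_empty_iff_forall_notMem.1 (hτ N d.coatomN) p d.tau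
  -- representatives of the classes
  let Mx := {M : Subgroup G // IsCoatom M}
  let s : Setoid Mx :=
    { r := fun M N => ∃ g : G, N.1 = cj M.1 g
      iseqv :=
        { refl := fun M => ⟨1, (Fusion.cj_one _).symm⟩
          symm := fun {M N} ⟨g, h⟩ => ⟨g⁻¹, by rw [h, Fusion.cj_cj_inv]⟩
          trans := fun {M N P} ⟨g, h⟩ ⟨g', h'⟩ => ⟨g' * g, by rw [h', h, Fusion.cj_cj]⟩ } }
  let ι := Quotient s
  haveI : Fintype ι := Fintype.ofFinite ι
  let L : ι → Subgroup G := fun i => (Quotient.out i).1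
  have hL : ∀ i, IsCoatom (L i) := fun i => (Quotient.out i).2
  have hrep : ∀ M : Subgroup G, IsCoatom M → ∃ i g, M = cj (L i) g := fun M hM =>
    ⟨⟦⟨M, hM⟩⟧, Quotient.mk_out (s := s) (⟨M, hM⟩ : Mx)⟩
  have hdiff : ∀ i j, ∀ g : G, L j = cj (L i) g → i = j := fun i j g h => by
    rw [← Quotient.out_eq i, ← Quotient.out_eq j]
    exact Quotient.sound ⟨g, h⟩
  obtain ⟨M₀, hM₀⟩ : ∃ M : Subgroup G, IsCoatom M := by
    haveI := hG.2.1
    obtain ⟨p, hp, hpd⟩ := Nat.exists_prime_and_dvd (n := Nat.card G) Finite.one_lt_card.ne'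
    obtain ⟨M, hM, -⟩ := (S1378.result hG).1 p hp hpd
    exact ⟨M, hM⟩
  have hι : 2 ≤ Fintype.card ι := by
    by_contra hlt2
    haveI : Subsingleton ι := Fintype.card_le_one_iff_subsingleton.1 (by omega)
    obtain ⟨p, hp, hpd⟩ := Nat.exists_prime_and_dvd (fun h => hM₀.1 (Subgroup.index_eq_one.1 h))
    obtain ⟨M₁, hM₁, hσ⟩ := (S1378.result hG).1 p hp (hpd.trans (Subgroup.index_dvd_card M₀))
    obtain ⟨i, g, e⟩ := hrep M₁ hM₁
    obtain ⟨j, g', e'⟩ := hrep M₀ hM₀
    obtain rfl := Subsingleton.elim i j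
    haveI := Fact.mk hp
    have hσ0 : p ∈ sigma M₀ := by
      have h1 : M₁ = cj M₀ (g * g'⁻¹) := by rw [e, e', Fusion.cj_cj, inv_mul_cancel_right]
      exact TauTwo.sigma_of_cj (h1 ▸ hσ)
    obtain ⟨P, hP⟩ := exists_sylIn (p := p) M₀
    refine (Sig.sigma_sylow hσ0 hP).1.not_dvd ?_
    rw [Subgroup.relIndex_top_right]
    exact hpd.trans (Subgroup.index_dvd_of_le hP.le)
  refine S1526.result hG.1 hι L (fun i => sigmaCore (L i)) (fun i => hlt _ (hL i)) (fun i => hne _ (hL i))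
    (fun i x hx h hh => (Subgroup.mem_normalizer_iff.1 ((hN _ (hL i)).symm ▸ hx) h).1 hh)
    (fun i => hfrob _ (hL i)) (fun i j hij => Nat.coprime_of_dvd fun p hp h1 h2 => ?_)
    (fun i => ⟨hti _ (hL i), hN _ (hL i)⟩) fun g hg => ?_
  · haveI := Fact.mk hp
    obtain ⟨g, hg⟩ := Disjoint.conjugate_of_sigma hG (hL i) (hL j) ((Sig.sigmaCore_hall hG (hL i)).1.2.1 p hp h1)
      ((Sig.sigmaCore_hall hG (hL j)).1.2.1 p hp h2)
    exact hij (hdiff i j g hg)
  · obtain ⟨M, hM, a, ⟨ha, ha1⟩, r, hr, y, hy⟩ := (S1379.result hG).2.1 hno g hg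
    have hCa : Subgroup.centralizer ({a} : Set G) ≤ M := fun c hc => by
      by_contra hcM
      refine ha1 (Set.mem_singleton_iff.2 (hti M hM c (fun h => hcM ((hN M hM) ▸ h)) a ha ?_))
      rwa [Subgroup.mem_centralizer_singleton_iff.1 hc, mul_inv_cancel_right]
    rw [Support.supportR_bot hCa, Subgroup.mem_bot] at hr
    subst hr
    obtain ⟨i, z, rfl⟩ := hrep M hM
    rw [Support.sigmaCore_cj hG (hL i), SetLike.mem_coe, Fusion.mem_cj] at ha
    refine ⟨i, z⁻¹ * y⁻¹, ?_⟩
    rw [hy, show z⁻¹ * y⁻¹ * (y * (a * 1) * y⁻¹) * (z⁻¹ * y⁻¹)⁻¹ = z⁻¹ * a * z by group]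
    exact ha

end Cfsg.Agent.OddChar
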