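import Cfsg.Agent.Lib.OddChar.TypeOne
import Cfsg.Agent.Lib.OddLocal.TypeSets
import Cfsg.Agent.Lib.Solv.Frobenius
import Cfsg.Agent.S1381

/-!
The maximal subgroups over centralizers of the elements of `A₀(M)`: they are of Type II, and `M` is a Frobenius group.
-/

set_option autoImplicit false
set_option linter.style.haveILetI false

namespace Cfsg.Agent.OddLocal.Kappa

open scoped Pointwise commutatorElement
open Cfsg
open Cfsg.Agent.Fusion (SylIn cj cj_eq_self cj_mono card_cj exists_sylIn exists_sylIn_ge)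
open Cfsg.Agent.OddLocal.Uniq
open Cfsg.Agent.OddLocal.Sig
open Cfsg.Agent.OddLocal.RankTwo
open Cfsg.Agent.OddLocal.TauTwo
open Cfsg.Agent.OddLocal.Prime
open Cfsg.Agent.OddLocal.Disjoint (mem_centralizer_zpowers zpowers_card conjugate_of_sigma)

universe u

variable {G : Type u} [Group G] [Finite G] {M L : Subgroup G} {x : G}

/-- Everything known about the maximal subgroup over the centralizer of a point of `M_σ`. -/
structure Over (M L : Subgroup G) (x : G) : Prop where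
  coatom : IsCoatom L
  centralizer : Subgroup.centralizer ({x} : Set G) ≤ L
  unique : ∀ H : Subgroup G, IsCoatom H → Subgroup.centralizer ({x} : Set G) ≤ H → H = L
  compl : IsComplIn (M ⊓ L) (sigmaCore L) L
  inf : sigmaCore L ⊓ M = ⊥
  fixed : sigmaCore L ⊓ Subgroup.centralizer ({x} : Set G) ≠ ⊥
  tau : ∀ t : ℕ, t.Prime → t ∣ orderOf x → t ∈ tau2 L
  typeII : IsOfTypeII L
  notI : ¬ IsOfTypeI L
  core : fittingHallOf L = sigmaCore L
  memA : x ∈ typeA L
  notA1 : x ∉ typeA1 L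
  kappa : kappa M = ∅
  sigma_disjoint : ∀ t : ℕ, t ∈ sigma M → t ∉ sigma L

theorem exists_over_facts (hG : IsMinSimpleOddOrder G) (hM : IsCoatom M) (hx : x ∈ sigmaCore M) (hx1 : x ≠ 1)
    (hxM : ¬ Subgroup.centralizer ({x} : Set G) ≤ M) : ∃ L : Subgroup G, Over M L x := by
  obtain ⟨L, hL, hCL, hu, hc, hinf, -, hfix, hτ⟩ := Support.over_centralizer hG hM hx hx1 hxM
  obtain ⟨r, hr, hrd⟩ := Nat.exists_prime_and_dvd fun h => hx1 (orderOf_eq_one_iff.1 h)
  haveI := Fact.mk hr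
  have hrσ : r ∈ sigma M := (sigmaCore_hall hG hM).1.2.1 r hr (hrd.trans (Subgroup.orderOf_dvd_natCard _ hx))
  have hrτ := hτ r hr hrd
  have hκL : (Cfsg.kappa L).Nonempty := Set.nonempty_iff_ne_empty.2 fun h =>
    Set.eq_empty_iff_forall_notMem.1 (OddChar.tau2_empty hG hL h) r hrτ
  obtain ⟨K, U, hKU⟩ := exists_full_decomp hG hL
  have hK1 := K_ne_bot_of_kappa hKU hκL
  have hU : U ≠ ⊥ := by
    intro hU
    have hcard := (compl_card (Decomp.compl hG hL hKU)).2
    rw [hU, bot_sup_eq] at hcard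
    have hd : r ∣ Nat.card K * Nat.card (sigmaCore L) := by
      obtain ⟨F, hF, hFe, hFc⟩ := Uniq.exists_elab_of_prank hrτ.2.2.2
      refine hcard ▸ ?_
      refine ((dvd_pow_self r (by norm_num : (1 + 1 : ℕ) ≠ 0)).trans ?_).trans (Subgroup.card_dvd_of_le hF)
      obtain ⟨i, hi⟩ := IsPGroup.iff_card.1 (Fusion.elab_isPGroup hFe)
      rw [hi] at hFc ⊢
      exact pow_dvd_pow r ((Nat.pow_le_pow_iff_right hr.one_lt).1 hFc)
    rcases hr.dvd_mul.1 hd with h | h
    · exact Support.not_kappa_of_tau2 hrτ (hKU.hall.2.1 r hr h)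
    · exact hrτ.2.1 ((sigmaCore_hall hG hL).1.2.1 r hr h)
  have hxL : x ∈ L := hCL (Subgroup.mem_centralizer_singleton_iff.2 rfl)
  have hII : IsOfTypeII L := (S1381.result hG L hL K U hKU).2 ⟨hK1, hU⟩
  have hnI := not_typeI_of_K hG hL hKU hK1
  refine ⟨L, hL, hCL, hu, hc, hinf, hfix, hτ, hII, hnI,
    (Support.fittingHallOf_eq hG hL (core_nilpotent_of_U hG hL hKU hU)).symm, ?_, ?_,
    (signalizer_P2 hG hM hL hrσ hrτ hc hκL).1, fun t htM htL => ?_⟩
  · obtain ⟨y, hy, hy1⟩ := exists_ne_one hfix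
    rw [typeA, if_neg hnI, typeCore_eq hG hL]
    exact ⟨mem_derived_of_not_kappa hG hL hKU hK1 hxL fun t ht htd => Support.not_kappa_of_tau2 (hτ t ht htd),
      hx1, y, hy.1, hy1, (Subgroup.mem_centralizer_singleton_iff.1 hy.2).symm⟩
  · rw [typeA1_eq hG hL]
    exact fun h => hrτ.2.1 ((sigmaCore_hall hG hL).1.2.1 r hr (hrd.trans (Subgroup.orderOf_dvd_natCard _ h.1)))
  · haveI := Fact.mk htM.1
    obtain ⟨g, hg⟩ := conjugate_of_sigma hG hM hL htM htL
    exact hrτ.2.1 (hg ▸ sigma_cj hrσ)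

/-- For empty `κ` the sets `A(M)` and `A₀(M)` are `M_σ` without the identity. -/
theorem mem_core_of_typeA0 (hG : IsMinSimpleOddOrder G) (hM : IsCoatom M) (hκ : Cfsg.kappa M = ∅) {a : G}
    (ha : a ∈ typeA0 M) : a ∈ sigmaCore M ∧ a ≠ 1 := by
  have hA : a ∈ typeA M := ha.resolve_right fun h => h.1 (typeI_of_empty hG hM hκ)
  obtain ⟨haM, ha1, y, hy, hy1, hay⟩ := typeA_fixed hG hM hA
  exact ⟨centralizer_le_core hG hM hκ hy hy1 ⟨haM, Subgroup.mem_centralizer_singleton_iff.2 hay⟩, ha1⟩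

/-- For empty `κ`, `M` is a Frobenius group with kernel `M_F`. -/
theorem exists_frobenius (hG : IsMinSimpleOddOrder G) (hM : IsCoatom M) (hκ : Cfsg.kappa M = ∅) :
    ∃ E : Subgroup ↥M, IsFrobeniusComplement E ∧
      frobeniusKernel E = ((fittingHall ↥M : Subgroup ↥M) : Set ↥M) := by
  obtain ⟨E, hE, hE1⟩ := exists_compl_ne hG hM hκ
  have hF := frobenius_of_empty hG hM hκ (OddChar.tau2_empty hG hM hκ) hE hE1
  refine ⟨E.subgroupOf M, hF, ?_⟩
  have hσM : sigmaCore M ≤ M := Subgroup.map_subtype_le _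
  have hmem : ∀ z : ↥M, z ∈ fittingHall ↥M ↔ (z : G) ∈ sigmaCore M := fun z => by
    rw [← fittingHallOf_eq hG hM hκ, fittingHallOf, Subgroup.mem_map]
    exact ⟨fun h => ⟨z, h, rfl⟩, fun ⟨w, hw, he⟩ => Subtype.ext he ▸ hw⟩
  have hsub : ((fittingHall ↥M : Subgroup ↥M) : Set ↥M) ⊆ frobeniusKernel (E.subgroupOf M) := fun z hz => by
    by_cases hz1 : z = 1
    · exact Or.inl hz1
    refine Or.inr fun g hg => hz1 ?_
    rw [Solv.conj_smul_eq_map] at hg
    obtain ⟨e, he, rfl⟩ := hg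
    have h1 : e ∈ fittingHall ↥M := by
      have h2 := (fittingHall_normal ↥M).conj_mem _ hz g⁻¹
      simpa [mul_assoc] using h2
    have h3 : (e : G) = 1 := Subgroup.mem_bot.1 (hE.2.2.1 ▸ Subgroup.mem_inf.2 ⟨he, (hmem e).1 h1⟩)
    rw [show e = 1 from Subtype.ext h3, map_one]
  refine (Set.eq_of_subset_of_ncard_le hsub (le_of_eq ?_) (Set.toFinite _)).symm
  show (frobeniusKernel (E.subgroupOf M)).ncard = (fittingHall ↥M : Set ↥M).ncard
  rw [← Nat.card_coe_set_eq, ← Nat.card_coe_set_eq, Solv.frob_kernel_card hF]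
  have h1 : Nat.card (fittingHall ↥M) = Nat.card (sigmaCore M) := by
    rw [← fittingHallOf_eq hG hM hκ, fittingHallOf, Subgroup.card_map_of_injective M.subtype_injective]
  show _ = Nat.card (fittingHall ↥M)
  rw [h1]
  refine Nat.eq_of_mul_eq_mul_left (Nat.card_pos (α := E)) ?_
  rw [← Solv.card_subgroupOf hE.1, Subgroup.card_mul_index, Solv.card_subgroupOf hE.1, ← (compl_card hE).2]

end Cfsg.Agent.OddLocal.Kappa
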