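import Cfsg.Agent.Lib.Char.Rational
import Cfsg.Agent.Lib.Char.Galois
import Mathlib

/-!
Integrality of averages over cosets of a normalised subgroup, and orbit congruences.
-/

set_option autoImplicit false
set_option linter.unusedSectionVars false
set_option linter.style.haveILetI false

open Cfsg Module Cfsg.Agent.Char
open scoped ComplexConjugate

namespace Cfsg.Agent.OddChar

universe u

variable {G : Type u} [Group G] [Fintype G]

theorem trace_isIntegral {n : ℕ} (T : (Fin n → ℂ) →ₗ[ℂ] (Fin n → ℂ)) {N : ℕ} (hT : T ^ (N + 2) = T) :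
    IsIntegral ℤ (LinearMap.trace ℂ _ T) := by
  have hroot : ∀ μ ∈ T.charpoly.roots, IsIntegral ℤ μ := fun μ hμ => by
    have hev : Module.End.HasEigenvalue T μ :=
      (Module.End.hasEigenvalue_iff_isRoot_charpoly T μ).2 (Polynomial.isRoot_of_mem_roots hμ)
    obtain ⟨v, hv⟩ := hev.exists_hasEigenvector
    have h1 := hv.pow_apply (N + 2)
    rw [hT, hv.apply_eq_smul] at h1
    have h2 : μ = μ ^ (N + 2) := smul_left_injective ℂ hv.2 h1
    by_cases h0 : μ = 0
    · rw [h0]; exact isIntegral_zero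
    refine root_of_unity_isIntegral (N := N + 1) (by omega) ?_
    refine mul_left_cancel₀ h0 ?_
    rw [← pow_succ', mul_one, ← h2]
  have htr : LinearMap.trace ℂ _ T = T.charpoly.roots.sum := by
    rw [← Matrix.toLin'_toMatrix' T, Matrix.trace_toLin'_eq, Matrix.trace_eq_sum_roots_charpoly,
      Matrix.charpoly_toLin']
  rw [htr]
  exact multiset_sum_mem (S := integralClosure ℤ ℂ) _ fun μ hμ => hroot μ hμ

open Classical in
/-- The average of a character over a coset of a normalised subgroup is an algebraic integer. -/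
theorem avg_isIntegral {η : G → ℂ} (hη : IsGeneralizedCharacter G η) (R : Subgroup G) {z : G}
    (hz : z ∈ Subgroup.normalizer (R : Set G)) :
    IsIntegral ℤ ((Nat.card R : ℂ)⁻¹ * ∑ u : G with u ∈ R, η (z * u)) := by
  obtain ⟨a, b, ha, hb, rfl⟩ := hη
  suffices h : ∀ χ : G → ℂ, IsCharacter G χ → IsIntegral ℤ ((Nat.card R : ℂ)⁻¹ * ∑ u : G with u ∈ R, χ (z * u)) by
    simp only [Pi.sub_apply, Finset.sum_sub_distrib, mul_sub]
    exact (h a ha).sub (h b hb)
  rintro χ ⟨n, ρ, rfl⟩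
  set s : Finset G := Finset.univ.filter (· ∈ R) with hs
  have hmem : ∀ u, u ∈ s ↔ u ∈ R := fun u => by simp [hs]
  have hcard : (s.card : ℂ) = Nat.card R := by
    rw [Nat.card_eq_fintype_card, Fintype.card_subtype]
  have hR0 : (Nat.card R : ℂ) ≠ 0 := Nat.cast_ne_zero.2 Nat.card_pos.ne'
  set π : (Fin n → ℂ) →ₗ[ℂ] (Fin n → ℂ) := (Nat.card R : ℂ)⁻¹ • ∑ u ∈ s, ρ u with hπ
  have hmul : ∀ v ∈ R, ρ v * π = π := fun v hv => by
    rw [hπ, mul_smul_comm, Finset.mul_sum]
    congr 1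
    refine Finset.sum_equiv (Equiv.mulLeft v) (fun u => ?_) fun u _ => (map_mul ρ v u).symm
    rw [hmem, hmem, Equiv.coe_mulLeft]
    exact ⟨fun h => R.mul_mem hv h, fun h => by simpa using R.mul_mem (R.inv_mem hv) h⟩
  have hidem : π * π = π := by
    conv_lhs => arg 1; rw [hπ]
    rw [smul_mul_assoc, Finset.sum_mul, Finset.sum_congr rfl fun u hu => hmul u ((hmem u).1 hu), Finset.sum_const,
      ← Nat.cast_smul_eq_nsmul ℂ, smul_smul, hcard, inv_mul_cancel₀ hR0, one_smul]
  have hcomm : ρ z * π = π * ρ z := by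
    rw [hπ, mul_smul_comm, smul_mul_assoc, Finset.mul_sum, Finset.sum_mul]
    congr 1
    refine Finset.sum_equiv (MulAut.conj z).toEquiv (fun u => ?_) fun u _ => ?_
    · rw [hmem, hmem]
      exact Subgroup.mem_normalizer_iff.1 hz u
    · rw [← map_mul, ← map_mul]
      congr 1
      simp
  have hpow : ∀ k : ℕ, (ρ z * π) ^ (k + 1) = ρ (z ^ (k + 1)) * π := fun k => by
    induction k with
    | zero => simp
    | succ k ih => rw [pow_succ, ih, mul_assoc, ← mul_assoc π, ← hcomm, mul_assoc (ρ z), hidem, ← mul_assoc,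
        ← map_mul, ← pow_succ]
  obtain ⟨N, hN⟩ := Nat.exists_eq_succ_of_ne_zero (orderOf_pos z).ne'
  have hT : (ρ z * π) ^ (N + 2) = ρ z * π := by
    rw [hpow, show N + 1 + 1 = orderOf z + 1 by omega, pow_succ, pow_orderOf_eq_one, one_mul]
  have he : (Nat.card R : ℂ)⁻¹ * ∑ u ∈ s, ρ.character (z * u) = LinearMap.trace ℂ _ (ρ z * π) := by
    rw [hπ, mul_smul_comm, map_smul, Finset.mul_sum (a := ρ z), map_sum, smul_eq_mul]
    congr 1
    exact Finset.sum_congr rfl fun u _ => by rw [← map_mul]; rfl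
  rw [he]
  exact trace_isIntegral _ hT

/-- An integer divisible by `t` in the algebraic integers. -/
theorem int_dvd_of_integral {t : ℕ} (ht : t ≠ 0) {z : ℤ} {γ : ℂ} (hγ : IsIntegral ℤ γ) (h : (z : ℂ) = t * γ) :
    (t : ℤ) ∣ z := by
  have e : γ = (((z : ℚ) / t : ℚ) : ℂ) := by
    push_cast
    rw [h, mul_div_cancel_left₀ _ (Nat.cast_ne_zero.2 ht)]
  obtain ⟨k, hk⟩ := isIntegral_rat_cast_imp (e ▸ hγ)
  refine ⟨k, ?_⟩
  have h2 : (k : ℚ) * t = z := by rw [hk, div_mul_cancel₀ _ (Nat.cast_ne_zero.2 ht)]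
  rw [mul_comm]
  exact_mod_cast h2.symm

open Classical in
/-- The sum of an invariant integral function over a subgroup is congruent to the sum over the fixed points. -/
theorem sum_mod_fixed {t : ℕ} (ht : t.Prime) {w : G} (hw : orderOf w = t) (R : Subgroup G)
    (hn : w ∈ Subgroup.normalizer (R : Set G)) (F : G → ℂ) (hF : ∀ u ∈ R, IsIntegral ℤ (F u))
    (hinv : ∀ u ∈ R, F (w * u * w⁻¹) = F u) :
    ∃ γ : ℂ, IsIntegral ℤ γ ∧
      (∑ u : G with u ∈ R, F u) =
        (∑ u : G with u ∈ R ⊓ Subgroup.centralizer ({w} : Set G), F u) + (t : ℂ) * γ := by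
  set c : G → G := fun u => w * u * w⁻¹ with hc
  set N : Finset G := Finset.univ.filter fun u => u ∈ R ∧ w * u ≠ u * w with hN
  have hsplit : (∑ u : G with u ∈ R, F u) =
      (∑ u : G with u ∈ R ⊓ Subgroup.centralizer ({w} : Set G), F u) + ∑ u ∈ N, F u := by
    rw [← Finset.sum_filter_add_sum_filter_not (Finset.univ.filter (· ∈ R)) (fun u => w * u = u * w),
      Finset.filter_filter, Finset.filter_filter]
    congr 1
    refine Finset.sum_congr (Finset.filter_congr fun u _ => ?_) fun _ _ => rfl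
    rw [Subgroup.mem_inf, Subgroup.mem_centralizer_singleton_iff]
    exact and_congr_right fun _ => eq_comm
  set orb : G → Finset G := fun u => (Finset.range t).image fun k => w ^ k * u * (w ^ k)⁻¹ with horb
  have hwt : w ^ t = 1 := by rw [← hw, pow_orderOf_eq_one]
  have hRmem : ∀ k u, u ∈ R → w ^ k * u * (w ^ k)⁻¹ ∈ R := fun k u hu =>
    (Subgroup.mem_normalizer_iff.1 (pow_mem hn k) u).1 hu
  have hperiod : ∀ u k, w ^ k * u * (w ^ k)⁻¹ = w ^ (k % t) * u * (w ^ (k % t))⁻¹ := fun u k => by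
    conv_lhs => rw [← Nat.mod_add_div k t, pow_add, pow_mul, hwt, one_pow, mul_one]
  have hmemorb : ∀ {u v}, v ∈ orb u ↔ ∃ k : ℕ, v = w ^ k * u * (w ^ k)⁻¹ := fun {u v} => by
    simp only [horb, Finset.mem_image, Finset.mem_range]
    exact ⟨fun ⟨k, _, e⟩ => ⟨k, e.symm⟩, fun ⟨k, e⟩ => ⟨k % t, Nat.mod_lt _ ht.pos, (e.trans (hperiod u k)).symm⟩⟩
  have horbeq : ∀ {u v}, v ∈ orb u → orb v = orb u := fun {u v} hv => by
    obtain ⟨k, rfl⟩ := hmemorb.1 hv
    ext x
    rw [hmemorb, hmemorb]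
    constructor
    · rintro ⟨j, rfl⟩
      exact ⟨j + k, by rw [pow_add]; group⟩
    · rintro ⟨j, rfl⟩
      refine ⟨j + (t - k % t), ?_⟩
      rw [hperiod u k]
      have e : w ^ (j + (t - k % t)) * w ^ (k % t) = w ^ j := by
        rw [← pow_add, add_assoc, Nat.sub_add_cancel (Nat.mod_lt _ ht.pos).le, pow_add, hwt, mul_one]
      calc w ^ j * u * (w ^ j)⁻¹ = (w ^ (j + (t - k % t)) * w ^ (k % t)) * u *
            (w ^ (j + (t - k % t)) * w ^ (k % t))⁻¹ := by rw [e]
        _ = _ := by group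
  have hN' : ∀ u, u ∈ N ↔ u ∈ R ∧ w * u ≠ u * w := fun u => by simp [hN]
  have horbN : ∀ u ∈ N, orb u ⊆ N := fun u hu v hv => by
    obtain ⟨k, rfl⟩ := hmemorb.1 hv
    refine (hN' _).2 ⟨hRmem k u ((hN' u).1 hu).1, fun e => ((hN' u).1 hu).2 ?_⟩
    calc w * u = (w ^ k)⁻¹ * (w * (w ^ k * u * (w ^ k)⁻¹)) * w ^ k := by
          rw [show w * (w ^ k * u * (w ^ k)⁻¹) = (w * w ^ k) * u * (w ^ k)⁻¹ by group,
            (Commute.self_pow w k).eq]
          group
      _ = u * w := by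
          rw [e, show w ^ k * u * (w ^ k)⁻¹ * w = w ^ k * u * ((w ^ k)⁻¹ * w) by group,
            (((Commute.self_pow w k).symm).inv_left).eq]
          group
  have hself : ∀ u, u ∈ orb u := fun u => hmemorb.2 ⟨0, by simp⟩
  have hFc : ∀ (k : ℕ) (u : G), u ∈ R → F (w ^ k * u * (w ^ k)⁻¹) = F u := fun k u hu => by
    induction k with
    | zero => simp
    | succ k ih =>
      rw [pow_succ', show w * w ^ k * u * (w * w ^ k)⁻¹ = w * (w ^ k * u * (w ^ k)⁻¹) * w⁻¹ by group,
        hinv _ (hRmem k u hu), ih]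
  have hinj : ∀ u ∈ N, (orb u).card = t := fun u hu => by
    rw [horb, Finset.card_image_of_injOn, Finset.card_range]
    have key : ∀ i j, i < j → j < t → w ^ i * u * (w ^ i)⁻¹ ≠ w ^ j * u * (w ^ j)⁻¹ := by
      intro i j hij hj e
      refine ((hN' u).1 hu).2 ?_
      have e' : w ^ j = w ^ i * w ^ (j - i) := by rw [← pow_add, Nat.add_sub_cancel' hij.le]
      rw [e'] at e
      have e2 : Commute (w ^ (j - i)) u := by
        have h1 : u = w ^ (j - i) * u * (w ^ (j - i))⁻¹ := by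
          calc u = (w ^ i)⁻¹ * (w ^ i * u * (w ^ i)⁻¹) * w ^ i := by group
            _ = (w ^ i)⁻¹ * ((w ^ i * w ^ (j - i)) * u * (w ^ i * w ^ (j - i))⁻¹) * w ^ i := by rw [e]
            _ = _ := by group
        exact (eq_mul_inv_iff_mul_eq.1 h1).symm
      obtain ⟨k, hk⟩ := exists_pow_eq_self_of_coprime (x := w) (n := j - i) (by
        rw [hw]; exact (Nat.coprime_of_lt_prime (by omega) (by omega) ht).symm)
      have e5 := e2.pow_left k
      rwa [hk] at e5
    intro i hi j hj e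
    simp only [Finset.coe_range, Set.mem_Iio] at hi hj
    rcases lt_trichotomy i j with h | h | h
    · exact absurd e (key i j h hj)
    · exact h
    · exact absurd e.symm (key j i h hi)
  have hO : ∀ O ∈ N.image orb, ∃ γ : ℂ, IsIntegral ℤ γ ∧ ∑ u ∈ N with orb u = O, F u = (t : ℂ) * γ := by
    intro O hO
    obtain ⟨u, hu, rfl⟩ := Finset.mem_image.1 hO
    refine ⟨F u, hF u ((hN' u).1 hu).1, ?_⟩
    have hset : N.filter (fun v => orb v = orb u) = orb u := by
      ext v
      rw [Finset.mem_filter]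
      exact ⟨fun h => h.2 ▸ hself v, fun h => ⟨horbN u hu h, horbeq h⟩⟩
    rw [hset, Finset.sum_congr rfl (g := fun _ => F u), Finset.sum_const, hinj u hu, nsmul_eq_mul]
    intro v hv
    obtain ⟨k, rfl⟩ := hmemorb.1 hv
    exact hFc k u ((hN' u).1 hu).1
  choose γ hγ hγ' using hO
  refine ⟨∑ O ∈ (N.image orb).attach, γ O.1 O.2, IsIntegral.sum _ fun O _ => hγ O.1 O.2, ?_⟩
  rw [hsplit]
  congr 1
  rw [← Finset.sum_fiberwise_of_maps_to (g := orb) (t := N.image orb) (fun u hu => Finset.mem_image_of_mem orb hu),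
    ← Finset.sum_attach (N.image orb), Finset.mul_sum]
  exact Finset.sum_congr rfl fun O _ => hγ' O.1 O.2

end Cfsg.Agent.OddChar
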