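import Cfsg.Agent.Lib.Char.Clifford
import Cfsg.Agent.Lib.Char.CliffordInd
import Cfsg.Agent.Lib.Char.GaloisConj
import Cfsg.Prelude.Def_OddOrderChar

/-!
Elementary facts about the functions induced from a normal subgroup.
-/

set_option autoImplicit false
set_option linter.unusedSectionVars false
set_option linter.style.haveILetI false

open Cfsg Cfsg.Agent.Char
open scoped ComplexConjugate

namespace Cfsg.Agent.OddChar

universe u

variable {X : Type u} [Group X] [Fintype X] (K : Subgroup X) [hKn : K.Normal] [Fintype K]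

omit [Fintype K] in
/-- An induced function vanishes outside the normal subgroup. -/
theorem indFun_vanish (θ : K → ℂ) {x : X} (hx : x ∉ K) : indFun K θ x = 0 := by
  rw [indFun, Finset.sum_eq_zero, mul_zero]
  intro y _
  refine Function.extend_apply' _ _ _ ?_
  rintro ⟨z, hz⟩
  refine hx ?_
  have h := hKn.conj_mem _ z.2 y
  rw [show (z : X) = y⁻¹ * x * y from hz, show y * (y⁻¹ * x * y) * y⁻¹ = x by group] at h
  exact h

open Classical in
/-- The inner product of two induced irreducible characters counts the conjugations taking one to the other. -/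
theorem indFun_inner (θ θ' : IrrCharacter K) :
    classInner (indFun K (θ : K → ℂ)) (indFun K (θ' : K → ℂ)) = (Nat.card K : ℂ)⁻¹ *
      ((Finset.univ.filter fun g : X => irrComp (MulAut.conjNormal g) θ' = θ).card : ℂ) := by
  rw [frobenius K (θ : K → ℂ) (isClassFunction_indFun K _)]
  have hres : (fun x : K => indFun K (θ' : K → ℂ) x) =
      (Nat.card K : ℂ)⁻¹ • ∑ g : X, fun x : K => (irrComp (MulAut.conjNormal g) θ' : K → ℂ) x := by
    funext x
    rw [indFun_restrict_normal (θ' : K → ℂ) x, Pi.smul_apply, Finset.sum_apply, smul_eq_mul]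
    rfl
  rw [hres, classInner_smul_right, classInner_sum_right, map_inv₀, Complex.conj_natCast, Finset.card_filter,
    Nat.cast_sum]
  refine congrArg _ (Finset.sum_congr rfl fun g _ => ?_)
  rw [irr_orth θ.2 (irrComp (MulAut.conjNormal g) θ').2]
  by_cases h : irrComp (MulAut.conjNormal g) θ' = θ
  · rw [if_pos (congrArg Subtype.val h).symm, if_pos h, Nat.cast_one]
  · rw [if_neg fun e => h (Subtype.ext e.symm), if_neg h, Nat.cast_zero]

/-- Characters which are not conjugate induce orthogonally. -/
theorem indFun_inner_zero {θ θ' : IrrCharacter K} (h : ∀ g : X, irrComp (MulAut.conjNormal g) θ' ≠ θ) :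
    classInner (indFun K (θ : K → ℂ)) (indFun K (θ' : K → ℂ)) = 0 := by
  classical
  rw [indFun_inner, Finset.filter_false_of_mem fun g _ => h g, Finset.card_empty, Nat.cast_zero, mul_zero]

/-- The norm of an induced irreducible character is at most the index. -/
theorem indFun_norm_le (θ : IrrCharacter K) :
    ∃ n : ℕ, classInner (indFun K (θ : K → ℂ)) (indFun K (θ : K → ℂ)) = (n : ℂ) ∧ n ≤ K.index := by
  classical
  obtain ⟨n, hn⟩ := classInner_natCast (isCharacter_indFun K (irr_isCharacter θ.2))
    (isCharacter_indFun K (irr_isCharacter θ.2))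
  refine ⟨n, hn, ?_⟩
  rw [indFun_inner] at hn
  set c := (Finset.univ.filter fun g : X => irrComp (MulAut.conjNormal g) θ = θ).card
  have h2 : n * Nat.card K = c := by
    have h1 : (c : ℂ) = (n : ℂ) * (Nat.card K : ℂ) := by
      rw [← hn, mul_comm _ (Nat.card K : ℂ), ← mul_assoc, mul_inv_cancel₀ (Nat.cast_ne_zero.2 Nat.card_pos.ne'),
        one_mul]
    exact_mod_cast h1.symm
  have h3 : n * Nat.card K ≤ K.index * Nat.card K := by
    rw [Subgroup.index_mul_card, h2, Nat.card_eq_fintype_card]
    exact Finset.card_le_univ _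
  exact Nat.le_of_mul_le_mul_right h3 Nat.card_pos

/-- Characters with the same induced function are conjugate. -/
theorem exists_conj_of_indFun_eq {θ θ' : IrrCharacter K}
    (h : indFun K (θ : K → ℂ) = indFun K (θ' : K → ℂ)) : ∃ g : X, irrComp (MulAut.conjNormal g) θ = θ' := by
  by_contra hno
  push Not at hno
  have h0 := indFun_inner_zero K (θ := θ') (θ' := θ) hno
  rw [h] at h0
  have h1 := congrFun (classInner_self_eq_zero h0) 1
  rw [indFun_one, Pi.zero_apply] at h1
  exact mul_ne_zero (Nat.cast_ne_zero.2 Subgroup.index_ne_zero_of_finite) (irr_one_ne_zero θ'.2) h1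

omit [Fintype X] in
/-- Conjugation by the normal subgroup fixes its characters. -/
theorem irrComp_conjNormal_of_mem (θ : IrrCharacter K) (k : K) :
    irrComp (MulAut.conjNormal (k : X)) θ = θ := Subtype.ext (funext fun x => by
  rw [irrComp_apply, show MulAut.conjNormal (k : X) x = k * x * k⁻¹ from Subtype.ext (MulAut.conjNormal_apply _ _)]
  exact isClassFunction_character (irr_isCharacter θ.2) x k)

/-- At most `index` irreducible characters induce to a given function. -/
theorem card_fiber_le (ψ : X → ℂ) :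
    Nat.card {θ : IrrCharacter K // indFun K (θ : K → ℂ) = ψ} ≤ K.index := by
  classical
  rcases isEmpty_or_nonempty {θ : IrrCharacter K // indFun K (θ : K → ℂ) = ψ} with h | ⟨⟨θ, hθ⟩⟩
  · rw [Nat.card_of_isEmpty]; exact Nat.zero_le _
  let f : X ⧸ K → IrrCharacter K := fun q => irrComp (MulAut.conjNormal q.out) θ
  have hsub : ∀ θ' : {θ : IrrCharacter K // indFun K (θ : K → ℂ) = ψ}, ∃ q, f q = θ' := by
    intro θ'
    obtain ⟨g, hg⟩ := exists_conj_of_indFun_eq K (hθ.trans θ'.2.symm)
    refine ⟨(g : X ⧸ K), ?_⟩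
    obtain ⟨k, hk⟩ := QuotientGroup.mk_out_eq_mul K g
    show irrComp (MulAut.conjNormal (Quotient.out (g : X ⧸ K))) θ = _
    rw [hk]
    rw [← hg]
    refine Subtype.ext (funext fun x => ?_)
    rw [irrComp_apply, irrComp_apply, map_mul, MulAut.mul_apply,
      show MulAut.conjNormal (k : X) x = k * x * k⁻¹ from Subtype.ext (MulAut.conjNormal_apply _ _),
      map_mul, map_mul, map_inv]
    exact isClassFunction_character (irr_isCharacter θ.2) _ _
  choose q hq using hsub
  refine Nat.card_le_card_of_injective q fun a b e => Subtype.ext ?_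
  rw [← hq a, ← hq b, e]

omit [Fintype K] in
/-- Induction commutes with powers prime to the order. -/
theorem indFun_pow {k : ℕ} (hk : k.Coprime (Nat.card X)) (θ : K → ℂ) :
    (fun x => indFun K θ (x ^ k)) = indFun K (fun y => θ (y ^ k)) := by
  funext x
  rw [indFun, indFun]
  refine congrArg _ (Finset.sum_congr rfl fun y _ => ?_)
  have e : y⁻¹ * x ^ k * y = (y⁻¹ * x * y) ^ k := by
    conv_rhs => rw [show y⁻¹ * x * y = y⁻¹ * x * y⁻¹⁻¹ by rw [inv_inv], conj_pow, inv_inv]
  rw [e]
  by_cases h : y⁻¹ * x * y ∈ K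
  · rw [extendByZero_mem K _ (pow_mem h k), extendByZero_mem K _ h]
    rfl
  · have h2 : (y⁻¹ * x * y) ^ k ∉ K := fun hh => h (by
      obtain ⟨j, hj⟩ := exists_pow_eq_self_of_coprime (x := y⁻¹ * x * y) (n := k)
        (hk.coprime_dvd_right (orderOf_dvd_natCard _))
      exact hj ▸ pow_mem hh j)
    rw [extendByZero, extendByZero, Function.extend_apply' _ _ _ (by rintro ⟨z, hz⟩; exact h2 (hz ▸ z.2)),
      Function.extend_apply' _ _ _ (by rintro ⟨z, hz⟩; exact h (hz ▸ z.2))]
    rfl

omit [Fintype K] in
theorem conjFun_indFun' (θ : K → ℂ) : conjFun (indFun K θ) = indFun K (conjFun θ) := by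
  funext x
  rw [conjFun, indFun, indFun, map_mul, map_inv₀, Complex.conj_natCast, map_sum]
  refine congrArg _ (Finset.sum_congr rfl fun y _ => ?_)
  by_cases h : y⁻¹ * x * y ∈ K
  · rw [extendByZero_mem K _ h, extendByZero_mem K _ h]
    rfl
  · rw [extendByZero, extendByZero, Function.extend_apply' _ _ _ (by rintro ⟨z, hz⟩; exact h (hz ▸ z.2)),
      Function.extend_apply' _ _ _ (by rintro ⟨z, hz⟩; exact h (hz ▸ z.2))]
    exact map_zero _

end Cfsg.Agent.OddChar
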