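import Cfsg.Agent.Lib.Char.Dade
import Cfsg.Agent.Lib.Char.Linear
import Cfsg.Agent.Lib.Char.Induction
import Mathlib

/-!
Norm bounds from two Dade supports, the final inequality, and linear characters.
-/

set_option autoImplicit false
set_option linter.unusedSectionVars false
set_option linter.style.haveILetI false

open Cfsg Cfsg.Agent.Char
open scoped ComplexConjugate

namespace Cfsg.Agent.OddChar

universe u

variable {G : Type u} [Group G] [Fintype G]

open Classical in
/-- The mean square of `η` over the coset at `a`. -/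
noncomputable def avgSq (R : G → Subgroup G) (η : G → ℂ) (a : G) : ℝ :=
  (Nat.card (R a) : ℝ)⁻¹ * ∑ u : G with u ∈ R a, ‖η (a * u)‖ ^ 2

theorem avgSq_nonneg (R : G → Subgroup G) (η : G → ℂ) (a : G) : 0 ≤ avgSq R η a :=
  mul_nonneg (inv_nonneg.2 (Nat.cast_nonneg _)) (Finset.sum_nonneg fun _ _ => sq_nonneg _)

variable {A : Set G} {L : Subgroup G} {R : G → Subgroup G}

open Classical in
theorem dade_sum_sq (hD : DadeHypothesis A L R) {η : G → ℂ} (hη : IsClassFunction G η) :
    (Nat.card L : ℝ) * ∑ g : G with g ∈ dadeSet A R, ‖η g‖ ^ 2 =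
      (Nat.card G : ℝ) * ∑ a : G with a ∈ A, avgSq R η a := by
  have h := dade_sum hD (f := fun g => ((‖η g‖ ^ 2 : ℝ) : ℂ)) fun g k => by
    show ((‖η (k * g * k⁻¹)‖ ^ 2 : ℝ) : ℂ) = _
    rw [hη g k]
  apply Complex.ofReal_injective
  simp only [avgSq, Complex.ofReal_mul, Complex.ofReal_sum, Complex.ofReal_natCast, Complex.ofReal_inv]
  exact h

open Classical in
/-- Two disjoint Dade supports bound the norm from below. -/
theorem norm_two (hD : DadeHypothesis A L R) {A' : Set G} {M : Subgroup G} {R' : G → Subgroup G}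
    (hD' : DadeHypothesis A' M R') (hdis : ∀ g ∈ dadeSet A R, g ∉ dadeSet A' R') {η : G → ℂ}
    (hη : IsClassFunction G η) (h1 : classInner η η = 1) :
    (Nat.card L : ℝ)⁻¹ * (∑ a : G with a ∈ A, avgSq R η a) +
      (Nat.card M : ℝ)⁻¹ * (∑ a : G with a ∈ A', avgSq R' η a) ≤ 1 := by
  have hG : (Nat.card G : ℝ) ≠ 0 := Nat.cast_ne_zero.2 Nat.card_pos.ne'
  have e : ∀ {B : Set G} {N : Subgroup G} {P : G → Subgroup G}, DadeHypothesis B N P →
      (Nat.card N : ℝ)⁻¹ * (∑ a : G with a ∈ B, avgSq P η a) =
        (Nat.card G : ℝ)⁻¹ * ∑ g : G with g ∈ dadeSet B P, ‖η g‖ ^ 2 := fun {B N P} hP => by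
    have h := dade_sum_sq hP hη
    have hN : (Nat.card N : ℝ) ≠ 0 := Nat.cast_ne_zero.2 Nat.card_pos.ne'
    field_simp
    linarith
  rw [e hD, e hD', ← mul_add]
  have hn : (Nat.card G : ℝ)⁻¹ * ∑ g, ‖η g‖ ^ 2 = 1 := by
    rw [classInner_self_re] at h1
    exact_mod_cast h1
  refine le_trans (mul_le_mul_of_nonneg_left ?_ (inv_nonneg.2 (Nat.cast_nonneg _))) hn.le
  rw [← Finset.sum_union (Finset.disjoint_left.2 fun g hg hg' =>
    hdis g (Finset.mem_filter.1 hg).2 (Finset.mem_filter.1 hg').2)]
  exact Finset.sum_le_sum_of_subset_of_nonneg (Finset.subset_univ _) fun _ _ _ => sq_nonneg _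

/-- The arithmetic at the end. -/
theorem key_ineq {t e a g : ℤ} (he : 3 ≤ e) (ht : 2 * e - 1 ≤ t) (hd : t ∣ a - e - g) :
    (e : ℝ) < 2 / 3 * ((t - 1) * g ^ 2) + 4 / 5 * a ^ 2 := by
  have h : 15 * e < 10 * ((t - 1) * g ^ 2) + 12 * a ^ 2 := by
    obtain ⟨k, hk⟩ := hd
    rcases eq_or_ne g 0 with rfl | hg
    · rcases eq_or_ne k 0 with rfl | hk0
      · obtain rfl : a = e := by linarith
        nlinarith
      · have h1 : (t - e) ^ 2 ≤ a ^ 2 := by
          have : a = e + t * k := by linarith
          rcases lt_or_gt_of_ne hk0 with h | h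
          · have h' : t * k ≤ -t := by nlinarith
            nlinarith
          · have h' : t ≤ t * k := by nlinarith
            nlinarith
        rcases (show e = 3 ∨ 4 ≤ e by omega) with rfl | h4
        · nlinarith
        · have h2 : (e - 1) ^ 2 ≤ a ^ 2 := le_trans (by nlinarith) h1
          nlinarith
    rcases eq_or_ne a 0 with rfl | ha
    · have h1 : 4 ≤ g ^ 2 := by
        have h2 : g ≠ 1 ∧ g ≠ -1 := by
          constructor <;> rintro rfl <;>
          · rcases lt_trichotomy k 0 with h | h | h
            · have : t * k ≤ -t := by nlinarith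
              nlinarith
            · subst h; linarith
            · have : t ≤ t * k := by nlinarith
              nlinarith
        rcases lt_or_gt_of_ne hg with h | h
        · have : g ≤ -2 := by omega
          nlinarith
        · have : 2 ≤ g := by omega
          nlinarith
      nlinarith
    · have h1 : 1 ≤ g ^ 2 := by
        rcases lt_or_gt_of_ne hg with h | h
        · nlinarith
        · nlinarith
      have h2 : 1 ≤ a ^ 2 := by
        rcases lt_or_gt_of_ne ha with h | h
        · nlinarith
        · nlinarith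
      nlinarith
  have h' : (15 * e : ℝ) < 10 * ((t - 1) * g ^ 2) + 12 * a ^ 2 := by exact_mod_cast h
  linarith

section Linear

variable {Y : Type u} [Group Y] [Finite Y]

/-- Linear characters separate the elements outside the derived subgroup. -/
theorem exists_hom_ne_one {y : Y} (hy : y ∉ commutator Y) : ∃ l : Y →* ℂˣ, l y ≠ 1 := by
  haveI : NeZero (Monoid.exponent (Abelianization Y)) := ⟨Monoid.exponent_ne_zero_of_finite⟩
  obtain ⟨φ, hφ⟩ := CommGroup.exists_apply_ne_one_of_hasEnoughRootsOfUnity (Abelianization Y) ℂ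
    (a := Abelianization.of y) fun h => hy (by rwa [← Abelianization.ker_of])
  exact ⟨φ.comp Abelianization.of, hφ⟩

/-- Orthogonality of the linear characters. -/
theorem sum_hom_eq [Fintype (Y →* ℂˣ)] (y : Y) [Decidable (y ∈ commutator Y)] :
    ∑ l : Y →* ℂˣ, (l y : ℂ) = if y ∈ commutator Y then ((commutator Y).index : ℂ) else 0 := by
  split_ifs with h
  · rw [Finset.sum_congr rfl (g := fun _ => (1 : ℂ)) fun l _ => by
      rw [show l y = 1 from Abelianization.commutator_subset_ker l h, Units.val_one]]
    rw [Finset.sum_const, nsmul_one, Finset.card_univ, ← Nat.card_eq_fintype_card, card_hom_units]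
  · obtain ⟨l₀, hl₀⟩ := exists_hom_ne_one h
    refine (mul_eq_zero.1 (?_ : ((l₀ y : ℂ) - 1) * _ = 0)).resolve_left
      (sub_ne_zero.2 fun e => hl₀ (Units.ext e))
    rw [sub_mul, one_mul, sub_eq_zero, Finset.mul_sum]
    exact Fintype.sum_equiv (Equiv.mulLeft l₀) _ _ fun l => by simp

/-- A finite nilpotent group is not covered modulo its derived subgroup by a proper subgroup. -/
theorem eq_top_of_sup_commutator [Group.IsNilpotent Y] {C : Subgroup Y} (h : C ⊔ commutator Y = ⊤) : C = ⊤ := by
  by_contra hC
  obtain ⟨N, hN, hCN⟩ := (eq_top_or_exists_le_coatom C).resolve_left hC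
  haveI : N.Normal := Subgroup.NormalizerCondition.normal_of_coatom N normalizerCondition_of_isNilpotent hN
  haveI : IsSimpleGroup (Y ⧸ N) :=
    { exists_pair_ne := (QuotientGroup.nontrivial_iff.2 hN.1).exists_pair_ne
      eq_bot_or_eq_top_of_normal := fun K _ => by
        rcases hN.le_iff.1 (show N ≤ K.comap (QuotientGroup.mk' N) from fun x hx => by
          rw [Subgroup.mem_comap, QuotientGroup.mk'_apply, (QuotientGroup.eq_one_iff x).2 hx]; exact K.one_mem) with h1 | h1
        · exact Or.inr (by
            rw [← Subgroup.map_comap_eq_self_of_surjective (QuotientGroup.mk'_surjective N) K, h1,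
              ← MonoidHom.range_eq_map, MonoidHom.range_eq_top.2 (QuotientGroup.mk'_surjective N)])
        · exact Or.inl (by
            rw [← Subgroup.map_comap_eq_self_of_surjective (QuotientGroup.mk'_surjective N) K, h1,
              QuotientGroup.map_mk'_self]) }
  refine hN.1 (top_le_iff.1 (h.ge.trans (sup_le hCN ?_)))
  have : IsMulCommutative (Y ⧸ N) := by
    haveI := Group.nilpotent_quotient_of_nilpotent N
    rcases (inferInstance : (Subgroup.center (Y ⧸ N)).Normal).eq_bot_or_eq_top with h1 | h1
    · exact absurd h1 (Group.IsNilpotent.center_ne_bot _)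
    · exact ⟨⟨fun a b => (Subgroup.mem_center_iff.1 (h1 ▸ Subgroup.mem_top b) a)⟩⟩
  exact Subgroup.Normal.quotient_commutative_iff_commutator_le.1 this

end Linear

end Cfsg.Agent.OddChar
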