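import Cfsg.Agent.Lib.OddChar.CohExtend
import Cfsg.Agent.Lib.OddChar.InducedFamily
import Cfsg.Agent.Lib.OddChar.NormBound
import Cfsg.Agent.Lib.Char.RealClass
import Cfsg.Agent.Lib.Char.Inflate

/-!
The coherent family induced from a kernel whose characters of small degree are built up degree by
degree.
-/

set_option autoImplicit false
set_option linter.unusedSectionVars false
set_option linter.style.haveILetI false

open Cfsg Cfsg.Agent.Char
open scoped ComplexConjugate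

namespace Cfsg.Agent.OddChar

universe u

variable {G : Type u} [Group G] [Fintype G] {A : Set G} {L : Subgroup G} [Fintype L] {R : G → Subgroup G}
  {K : Subgroup L} [hKn : K.Normal] [Fintype K]

theorem chain_arith {s a SV ST e : ℕ} (hs : 1 ≤ s) (ha : 1 + s ≤ a) (hge : ((1 + s) * a) ^ 2 ≤ 1 + SV + ST)
    (hV : SV ≤ s * a ^ 2) (h2 : 2 * (e * (2 * ((1 + s) * a) + 1)) ≤ s * (2 * ((1 + s) * a) + 1)) :
    e * (2 * ((1 + s) * a) + 1) < ST := by
  have h3 := Nat.mul_le_mul_right (a * (s ^ 2 + s + 1)) ha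
  have h4 : (s ^ 2 + s + 1) * a ^ 2 ≤ 1 + ST := by nlinarith
  have h5 : s + 2 < 2 * ((1 + s) * a) * (s ^ 2 + 1) := by
    have h6 : 1 + s ≤ (1 + s) * a := Nat.le_mul_of_pos_right _ (by omega)
    have h7 : 1 ≤ s ^ 2 + 1 := Nat.le_add_left _ _
    have h8 := Nat.mul_le_mul h6 h7
    linarith
  nlinarith

/-- A kernel whose linear characters induce irreducibly, with its Dade map. -/
structure Kernel (A : Set G) (L : Subgroup G) [Fintype L] (R : G → Subgroup G) (K : Subgroup L) [Fintype K] :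
    Prop where
  dade : DadeHypothesis A L R
  powA : ∀ a ∈ A, ∀ k : ℕ, k.Coprime (Nat.card G) → a ^ k ∈ A ∧ R (a ^ k) = R a
  mem_A : ∀ x : L, x ∈ K → x ≠ 1 → (x : G) ∈ A
  odd : Odd (Nat.card L)
  solvable : Group.IsSolvable K
  ne_bot : K ≠ ⊥
  three_le : 3 ≤ K.index
  linear : ∀ θ : IrrCharacter K, (θ : K → ℂ) ≠ (fun _ => 1) → deg (θ : K → ℂ) = 1 →
    IsIrrCharacter L (indFun K (θ : K → ℂ))

/-- The irreducible characters induced from nontrivial linear characters, or from nontrivial characters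
trivial on `M₁` of degree at most `b`. -/
def famSet (K M₁ : Subgroup L) (b : ℕ) : Set (L → ℂ) :=
  {ψ | IsIrrCharacter L ψ ∧ ∃ θ : IrrCharacter K, (θ : K → ℂ) ≠ (fun _ => 1) ∧
    (deg (θ : K → ℂ) = 1 ∨
      ((∀ x : K, (x : L) ∈ M₁ → (θ : K → ℂ) x = (θ : K → ℂ) 1) ∧ deg (θ : K → ℂ) ≤ b)) ∧
    ψ = indFun K (θ : K → ℂ)}

theorem famSet_mono (M₁ : Subgroup L) {b b' : ℕ} (h : b ≤ b') : famSet K M₁ b ⊆ famSet K M₁ b' := by
  rintro ψ ⟨hψ, θ, h1, h2, e⟩
  exact ⟨hψ, θ, h1, h2.imp_right fun h3 => ⟨h3.1, h3.2.trans h⟩, e⟩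

theorem deg_indFun (θ : IrrCharacter K) (e : ℕ) (he : K.index = e) :
    indFun K (θ : K → ℂ) 1 = (deg (θ : K → ℂ) : ℂ) * (e : ℂ) := by
  rw [indFun_one, char_one_eq_deg (irr_isCharacter θ.2), he, mul_comm]

namespace Kernel

variable (F : Kernel A L R K)
include F

theorem supp (θ : K → ℂ) : ∀ x : L, x ≠ 1 → (x : G) ∉ A → indFun K θ x = 0 := fun _ hx1 hxA =>
  indFun_vanish K θ fun h => hxA (F.mem_A _ h hx1)

theorem famSet_supp (M₁ : Subgroup L) (b : ℕ) :
    ∀ ψ ∈ famSet K M₁ b, ∀ x : L, x ≠ 1 → (x : G) ∉ A → ψ x = 0 := by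
  rintro ψ ⟨-, θ, -, -, rfl⟩
  exact F.supp _

theorem famSet_conj (M₁ : Subgroup L) (b : ℕ) :
    ∀ ψ ∈ famSet K M₁ b, conjFun ψ ∈ famSet K M₁ b ∧ conjFun ψ ≠ ψ := by
  rintro ψ ⟨hψ, θ, h1, h2, rfl⟩
  have hdeg : ∀ (f : K → ℂ), IsCharacter K f → deg (fun x => conj (f x)) = deg f := fun f _ => by
    simp [deg]
  refine ⟨⟨(irrConj (⟨_, hψ⟩ : IrrCharacter L)).2, irrConj θ, fun e => h1 ?_, ?_, conjFun_indFun' K _⟩, fun e => ?_⟩
  · funext x
    have h := congrFun e x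
    change conj ((θ : K → ℂ) x) = 1 at h
    simpa using congrArg conj h
  · rcases h2 with h | ⟨h, h'⟩
    · exact Or.inl ((hdeg _ (irr_isCharacter θ.2)).trans h)
    · refine Or.inr ⟨fun x hx => ?_, (hdeg _ (irr_isCharacter θ.2)).le.trans h'⟩
      show conj ((θ : K → ℂ) x) = conj ((θ : K → ℂ) 1)
      rw [h x hx]
  · have h3 := irrConj_eq_self_iff_one F.odd (⟨_, hψ⟩ : IrrCharacter L) (Subtype.ext e)
    have h4 := congrFun h3 1
    change indFun K (θ : K → ℂ) 1 = 1 at h4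
    rw [deg_indFun θ K.index rfl, ← Nat.cast_mul, Nat.cast_eq_one] at h4
    have h5 := F.three_le
    have h6 := deg_pos θ.2
    have h7 := Nat.eq_one_of_mul_eq_one_left h4
    omega

theorem famSet_pow (M₁ : Subgroup L) (b : ℕ) :
    ∀ ψ ∈ famSet K M₁ b, ∀ k : ℕ, k.Coprime (Nat.card G) → (fun x => ψ (x ^ k)) ∈ famSet K M₁ b := by
  rintro ψ ⟨hψ, θ, h1, h2, rfl⟩ k hk
  have hkL : k.Coprime (Nat.card L) := hk.coprime_dvd_right (Subgroup.card_subgroup_dvd_card L)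
  have hkK : k.Coprime (Nat.card K) := hkL.coprime_dvd_right (Subgroup.card_subgroup_dvd_card K)
  refine ⟨isIrrCharacter_pow hψ hkL, ⟨_, isIrrCharacter_pow θ.2 hkK⟩, fun e => h1 ?_, ?_, indFun_pow K hkL _⟩
  · funext x
    obtain ⟨y, rfl⟩ := (powCoprime_bijective hkK).2 x
    exact congrFun e y
  · rcases h2 with h | ⟨h, h'⟩
    · exact Or.inl (by simpa [deg] using h)
    · refine Or.inr ⟨fun x hx => ?_, by simpa [deg] using h'⟩
      show (θ : K → ℂ) (x ^ k) = (θ : K → ℂ) (1 ^ k)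
      rw [one_pow]
      exact h _ (by rw [SubgroupClass.coe_pow]; exact pow_mem hx k)

theorem famSet_deg (M₁ : Subgroup L) (b : ℕ) {χ : L → ℂ} (hχ1 : χ 1 = (K.index : ℂ)) :
    ∀ ψ ∈ famSet K M₁ b, ψ 1 = ((deg ψ / K.index : ℕ) : ℂ) * χ 1 ∧ 0 < deg ψ / K.index := by
  rintro ψ ⟨hψ, θ, -, -, rfl⟩
  have h := deg_indFun θ K.index rfl
  have h0 : deg (indFun K (θ : K → ℂ)) = deg (θ : K → ℂ) * K.index := by
    rw [char_one_eq_deg (irr_isCharacter hψ)] at h
    exact_mod_cast h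
  have he : 0 < K.index := by have := F.three_le; omega
  rw [h0, Nat.mul_div_cancel _ he, hχ1]
  exact ⟨h, deg_pos θ.2⟩

/-- The family of the linear characters. -/
theorem exists_base (M₁ : Subgroup L) : ∃ (χ : L → ℂ) (ε : ℂ) (μ : (L → ℂ) → (G → ℂ)),
    Coh A L R (famSet K M₁ 1) χ ε μ ∧ χ 1 = (K.index : ℂ) ∧
      ∀ x : K, x ∈ commutator K → χ x = χ 1 := by
  classical
  haveI := F.solvable
  haveI : Nontrivial K := (Subgroup.nontrivial_iff_ne_bot K).2 F.ne_bot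
  obtain ⟨y, hy⟩ : ∃ y : K, y ∉ commutator K := by
    by_contra h
    push Not at h
    exact (Group.IsSolvable.commutator_lt_top_of_nontrivial K).ne (eq_top_iff.2 fun x _ => h x)
  obtain ⟨l, hl⟩ := exists_hom_ne_one hy
  set θ : IrrCharacter K := ⟨fun x => (l x : ℂ), isIrrCharacter_linear l⟩ with hθ
  have hθ1 : (θ : K → ℂ) ≠ fun _ => 1 := fun e => hl (Units.ext (congrFun e y))
  have hθd : deg (θ : K → ℂ) = 1 := by simp [deg, hθ]
  set χ := indFun K (θ : K → ℂ) with hχ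
  have hχS : χ ∈ famSet K M₁ 1 := ⟨F.linear θ hθ1 hθd, θ, hθ1, Or.inl hθd, rfl⟩
  have hdeg : ∀ ψ ∈ famSet K M₁ 1, ψ 1 = χ 1 := by
    rintro ψ ⟨-, θ', -, h, rfl⟩
    have h1 : deg (θ' : K → ℂ) = 1 := h.elim id fun h => le_antisymm h.2 (deg_pos θ'.2)
    rw [hχ, deg_indFun θ' K.index rfl, deg_indFun θ K.index rfl, h1, hθd]
  obtain ⟨ε, μ, hc⟩ := exists_coh_of_equal_degree F.dade F.powA hχS (fun ψ h => h.1) (F.famSet_conj M₁ 1)
    (F.famSet_pow M₁ 1) hdeg (F.famSet_supp M₁ 1)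
  refine ⟨χ, ε, μ, hc, by rw [hχ, deg_indFun θ K.index rfl, hθd, Nat.cast_one, one_mul], fun x hx => ?_⟩
  have key : ∀ z : K, z ∈ commutator K →
      indFun K (θ : K → ℂ) z = (Nat.card K : ℂ)⁻¹ * ∑ _g : L, (1 : ℂ) := fun z hz => by
    rw [indFun_restrict_normal (θ : K → ℂ) z]
    refine congrArg _ (Finset.sum_congr rfl fun g _ => ?_)
    show ((l (MulAut.conjNormal g z) : ℂˣ) : ℂ) = 1
    have h1 : MulAut.conjNormal g z ∈ l.ker := by
      refine Abelianization.commutator_subset_ker l ?_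
      have h := Subgroup.Characteristic.fixed (H := commutator K) inferInstance (MulAut.conjNormal g)
      exact (h.ge hz : _)
    rw [MonoidHom.mem_ker.1 h1, Units.val_one]
  rw [hχ, key x hx]
  exact (key 1 (one_mem _)).symm

omit F in
open Classical in
/-- A finite set of characters of the kernel bounds the weight of its image. -/
theorem sum_sq_le (Θ : Finset (IrrCharacter K))
    (hirr : ∀ θ ∈ Θ, IsIrrCharacter L (indFun K (θ : K → ℂ))) :
    ∑ θ ∈ Θ, deg (θ : K → ℂ) ^ 2 ≤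
      K.index * ∑ ψ ∈ Θ.image (fun θ : IrrCharacter K => indFun K (θ : K → ℂ)), (deg ψ / K.index) ^ 2 := by
  have hd : ∀ θ ∈ Θ, deg (indFun K (θ : K → ℂ)) / K.index = deg (θ : K → ℂ) := fun θ hθ => by
    have h := deg_indFun θ K.index rfl
    rw [char_one_eq_deg (irr_isCharacter (hirr θ hθ))] at h
    have h0 : deg (indFun K (θ : K → ℂ)) = deg (θ : K → ℂ) * K.index := by exact_mod_cast h
    rw [h0, Nat.mul_div_cancel _ (Nat.pos_of_ne_zero Subgroup.index_ne_zero_of_finite)]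
  have hfw := Finset.sum_fiberwise_of_maps_to (s := Θ)
    (g := fun θ : IrrCharacter K => indFun K (θ : K → ℂ))
    (fun θ hθ => Finset.mem_image_of_mem (fun θ : IrrCharacter K => indFun K (θ : K → ℂ)) hθ)
    (fun θ : IrrCharacter K => deg (θ : K → ℂ) ^ 2)
  rw [← hfw, Finset.mul_sum]
  refine Finset.sum_le_sum fun ψ _ => ?_
  rw [Finset.sum_congr rfl (g := fun _ => (deg ψ / K.index) ^ 2) fun θ hθ => by
    obtain ⟨h1, h2⟩ := Finset.mem_filter.1 hθ
    rw [← hd θ h1, h2], Finset.sum_const, smul_eq_mul]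
  refine Nat.mul_le_mul_right _ ?_
  refine le_trans ?_ (card_fiber_le K ψ)
  rw [Nat.card_eq_fintype_card, Fintype.card_subtype]
  refine Finset.card_le_card fun θ hθ => ?_
  exact Finset.mem_filter.2 ⟨Finset.mem_univ _, (Finset.mem_filter.1 hθ).2⟩

omit F [Fintype L] in
open Classical in
/-- The squares of the degrees of the characters trivial on `M₁`. -/
theorem sum_ker_sq (M₁ : Subgroup L) [M₁.Normal] :
    ∑ θ ∈ Finset.univ.filter (fun θ : IrrCharacter K => ∀ x : K, (x : L) ∈ M₁ → (θ : K → ℂ) x = (θ : K → ℂ) 1),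
      deg (θ : K → ℂ) ^ 2 =
      M₁.relIndex K := by
  set N : Subgroup K := M₁.subgroupOf K
  haveI := Fintype.ofFinite (K ⧸ N)
  have h : ∑ θ ∈ Finset.univ.filter (fun θ : IrrCharacter K => ∀ x : K, (x : L) ∈ M₁ → (θ : K → ℂ) x = (θ : K → ℂ) 1),
      (θ : K → ℂ) 1 ^ 2 = (N.index : ℂ) := by
    rw [Subgroup.index_eq_card, ← sum_sq_deg (G := K ⧸ N),
      Finset.sum_subtype (p := fun θ : IrrCharacter K => ∀ x ∈ N, (θ : K → ℂ) x = (θ : K → ℂ) 1) _
        (fun θ => by simp [N, Subgroup.mem_subgroupOf]), ← (inflateEquiv N).sum_comp]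
    refine Fintype.sum_congr _ _ fun φ => ?_
    rw [inflateEquiv_apply, QuotientGroup.mk_one]
  rw [Finset.sum_congr rfl (g := fun θ : IrrCharacter K => ((deg (θ : K → ℂ) ^ 2 : ℕ) : ℂ)) fun θ _ => by
    rw [char_one_eq_deg (irr_isCharacter θ.2)]; push_cast; rfl, ← Nat.cast_sum] at h
  exact_mod_cast h

open Classical in
/-- The chain: the characters of `t`-power degree trivial on `M₁` join the family degree by degree. -/
theorem exists_chain {t : ℕ} (ht : t.Prime) (M₁ : Subgroup L) [M₁.Normal]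
    (hdeg : ∀ θ : IrrCharacter K, (∀ x : K, (x : L) ∈ M₁ → (θ : K → ℂ) x = (θ : K → ℂ) 1) →
      ∃ j : ℕ, deg (θ : K → ℂ) = t ^ j ∧ t ^ (2 * j + 1) ∣ M₁.relIndex K)
    (hinv : Nat.card {θ : IrrCharacter K // (θ : K → ℂ) ≠ (fun _ => 1) ∧
      (∀ x : K, (x : L) ∈ M₁ → (θ : K → ℂ) x = (θ : K → ℂ) 1) ∧ ¬ IsIrrCharacter L (indFun K (θ : K → ℂ))} ≤ t - 1)
    (hstep : 2 * K.index ≤ t - 1) :
    ∃ (χ : L → ℂ) (ε : ℂ) (μ : (L → ℂ) → (G → ℂ)), χ 1 = (K.index : ℂ) ∧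
      (∀ x : K, x ∈ commutator K → χ x = χ 1) ∧ ∀ j : ℕ, ∃ μ', Coh A L R (famSet K M₁ (t ^ j)) χ ε μ' ∧ μ' χ = μ χ := by
  obtain ⟨χ, ε, μ, hc, hχ1, hχc⟩ := F.exists_base M₁
  refine ⟨χ, ε, μ, hχ1, hχc, fun j => ?_⟩
  induction j with
  | zero => exact ⟨μ, by rw [pow_zero]; exact hc, rfl⟩
  | succ j ih =>
    obtain ⟨μ', hc', hμ'⟩ := ih
    set e := K.index with he
    have he3 := F.three_le
    have ht3 : 7 ≤ t := by
      have := ht.two_le
      omega
    set P := famSet K M₁ (t ^ (j + 1)) with hP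
    have hsub : famSet K M₁ (t ^ j) ⊆ P := famSet_mono M₁ (Nat.pow_le_pow_right ht.pos (Nat.le_succ j))
    by_cases hex : ∃ θ : IrrCharacter K, (∀ x : K, (x : L) ∈ M₁ → (θ : K → ℂ) x = (θ : K → ℂ) 1) ∧
        deg (θ : K → ℂ) = t ^ (j + 1)
    swap
    · refine ⟨μ', ?_, hμ'⟩
      have heq : P = famSet K M₁ (t ^ j) := by
        refine Set.Subset.antisymm ?_ hsub
        rintro ψ ⟨hψ, θ, h1, h2, rfl⟩
        refine ⟨hψ, θ, h1, h2.imp_right fun h => ⟨h.1, ?_⟩, rfl⟩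
        obtain ⟨i, hi, -⟩ := hdeg θ h.1
        have h3 : i ≠ j + 1 := fun hh => hex ⟨θ, h.1, by rw [hi, hh]⟩
        have h4 := h.2
        rw [hi] at h4 ⊢
        have h5 := (Nat.pow_le_pow_iff_right ht.one_lt).1 h4
        exact Nat.pow_le_pow_right ht.pos (by omega)
      rw [heq]; exact hc'
    obtain ⟨θ₀, hθ₀, hθ₀d⟩ := hex
    obtain ⟨i, hi, hid⟩ := hdeg θ₀ hθ₀
    obtain rfl : i = j + 1 := Nat.pow_right_injective ht.two_le (hi.symm.trans hθ₀d)
    set D := t ^ (j + 1) with hD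
    set ker : IrrCharacter K → Prop := fun θ => ∀ x : K, (x : L) ∈ M₁ → (θ : K → ℂ) x = (θ : K → ℂ) 1 with hker
    set Θ : Finset (IrrCharacter K) := Finset.univ.filter fun θ => (θ : K → ℂ) ≠ (fun _ => 1) ∧ ker θ ∧
      deg (θ : K → ℂ) ≤ t ^ j ∧ IsIrrCharacter L (indFun K (θ : K → ℂ)) with hΘ
    set one : IrrCharacter K := ⟨fun _ => 1, isIrrCharacter_one⟩
    set U : Finset (IrrCharacter K) := Finset.univ.filter fun θ => ker θ ∧ deg (θ : K → ℂ) ≤ t ^ j with hU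
    have hU0 : one ∈ U := Finset.mem_filter.2 ⟨Finset.mem_univ _, fun _ _ => rfl, by
      rw [show deg ((one : IrrCharacter K) : K → ℂ) = 1 by simp [deg, one]]; exact Nat.one_le_pow _ _ ht.pos⟩
    have hdiv : D ^ 2 ∣ ∑ θ ∈ U, deg (θ : K → ℂ) ^ 2 := by
      have h1 := sum_ker_sq (K := K) M₁
      rw [← Finset.sum_filter_add_sum_filter_not _ (fun θ : IrrCharacter K => deg (θ : K → ℂ) ≤ t ^ j),
        Finset.filter_filter, Finset.filter_filter] at h1
      refine (Nat.dvd_add_left ?_).1 (h1.symm ▸ (show D ^ 2 ∣ M₁.relIndex K from ?_))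
      · refine Finset.dvd_sum fun θ hθ => pow_dvd_pow_of_dvd ?_ 2
        obtain ⟨-, hk, hle⟩ := Finset.mem_filter.1 hθ
        obtain ⟨i, hi', -⟩ := hdeg θ hk
        rw [hi'] at hle ⊢
        exact pow_dvd_pow t (not_le.1 fun hh => hle (Nat.pow_le_pow_right ht.pos hh))
      · refine dvd_trans ?_ hid
        rw [hD, ← pow_mul, mul_comm]
        exact pow_dvd_pow t (Nat.le_succ _)
    have hge : D ^ 2 ≤ ∑ θ ∈ U, deg (θ : K → ℂ) ^ 2 := Nat.le_of_dvd (lt_of_lt_of_le (pow_pos (deg_pos one.2) 2)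
      (Finset.single_le_sum (f := fun θ : IrrCharacter K => deg (θ : K → ℂ) ^ 2) (fun _ _ => Nat.zero_le _) hU0)) hdiv
    set V : Finset (IrrCharacter K) := U.filter fun θ : IrrCharacter K =>
      (θ : K → ℂ) ≠ (fun _ => 1) ∧ ¬ IsIrrCharacter L (indFun K (θ : K → ℂ)) with hV
    have hsplit : ∑ θ ∈ U, deg (θ : K → ℂ) ^ 2 = 1 + ∑ θ ∈ V, deg (θ : K → ℂ) ^ 2 + ∑ θ ∈ Θ, deg (θ : K → ℂ) ^ 2 := by
      have e : U = insert one (V ∪ Θ) := by
        ext θ
        simp only [hU, hV, hΘ, Finset.mem_insert, Finset.mem_union, Finset.mem_filter, Finset.mem_univ, true_and]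
        constructor
        · intro h
          by_cases h1 : (θ : K → ℂ) = fun _ => 1
          · exact Or.inl (Subtype.ext h1)
          by_cases h2 : IsIrrCharacter L (indFun K (θ : K → ℂ))
          · exact Or.inr (Or.inr ⟨h1, h.1, h.2, h2⟩)
          · exact Or.inr (Or.inl ⟨h, h1, h2⟩)
        · rintro (rfl | h | h)
          · exact (Finset.mem_filter.1 hU0).2
          · exact h.1
          · exact ⟨h.2.1, h.2.2.1⟩
      rw [e, Finset.sum_insert, Finset.sum_union, show deg ((one : IrrCharacter K) : K → ℂ) = 1 by simp [deg, one]]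
      · ring
      · exact Finset.disjoint_left.2 fun θ h h' => (Finset.mem_filter.1 h).2.2 (Finset.mem_filter.1 h').2.2.2.2
      · simp [hV, hΘ, one]
    have hVb : ∑ θ ∈ V, deg (θ : K → ℂ) ^ 2 ≤ if j = 0 then 0 else (t - 1) * (t ^ j) ^ 2 := by
      split_ifs with hj
      · refine le_of_eq (Finset.sum_eq_zero fun θ hθ => ?_)
        obtain ⟨hθU, h1, h2⟩ := Finset.mem_filter.1 hθ
        refine absurd (F.linear θ h1 ?_) h2
        have := (Finset.mem_filter.1 hθU).2.2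
        rw [hj, pow_zero] at this
        exact le_antisymm this (deg_pos θ.2)
      · refine (Finset.sum_le_card_nsmul V _ ((t ^ j) ^ 2) fun θ hθ =>
          Nat.pow_le_pow_left (Finset.mem_filter.1 (Finset.mem_filter.1 hθ).1).2.2 2).trans ?_
        rw [smul_eq_mul]
        refine Nat.mul_le_mul_right _ (le_trans ?_ hinv)
        rw [Nat.card_eq_fintype_card, Fintype.card_subtype]
        refine Finset.card_le_card fun θ hθ => ?_
        obtain ⟨h1, h2, h3⟩ := Finset.mem_filter.1 hθ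
        exact Finset.mem_filter.2 ⟨Finset.mem_univ _, h2, (Finset.mem_filter.1 h1).2.1, h3⟩
    set T : Finset (L → ℂ) := insert χ (Θ.image fun θ : IrrCharacter K => indFun K (θ : K → ℂ)) with hT
    have hTS : ↑T ⊆ famSet K M₁ (t ^ j) := by
      intro ψ hψ
      rcases Finset.mem_insert.1 (Finset.mem_coe.1 hψ) with rfl | h
      · exact hc'.mem
      obtain ⟨θ, hθ, rfl⟩ := Finset.mem_image.1 h
      obtain ⟨-, h1, h2, h3, h4⟩ := Finset.mem_filter.1 hθ
      exact ⟨h4, θ, h1, Or.inr ⟨h2, h3⟩, rfl⟩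
    set dd : (L → ℂ) → ℕ := fun ψ => deg ψ / e with hdd
    set N := ∑ ψ ∈ T, dd ψ ^ 2 with hN
    have hNge : ∑ θ ∈ Θ, deg (θ : K → ℂ) ^ 2 ≤ e * N := by
      refine (sum_sq_le Θ fun θ hθ => (Finset.mem_filter.1 hθ).2.2.2.2).trans (Nat.mul_le_mul_left _ ?_)
      exact Finset.sum_le_sum_of_subset (Finset.subset_insert _ _)
    have hlarge : ∀ d, d ≤ D → 2 * d + 1 < N := by
      intro d hd
      refine lt_of_le_of_lt (show 2 * d + 1 ≤ 2 * D + 1 by omega) ?_
      refine Nat.lt_of_mul_lt_mul_left (a := e) (lt_of_lt_of_le ?_ hNge)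
      have hD1 : D = t * t ^ j := by rw [hD, pow_succ']
      rcases Nat.eq_zero_or_pos j with hj | hj
      · rw [if_pos hj] at hVb
        rw [hj, pow_zero, mul_one] at hD1
        rw [hsplit] at hge
        rw [hD1] at hge ⊢
        have h2 : 2 * (e * (2 * t + 1)) ≤ (t - 1) * (2 * t + 1) := by
          rw [← mul_assoc]; exact Nat.mul_le_mul_right _ hstep
        obtain ⟨s, rfl⟩ := Nat.exists_eq_add_of_le (show 1 ≤ t by omega)
        rw [Nat.add_sub_cancel_left] at h2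
        nlinarith
      · rw [if_neg hj.ne'] at hVb
        rw [hsplit] at hge
        have htj : t ≤ t ^ j := Nat.le_self_pow hj.ne' t
        have h2 : 2 * (e * (2 * D + 1)) ≤ (t - 1) * (2 * D + 1) := by
          rw [← mul_assoc]; exact Nat.mul_le_mul_right _ hstep
        obtain ⟨s, rfl⟩ := Nat.exists_eq_add_of_le (show 1 ≤ t by omega)
        rw [Nat.add_sub_cancel_left] at h2 hVb
        rw [hD1] at hge h2 ⊢
        exact chain_arith (by omega) htj hge hVb h2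
    have hPdeg : ∀ ψ ∈ P, ∃ d : ℕ, 0 < d ∧ ψ 1 = (d : ℂ) * χ 1 ∧ 2 * d + 1 < N := by
      intro ψ h
      refine ⟨deg ψ / e, (F.famSet_deg M₁ _ hχ1 ψ h).2, (F.famSet_deg M₁ _ hχ1 ψ h).1, hlarge _ ?_⟩
      obtain ⟨hψ, θ, -, h2, rfl⟩ := h
      have h0 := deg_indFun θ e rfl
      rw [char_one_eq_deg (irr_isCharacter hψ)] at h0
      have h1 : deg (indFun K (θ : K → ℂ)) = deg (θ : K → ℂ) * e := by exact_mod_cast h0
      rw [h1, Nat.mul_div_cancel _ (by omega)]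
      rcases h2 with h2 | h2
      · rw [h2]; exact Nat.one_le_pow _ _ ht.pos
      · exact h2.2
    obtain ⟨μ'', hc'', hμ''⟩ := hc'.extend (F.famSet_supp M₁ _) hTS (Finset.mem_insert_self _ _) (dd := dd)
      (fun φ hφ => (F.famSet_deg M₁ _ hχ1 φ (hTS (Finset.mem_coe.2 hφ))).1)
      (P := P) (fun ψ h => h.1) (F.famSet_pow M₁ _) (F.famSet_supp M₁ _) hPdeg
    refine ⟨μ'', ?_, hμ''.trans hμ'⟩
    rwa [Set.union_eq_self_of_subset_left hsub] at hc''

end Kernel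

end Cfsg.Agent.OddChar
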