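import Cfsg.Agent.Lib.Char.DadeGen
import Cfsg.Agent.Lib.Char.Coherence
import Cfsg.Agent.Lib.Char.Induction
import Cfsg.Agent.Lib.Char.Ortho

/-!
The Dade map on the integer span of characters supported on `A ∪ {1}`.
-/

set_option linter.unusedSectionVars false

open scoped ComplexConjugate
open Cfsg Cfsg.Agent.Char

namespace Cfsg.Agent.OddChar

universe u

variable {G : Type u} [Group G] [Fintype G] {A : Set G} {L : Subgroup G} [Fintype L]
  {H : G → Subgroup G}

theorem isClassFunction_genChar {X : Type u} [Group X] {α : X → ℂ} (h : IsGeneralizedCharacter X α) :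
    IsClassFunction X α := by
  obtain ⟨χ, ψ, hχ, hψ, rfl⟩ := h
  intro g k
  simp only [Pi.sub_apply]
  rw [isClassFunction_character hχ g k, isClassFunction_character hψ g k]

theorem isGenChar_of_mem_zspan {X : Type u} [Group X] [Fintype X] {S : Set (X → ℂ)}
    (hS : ∀ χ ∈ S, IsCharacter X χ) {α : X → ℂ} (hα : α ∈ zspan S) :
    IsGeneralizedCharacter X α := by
  induction hα using Submodule.span_induction with
  | mem χ hχ => exact ⟨χ, 0, hS χ hχ, isCharacter_zero, (sub_zero χ).symm⟩
  | zero => exact isGenChar_zero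
  | add x y _ _ hx hy =>
    obtain ⟨a, b, ha, hb, rfl⟩ := hx
    obtain ⟨c, d, hc, hd, rfl⟩ := hy
    exact ⟨a + c, b + d, isCharacter_add ha hc, isCharacter_add hb hd, by abel⟩
  | smul n x _ hx =>
    have hneg : ∀ {y : X → ℂ}, IsGeneralizedCharacter X y → IsGeneralizedCharacter X (-y) := by
      rintro _ ⟨a, b, ha, hb, rfl⟩
      exact ⟨b, a, hb, ha, neg_sub a b⟩
    have hnat : ∀ m : ℕ, IsGeneralizedCharacter X ((m : ℤ) • x) := fun m => by
      induction m with
      | zero => simpa using isGenChar_zero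
      | succ m ih =>
        obtain ⟨a, b, ha, hb, e⟩ := ih
        obtain ⟨c, d, hc, hd, e'⟩ := hx
        refine ⟨a + c, b + d, isCharacter_add ha hc, isCharacter_add hb hd, ?_⟩
        rw [Nat.cast_succ, add_smul, one_smul, e, e']
        abel
    rcases n.eq_nat_or_neg with ⟨m, rfl | rfl⟩
    · exact hnat m
    · rw [neg_smul]
      exact hneg (hnat m)

/-- The Dade map is linear, isometric and integral on the span of characters supported on `A ∪ {1}`. -/
theorem dade_isometryOn (hD : DadeHypothesis A L H) (S : Set (L → ℂ))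
    (hS : ∀ χ ∈ S, IsCharacter L χ) (hsupp : ∀ χ ∈ S, ∀ x : L, x ≠ 1 → (x : G) ∉ A → χ x = 0) :
    IsLinearIsometryOn (zspanOn S {1}ᶜ) (dadeIsometry A L H) ∧
      ∀ α ∈ zspanOn S {1}ᶜ, dadeIsometry A L H α 1 = 0 := by
  have hA : ∀ α ∈ zspanOn S {1}ᶜ, ∀ x : L, (x : G) ∉ A → α x = 0 := by
    rintro α ⟨hα, h1⟩ x hx
    by_cases hx1 : x = 1
    · exact h1 x (by simp [hx1])
    clear h1
    induction hα using Submodule.span_induction with
    | mem χ hχ => exact hsupp χ hχ x hx1 hx
    | zero => rfl
    | add a b _ _ ha hb => rw [Pi.add_apply, ha, hb, add_zero]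
    | smul n a _ ha => rw [Pi.smul_apply, ha, smul_zero]
  have hgen : ∀ α ∈ zspanOn S {1}ᶜ, IsGeneralizedCharacter L α := fun α hα =>
    isGenChar_of_mem_zspan hS hα.1
  refine ⟨⟨fun α _ β _ => funext fun g => ?_, fun α _ n => funext fun g => ?_, fun α hα β hβ => ?_,
    fun α hα => isGenChar_dadeIsometry hD (hgen α hα) (hA α hα)⟩, fun α _ => ?_⟩
  · rw [Pi.add_apply]
    simp only [dadeIsometry]
    split
    · rfl
    · simp
  · rw [Pi.smul_apply]
    simp only [dadeIsometry]
    split
    · rfl
    · simp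
  · exact classInner_dade_dade hD (isClassFunction_genChar (hgen α hα)) (hA α hα)
      (isClassFunction_genChar (hgen β hβ))
  · refine dadeIsometry_eq_zero hD ?_
    rintro ⟨a, ha, u, hu, x, e⟩
    rw [mul_one, mul_inv_cancel] at e
    have h1 : a ∈ H a ⊓ (L ⊓ Subgroup.centralizer ({a} : Set G)) :=
      ⟨(H a).inv_mem_iff.1 (by
        have e2 : a⁻¹ = u := inv_eq_of_mul_eq_one_right e.symm
        rw [e2]; exact hu), hD.subset ha, Subgroup.mem_centralizer_singleton_iff.2 rfl⟩
    rw [hD.inf_eq_bot a ha, Subgroup.mem_bot] at h1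
    exact hD.one_not_mem (h1 ▸ ha)

/-- With trivial subgroups `H a` the Dade map is induction. -/
theorem dade_eq_ind (hD : DadeHypothesis A L H) (hbot : ∀ a ∈ A, H a = ⊥) {α : L → ℂ}
    (hα : IsClassFunction L α) (hαA : ∀ x : L, (x : G) ∉ A → α x = 0) :
    dadeIsometry A L H α = indFun L α := by
  classical
  have hval : ∀ f : G → ℂ, IsClassFunction G f →
      classInner (dadeIsometry A L H α) f = classInner (indFun L α) f := fun f hf => by
    rw [frobenius L α hf]
    refine classInner_dade hD hα hαA hf fun a ha => ?_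
    have hb := hbot a ha
    have hs : ((H (a : G) : Subgroup G) : Set G) = {1} := by rw [hb]; rfl
    rw [hs, finsum_mem_singleton, mul_one, hb, Subgroup.card_bot, Nat.cast_one, inv_one, one_mul]
  have hcl : IsClassFunction G (dadeIsometry A L H α - indFun L α) := fun g k => by
    simp only [Pi.sub_apply, isClassFunction_dadeIsometry hD hα g k, isClassFunction_indFun L α g k]
  refine sub_eq_zero.1 (classInner_self_eq_zero ?_)
  rw [classInner_sub_left, hval _ hcl, sub_self]

end Cfsg.Agent.OddChar
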