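import Cfsg.Agent.Lib.OddChar.RationalExtension
import Cfsg.Agent.Lib.OddChar.DadeSpan
import Cfsg.Agent.Lib.Char.Coherence
import Cfsg.Agent.Lib.Char.CoherenceExt

/-!
Coherent families of a Dade map: characters of equal degree, and the extension of a family by
characters of small degree.
-/

set_option autoImplicit false
set_option linter.unusedSectionVars false
set_option linter.style.haveILetI false

open Cfsg Cfsg.Agent.Char
open scoped ComplexConjugate

namespace Cfsg.Agent.OddChar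

universe u

variable {G : Type u} [Group G] [Fintype G] {A : Set G} {L : Subgroup G} [Fintype L] {R : G → Subgroup G}

/-- A family of irreducible characters of equal degree is coherent. -/
theorem exists_coh_of_equal_degree (hD : DadeHypothesis A L R)
    (hpow : ∀ a ∈ A, ∀ k : ℕ, k.Coprime (Nat.card G) → a ^ k ∈ A ∧ R (a ^ k) = R a) {S : Set (L → ℂ)} {χ : L → ℂ}
    (hχ : χ ∈ S) (hirr : ∀ ψ ∈ S, IsIrrCharacter L ψ) (hconj : ∀ ψ ∈ S, conjFun ψ ∈ S ∧ conjFun ψ ≠ ψ)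
    (hpowS : ∀ ψ ∈ S, ∀ k : ℕ, k.Coprime (Nat.card G) → (fun x => ψ (x ^ k)) ∈ S)
    (hdeg : ∀ ψ ∈ S, ψ 1 = χ 1) (hsupp : ∀ ψ ∈ S, ∀ x : L, x ≠ 1 → (x : G) ∉ A → ψ x = 0) :
    ∃ (ε : ℂ) (μ : (L → ℂ) → (G → ℂ)), Coh A L R S χ ε μ := by
  classical
  obtain ⟨hiso, hone⟩ := dade_isometryOn hD S (fun ψ hψ => irr_isCharacter (hirr ψ hψ)) hsupp
  obtain ⟨Rf, hR⟩ := Char.exists_coherenceSystem S ⟨χ, hχ⟩ hirr hconj _ hiso hone
  obtain ⟨-, τ₁, hτ₁, hext⟩ := coherent_constant_degree hR fun φ hφ ψ hψ => (hdeg φ hφ).trans (hdeg ψ hψ).symm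
  have h0 : ∀ α ∈ zspan S, α 1 = 0 → τ₁ α 1 = 0 := fun α hα hα1 => by
    have hmem : α ∈ zspanOn S {1}ᶜ := ⟨hα, fun x hx => by
      rw [show x = 1 by simpa using hx]; exact hα1⟩
    rw [hext α hmem]
    exact hone α hmem
  obtain ⟨ε, hε, hμ, hinj⟩ := Char.coherent_extension_sign S hirr ⟨χ, hχ, conjFun χ, (hconj χ hχ).1,
    (hconj χ hχ).2.symm⟩ τ₁ hτ₁ h0
  have hεε : ε * ε = 1 := by rcases hε with h | h <;> rw [h] <;> norm_num
  refine ⟨ε, fun ψ => ε • τ₁ ψ, ⟨hD, hpow, hχ, ⟨conjFun χ, (hconj χ hχ).1, (hconj χ hχ).2⟩, hirr, hpowS,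
    fun ψ hψ => ⟨1, one_pos, by rw [hdeg ψ hψ, Nat.cast_one, one_mul]⟩, hε, hμ, ?_, ?_⟩⟩
  · intro ψ hψ φ hφ e
    refine hinj ψ hψ φ hφ ?_
    have h := congrArg (ε • ·) e
    simpa only [smul_smul, hεε, one_smul] using h
  · intro ψ hψ d hd g
    have hmem : ψ - (d : ℤ) • χ ∈ zspanOn S {1}ᶜ :=
      ⟨Submodule.sub_mem _ (Submodule.subset_span hψ) (Submodule.smul_mem _ _ (Submodule.subset_span hχ)),
        fun x hx => by
          rw [show x = 1 by simpa using hx]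
          simp [hd]⟩
    have h := congrFun (hext _ hmem) g
    rw [isometryOn_sub hτ₁ (mem_zspan_of_mem hψ) (Submodule.smul_mem _ _ (mem_zspan_of_mem hχ)),
      hτ₁.2.1 χ (mem_zspan_of_mem hχ)] at h
    rw [show ψ - (d : ℂ) • χ = ψ - (d : ℤ) • χ by funext x; simp, ← h]
    simp only [Pi.sub_apply, Pi.smul_apply, smul_eq_mul, zsmul_eq_mul, Int.cast_natCast, Pi.mul_apply,
      Pi.natCast_apply]
    linear_combination -((τ₁ ψ g) - (d : ℂ) * τ₁ χ g) * hεε

theorem isGenChar_sub_smul {X : Type u} [Group X] {a b : X → ℂ} (ha : IsGeneralizedCharacter X a)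
    (hb : IsCharacter X b) (d : ℕ) : IsGeneralizedCharacter X (a - (d : ℂ) • b) := by
  induction d with
  | zero => simpa using ha
  | succ d ih =>
    obtain ⟨p, q, hp, hq, e⟩ := ih
    refine ⟨p, q + b, hp, isCharacter_add hq hb, ?_⟩
    rw [show a - ((d + 1 : ℕ) : ℂ) • b = (a - (d : ℂ) • b) - b by push_cast; rw [add_smul, one_smul]; abel, e]
    abel

theorem isGenChar_of_sign {X : Type u} [Group X] {b : X → ℂ} (hb : IsCharacter X b) {ε : ℂ}
    (hε : ε = 1 ∨ ε = -1) : IsGeneralizedCharacter X (ε • b) := by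
  rcases hε with h | h <;> rw [h]
  · exact ⟨b, 0, hb, isCharacter_zero, by simp⟩
  · exact ⟨0, b, isCharacter_zero, hb, by simp⟩

namespace Coh

variable {S : Set (L → ℂ)} {χ : L → ℂ} {ε : ℂ} {μ : (L → ℂ) → (G → ℂ)} (c : Coh A L R S χ ε μ)
include c

theorem conj_sign : conj ε = ε := by rcases c.sign with h | h <;> rw [h] <;> simp

open Classical in
/-- The integer of a function against a finite part of the family. -/
theorem rel_ineq (hvan : ∀ φ ∈ S, ∀ x : L, x ≠ 1 → (x : G) ∉ A → φ x = 0) {T : Finset (L → ℂ)} (hT : ↑T ⊆ S)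
    (hχT : χ ∈ T) {dd : (L → ℂ) → ℕ} (hdd : ∀ φ ∈ T, φ 1 = dd φ * χ 1) {ψ : L → ℂ}
    (hψ : IsGeneralizedCharacter L ψ) {d : ℕ} (hψ1 : ψ 1 = d * χ 1)
    (hψv : ∀ x : L, x ≠ 1 → (x : G) ∉ A → ψ x = 0) (horth : ∀ φ ∈ T, classInner ψ φ = 0) {n : ℕ}
    (hn : classInner ψ ψ = n) :
    ∃ a : ℤ, classInner (dadeIsometry A L R (ψ - (d : ℂ) • χ)) (ε • μ χ) = (a : ℂ) - d ∧
      a ^ 2 * (∑ φ ∈ T, dd φ ^ 2 : ℕ) ≤ n + 2 * a * d := by
  have hεc : ε * conj ε = 1 := by rw [c.conj_sign, c.sign_sq]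
  have hD := c.dade
  have hχirr := c.irr χ c.mem
  set α : L → ℂ := ψ - (d : ℂ) • χ with hα
  have hαgen : IsGeneralizedCharacter L α := isGenChar_sub_smul hψ (irr_isCharacter hχirr) d
  have hαA : ∀ x : L, (x : G) ∉ A → α x = 0 := fun x hx => by
    by_cases hx1 : x = 1
    · subst hx1; simp [hα, hψ1]
    · simp [hα, hψv x hx1 hx, hvan χ c.mem x hx1 hx]
  set D := dadeIsometry A L R α with hDdef
  have hDgen : IsGeneralizedCharacter G D := isGenChar_dadeIsometry hD hαgen hαA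
  obtain ⟨b, hb⟩ := classInner_gen_int hDgen (isGenChar_of_sign (irr_isCharacter (c.irrμ χ c.mem)) c.sign)
  refine ⟨b + d, by rw [hb]; push_cast; ring, ?_⟩
  set a := b + (d : ℤ) with ha
  have hψχ : classInner ψ χ = 0 := horth χ hχT
  have hX : ∀ φ ∈ T, classInner D (ε • μ φ) = ((dd φ * a - if φ = χ then (d : ℤ) else 0 : ℤ) : ℂ) := by
    intro φ hφ
    have hφS := hT (Finset.mem_coe.2 hφ)
    have hβA : ∀ x : L, (x : G) ∉ A → (φ - (dd φ : ℂ) • χ) x = 0 := fun x hx => by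
      by_cases hx1 : x = 1
      · subst hx1; simp [hdd φ hφ]
      · simp [hvan φ hφS x hx1 hx, hvan χ c.mem x hx1 hx]
    have h2 : dadeIsometry A L R (φ - (dd φ : ℂ) • χ) = ε • μ φ - (dd φ : ℂ) • (ε • μ χ) := funext fun g => by
      rw [c.ext φ hφS _ (hdd φ hφ) g]
      simp [mul_sub, mul_left_comm]
    have h3 := classInner_dade_dade hD (isClassFunction_genChar hαgen) hαA (c.classFun hφS (dd φ : ℂ))
    rw [h2, classInner_sub_right, classInner_smul_right (dd φ : ℂ), Complex.conj_natCast, hb] at h3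
    simp only [hα, classInner_sub_left, classInner_sub_right, classInner_smul_left (G := L),
      classInner_smul_right (G := L), Complex.conj_natCast, horth φ hφ, hψχ, irr_orth hχirr (c.irr φ hφS),
      irr_self hχirr] at h3
    by_cases he : φ = χ
    · rw [if_pos he] at ⊢
      rw [if_pos he.symm] at h3
      have hd1 : dd φ = 1 := by
        have h4 := hdd φ hφ
        rw [he] at h4
        have h5 : ((dd φ : ℕ) : ℂ) = 1 := by
          rw [he]
          exact (mul_eq_right₀ (irr_one_ne_zero hχirr)).1 h4.symm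
        exact_mod_cast h5
      rw [hd1] at h3 ⊢
      push_cast [ha] at h3 ⊢
      linear_combination h3
    · rw [if_neg he] at ⊢
      rw [if_neg (Ne.symm he)] at h3
      push_cast [ha] at h3 ⊢
      linear_combination h3
  -- Bessel
  set z : (L → ℂ) → ℤ := fun φ => dd φ * a - if φ = χ then (d : ℤ) else 0 with hz
  set D' : G → ℂ := D - ∑ φ ∈ T, (z φ : ℂ) • (ε • μ φ) with hD'
  have horthμ : ∀ φ ∈ T, ∀ φ' ∈ T, classInner (ε • μ φ) (ε • μ φ') = if φ = φ' then 1 else 0 := by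
    intro φ hφ φ' hφ'
    have h1 := hT (Finset.mem_coe.2 hφ)
    have h2 := hT (Finset.mem_coe.2 hφ')
    rw [classInner_smul_left, classInner_smul_right, ← mul_assoc, hεc, one_mul, irr_orth (c.irrμ φ h1) (c.irrμ φ' h2)]
    by_cases e : φ = φ'
    · rw [if_pos e, if_pos (congrArg μ e)]
    · rw [if_neg e, if_neg fun e' => e (c.inj φ h1 φ' h2 e')]
  have hD'μ : ∀ φ ∈ T, classInner D' (ε • μ φ) = 0 := by
    intro φ hφ
    rw [hD', classInner_sub_left, classInner_sum_left, Finset.sum_eq_single φ, classInner_smul_left, horthμ φ hφ φ hφ,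
      if_pos rfl, mul_one, hX φ hφ, sub_self]
    · intro φ' hφ' hne
      rw [classInner_smul_left, horthμ φ' hφ' φ hφ, if_neg hne, mul_zero]
    · exact fun h => absurd hφ h
  have hz0 : classInner D' (∑ φ ∈ T, (z φ : ℂ) • (ε • μ φ)) = 0 := by
    rw [classInner_sum_right, Finset.sum_eq_zero]
    intro φ hφ
    rw [classInner_smul_right, hD'μ φ hφ, mul_zero]
  have h1 : classInner D' D' = classInner D D - (∑ φ ∈ T, z φ ^ 2 : ℤ) := by
    have h' : classInner D' D' = classInner D' D - classInner D' (∑ φ ∈ T, (z φ : ℂ) • (ε • μ φ)) := by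
      rw [← classInner_sub_right]
    rw [h', hz0, sub_zero, hD', classInner_sub_left, classInner_sum_left]
    push_cast
    refine congrArg _ (Finset.sum_congr rfl fun φ hφ => ?_)
    rw [classInner_smul_left, ← classInner_symm D, hX φ hφ, map_intCast]
    ring
  have h2 : classInner D D = (n : ℂ) + (d : ℂ) ^ 2 := by
    rw [hDdef, classInner_dade_dade hD (isClassFunction_genChar hαgen) hαA (isClassFunction_genChar hαgen), hα,
      classInner_sub_left, classInner_sub_right, classInner_sub_right, classInner_smul_left, classInner_smul_left,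
      classInner_smul_right, classInner_smul_right, Complex.conj_natCast, ← classInner_symm ψ χ, hψχ, map_zero, hn,
      irr_self hχirr]
    ring
  have hsum : ∑ φ ∈ T, z φ ^ 2 = a ^ 2 * (∑ φ ∈ T, dd φ ^ 2 : ℕ) - 2 * a * d + (d : ℤ) ^ 2 := by
    have hχd : (dd χ : ℤ) = 1 := by
      have h5 : ((dd χ : ℕ) : ℂ) = 1 := (mul_eq_right₀ (irr_one_ne_zero hχirr)).1 (hdd χ hχT).symm
      exact_mod_cast h5
    rw [← Finset.add_sum_erase _ _ hχT, ← Finset.add_sum_erase (f := fun φ => dd φ ^ 2) _ hχT]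
    rw [Finset.sum_congr rfl (g := fun φ => a ^ 2 * ((dd φ : ℤ) ^ 2)) fun φ hφ => by
      simp only [hz, if_neg (Finset.ne_of_mem_erase hφ), sub_zero]; ring, ← Finset.mul_sum]
    simp only [hz, if_pos, hχd]
    push_cast
    rw [hχd]
    ring
  have h3 : (0 : ℝ) ≤ (classInner D' D').re := classInner_self_re_nonneg D'
  rw [h1, h2, hsum, show ((n : ℂ) + (d : ℂ) ^ 2 - ((a ^ 2 * (∑ φ ∈ T, dd φ ^ 2 : ℕ) - 2 * a * d + (d : ℤ) ^ 2 : ℤ) : ℂ))
    = ((((n : ℤ) + 2 * a * d - a ^ 2 * (∑ φ ∈ T, dd φ ^ 2 : ℕ) : ℤ) : ℝ) : ℂ) by push_cast; ring, Complex.ofReal_re,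
    Int.cast_nonneg_iff] at h3
  linarith

omit c [Fintype G] in
theorem int_eq_zero_of_ineq {a : ℤ} {n d N : ℕ} (h : a ^ 2 * N ≤ n + 2 * a * d) (hN : 2 * d + n < N) : a = 0 := by
  by_contra hne
  have h1 : 1 ≤ |a| := Int.one_le_abs hne
  have h2 : |a| * N ≤ a ^ 2 * N := by
    refine mul_le_mul_of_nonneg_right ?_ (Int.natCast_nonneg _)
    rw [← sq_abs]; nlinarith
  have h3 : 2 * a * (d : ℤ) ≤ 2 * |a| * d := by
    have := le_abs_self a
    have := Int.natCast_nonneg d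
    nlinarith
  have h4 : (2 * d + n + 1 : ℤ) ≤ N := by exact_mod_cast hN
  have h5 := mul_le_mul_of_nonneg_left h4 (abs_nonneg a)
  have h6 : (n : ℤ) ≤ |a| * n := le_mul_of_one_le_left (Int.natCast_nonneg n) h1
  nlinarith

open Classical in
/-- With a large family the integer is zero. -/
theorem rel_zero (hvan : ∀ φ ∈ S, ∀ x : L, x ≠ 1 → (x : G) ∉ A → φ x = 0) {T : Finset (L → ℂ)} (hT : ↑T ⊆ S)
    (hχT : χ ∈ T) {dd : (L → ℂ) → ℕ} (hdd : ∀ φ ∈ T, φ 1 = dd φ * χ 1) {ψ : L → ℂ}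
    (hψ : IsGeneralizedCharacter L ψ) {d : ℕ} (hψ1 : ψ 1 = d * χ 1)
    (hψv : ∀ x : L, x ≠ 1 → (x : G) ∉ A → ψ x = 0) (horth : ∀ φ ∈ T, classInner ψ φ = 0) {n : ℕ}
    (hn : classInner ψ ψ = n) (hN : 2 * d + n < ∑ φ ∈ T, dd φ ^ 2) :
    classInner (dadeIsometry A L R (ψ - (d : ℂ) • χ)) (ε • μ χ) = -(d : ℂ) := by
  obtain ⟨a, ha, hineq⟩ := c.rel_ineq hvan hT hχT hdd hψ hψ1 hψv horth hn
  rw [ha, int_eq_zero_of_ineq hineq hN, Int.cast_zero, zero_sub]

open Classical in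
/-- Irreducible characters of small degree extend the family. -/
theorem extend (hvan : ∀ φ ∈ S, ∀ x : L, x ≠ 1 → (x : G) ∉ A → φ x = 0) {T : Finset (L → ℂ)} (hT : ↑T ⊆ S)
    (hχT : χ ∈ T) {dd : (L → ℂ) → ℕ} (hdd : ∀ φ ∈ T, φ 1 = dd φ * χ 1) {P : Set (L → ℂ)}
    (hPirr : ∀ ψ ∈ P, IsIrrCharacter L ψ)
    (hPpow : ∀ ψ ∈ P, ∀ k : ℕ, k.Coprime (Nat.card G) → (fun x => ψ (x ^ k)) ∈ P)
    (hPv : ∀ ψ ∈ P, ∀ x : L, x ≠ 1 → (x : G) ∉ A → ψ x = 0)
    (hPdeg : ∀ ψ ∈ P, ∃ d : ℕ, 0 < d ∧ ψ 1 = d * χ 1 ∧ 2 * d + 1 < ∑ φ ∈ T, dd φ ^ 2) :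
    ∃ μ' : (L → ℂ) → (G → ℂ), Coh A L R (S ∪ P) χ ε μ' ∧ μ' χ = μ χ := by
  have hεc : ε * conj ε = 1 := by rw [c.conj_sign, c.sign_sq]
  choose! d hd0 hd1 hdN using hPdeg
  let μ' : (L → ℂ) → (G → ℂ) := fun ψ => if ψ ∈ S then μ ψ else
    ε • dadeIsometry A L R (ψ - (d ψ : ℂ) • χ) + (d ψ : ℂ) • μ χ
  have hS' : ∀ ψ ∈ S, μ' ψ = μ ψ := fun ψ h => if_pos h
  have hP' : ∀ ψ, ψ ∉ S → μ' ψ = ε • dadeIsometry A L R (ψ - (d ψ : ℂ) • χ) + (d ψ : ℂ) • μ χ :=
    fun ψ h => if_neg h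
  have hχirr := c.irr χ c.mem
  have hαA : ∀ ψ ∈ P, ∀ x : L, (x : G) ∉ A → (ψ - (d ψ : ℂ) • χ) x = 0 := fun ψ hψ x hx => by
    by_cases hx1 : x = 1
    · subst hx1; simp [hd1 ψ hψ]
    · simp [hPv ψ hψ x hx1 hx, hvan χ c.mem x hx1 hx]
  have hαgen : ∀ ψ ∈ P, IsGeneralizedCharacter L (ψ - (d ψ : ℂ) • χ) := fun ψ hψ =>
    isGenChar_sub_smul ⟨ψ, 0, irr_isCharacter (hPirr ψ hψ), isCharacter_zero, (sub_zero ψ).symm⟩
      (irr_isCharacter hχirr) _
  have hrel : ∀ ψ ∈ P, ψ ∉ S →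
      classInner (dadeIsometry A L R (ψ - (d ψ : ℂ) • χ)) (ε • μ χ) = -(d ψ : ℂ) := by
    intro ψ hψ hns
    refine c.rel_zero hvan hT hχT hdd ⟨ψ, 0, irr_isCharacter (hPirr ψ hψ), isCharacter_zero, (sub_zero ψ).symm⟩
      (hd1 ψ hψ) (hPv ψ hψ) (fun φ hφ => ?_) (n := 1) (by rw [irr_self (hPirr ψ hψ), Nat.cast_one]) (hdN ψ hψ)
    rw [irr_orth (hPirr ψ hψ) (c.irr φ (hT (Finset.mem_coe.2 hφ))), if_neg fun e : ψ = φ =>
      hns (e ▸ hT (Finset.mem_coe.2 hφ))]
  have hinner : ∀ ψ ∈ P, ψ ∉ S → ∀ φ ∈ S, classInner (μ' ψ) (μ φ) = 0 := by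
    intro ψ hψ hns φ hφ
    obtain ⟨e, -, he⟩ := c.deg φ hφ
    have hβA : ∀ x : L, (x : G) ∉ A → (φ - (e : ℂ) • χ) x = 0 := fun x hx => by
      by_cases hx1 : x = 1
      · subst hx1; simp [he]
      · simp [hvan φ hφ x hx1 hx, hvan χ c.mem x hx1 hx]
    have h2 : dadeIsometry A L R (φ - (e : ℂ) • χ) = ε • μ φ - (e : ℂ) • (ε • μ χ) := funext fun g => by
      rw [c.ext φ hφ _ he g]
      simp [mul_sub, mul_left_comm]
    have h3 := classInner_dade_dade c.dade (isClassFunction_genChar (hαgen ψ hψ)) (hαA ψ hψ)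
      (c.classFun hφ (e : ℂ))
    rw [h2, classInner_sub_right, classInner_smul_right (e : ℂ), Complex.conj_natCast, hrel ψ hψ hns,
      classInner_smul_right, c.conj_sign, classInner_sub_left,
      classInner_sub_right, classInner_sub_right, classInner_smul_left, classInner_smul_left, classInner_smul_right,
      classInner_smul_right, Complex.conj_natCast, irr_orth (hPirr ψ hψ) (c.irr φ hφ),
      if_neg fun e' : ψ = φ => hns (e' ▸ hφ),
      irr_orth (hPirr ψ hψ) hχirr, if_neg fun e' : ψ = χ => hns (e' ▸ c.mem),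
      irr_orth hχirr (c.irr φ hφ), irr_self hχirr] at h3
    rw [hP' ψ hns, classInner_add_left, classInner_smul_left, classInner_smul_left,
      irr_orth (c.irrμ χ c.mem) (c.irrμ φ hφ)]
    by_cases heq : χ = φ
    · have he1 : (e : ℂ) = 1 := by
        rw [← heq] at he
        exact (mul_eq_right₀ (irr_one_ne_zero hχirr)).1 he.symm
      rw [if_pos (congrArg μ heq)]
      rw [if_pos heq, he1] at h3
      linear_combination h3
    · rw [if_neg fun e' => heq (c.inj χ c.mem φ hφ e')]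
      rw [if_neg heq] at h3
      linear_combination h3
  have hPP : ∀ ψ ∈ P, ψ ∉ S → ∀ φ ∈ P, φ ∉ S →
      classInner (μ' ψ) (μ' φ) = if ψ = φ then 1 else 0 := by
    intro ψ hψ hns φ hφ hns'
    have h3 := classInner_dade_dade c.dade (isClassFunction_genChar (hαgen ψ hψ)) (hαA ψ hψ)
      (isClassFunction_genChar (hαgen φ hφ))
    rw [classInner_sub_left, classInner_sub_right, classInner_sub_right, classInner_smul_left, classInner_smul_left,
      classInner_smul_right, classInner_smul_right, Complex.conj_natCast, irr_orth (hPirr ψ hψ) (hPirr φ hφ),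
      irr_orth (hPirr ψ hψ) hχirr, if_neg fun e' : ψ = χ => hns (e' ▸ c.mem),
      irr_orth hχirr (hPirr φ hφ), if_neg fun e' : χ = φ => hns' (e' ▸ c.mem), irr_self hχirr] at h3
    have h4 := hrel ψ hψ hns
    have h5 := congrArg conj (hrel φ hφ hns')
    rw [← classInner_symm, map_neg, Complex.conj_natCast] at h5
    rw [classInner_smul_right, c.conj_sign] at h4
    rw [classInner_smul_left, Complex.conj_conj] at h5
    rw [hP' ψ hns, hP' φ hns', classInner_add_left, classInner_add_right, classInner_add_right, classInner_smul_left,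
      classInner_smul_left, classInner_smul_left, classInner_smul_left, classInner_smul_right, classInner_smul_right,
      classInner_smul_right, classInner_smul_right, Complex.conj_natCast, c.conj_sign,
      irr_self (c.irrμ χ c.mem), h3]
    split_ifs
    · linear_combination (d φ : ℂ) * h4 + (d ψ : ℂ) * h5 + (1 + (d ψ : ℂ) * (d φ : ℂ)) * c.sign_sq
    · linear_combination (d φ : ℂ) * h4 + (d ψ : ℂ) * h5 + (d ψ : ℂ) * (d φ : ℂ) * c.sign_sq
  refine ⟨μ', ⟨c.dade, c.powA, Or.inl c.mem, ?_, ?_, ?_, ?_, c.sign, ?_, ?_, ?_⟩, hS' χ c.mem⟩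
  · obtain ⟨ψ, h, hne⟩ := c.two
    exact ⟨ψ, Or.inl h, hne⟩
  · rintro ψ (h | h)
    · exact c.irr ψ h
    · exact hPirr ψ h
  · rintro ψ (h | h) k hk
    · exact Or.inl (c.powS ψ h k hk)
    · exact Or.inr (hPpow ψ h k hk)
  · rintro ψ (h | h)
    · exact c.deg ψ h
    · exact ⟨d ψ, hd0 ψ h, hd1 ψ h⟩
  · intro ψ hψ
    by_cases hs : ψ ∈ S
    · rw [hS' ψ hs]; exact c.irrμ ψ hs
    have hψP : ψ ∈ P := hψ.resolve_left hs
    obtain ⟨p, q, hp, hq, epq⟩ := isGenChar_dadeIsometry c.dade (hαgen ψ hψP) (hαA ψ hψP)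
    have hgen : IsGeneralizedCharacter G (μ' ψ) := by
      have hμχ := irr_isCharacter (c.irrμ χ c.mem)
      rw [hP' ψ hs, epq]
      have h1 : IsGeneralizedCharacter G (ε • (p - q)) := by
        rcases c.sign with h | h <;> rw [h]
        · exact ⟨p, q, hp, hq, by simp⟩
        · exact ⟨q, p, hq, hp, by simp⟩
      obtain ⟨a, b, ha, hb, eab⟩ := h1
      rw [eab]
      obtain ⟨a', b', ha', hb', e'⟩ := isGenChar_sub_smul
        (⟨b, a, hb, ha, rfl⟩ : IsGeneralizedCharacter G (b - a)) hμχ (d ψ)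
      refine ⟨b', a', hb', ha', ?_⟩
      rw [← neg_sub a' b', ← e']
      abel
    obtain ⟨e, ν, he, heν⟩ := exists_sign_of_norm_one hgen (by rw [hPP ψ hψP hs ψ hψP hs, if_pos rfl])
    have h1 : μ' ψ 1 = (d ψ : ℂ) * μ χ 1 := by
      have h0 : dadeIsometry A L R (ψ - (d ψ : ℂ) • χ) 1 = 0 := by
        have hsp : ∀ φ ∈ ({ψ, χ} : Set (L → ℂ)), ∀ x : L, x ≠ 1 → (x : G) ∉ A → φ x = 0 := by
          rintro φ (rfl | rfl)
          exacts [hPv φ hψP, hvan φ c.mem]
        refine (dade_isometryOn c.dade {ψ, χ} ?_ hsp).2 _ ⟨?_, fun x hx => ?_⟩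
        · rintro φ (rfl | rfl)
          exacts [irr_isCharacter (hPirr φ hψP), irr_isCharacter hχirr]
        · rw [show ψ - (d ψ : ℂ) • χ = ψ - (d ψ : ℤ) • χ by funext x; simp]
          exact Submodule.sub_mem _ (Submodule.subset_span (Set.mem_insert _ _))
            (Submodule.smul_mem _ _ (Submodule.subset_span (Set.mem_insert_of_mem _ rfl)))
        · rw [show x = 1 by simpa using hx]
          simp [hd1 ψ hψP]
      rw [hP' ψ hs]
      simp [h0]
    rw [heν] at h1 ⊢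
    rcases he with h | h
    · subst h; simpa using ν.2
    · exfalso
      subst h
      simp only [Int.cast_neg, Int.cast_one, Pi.smul_apply, smul_eq_mul, char_one_eq_deg (irr_isCharacter ν.2),
        char_one_eq_deg (irr_isCharacter (c.irrμ χ c.mem))] at h1
      have h2 := congrArg Complex.re h1
      simp at h2
      have h3 : (1 : ℝ) ≤ Char.deg (ν : G → ℂ) := by exact_mod_cast deg_pos ν.2
      have h4 : (0 : ℝ) ≤ (d ψ : ℝ) * Char.deg (μ χ) := by positivity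
      linarith
  · intro ψ hψ φ hφ e
    by_contra hne
    by_cases hs : ψ ∈ S
    · by_cases hs' : φ ∈ S
      · rw [hS' ψ hs, hS' φ hs'] at e
        exact hne (c.inj ψ hs φ hs' e)
      · have h := hinner φ (hφ.resolve_left hs') hs' ψ hs
        rw [← e, hS' ψ hs, irr_self (c.irrμ ψ hs)] at h
        exact one_ne_zero h
    · by_cases hs' : φ ∈ S
      · have h := hinner ψ (hψ.resolve_left hs) hs φ hs'
        rw [e, hS' φ hs', irr_self (c.irrμ φ hs')] at h
        exact one_ne_zero h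
      · have h := hPP ψ (hψ.resolve_left hs) hs φ (hφ.resolve_left hs') hs'
        rw [← e, hPP ψ (hψ.resolve_left hs) hs ψ (hψ.resolve_left hs) hs, if_pos rfl, if_neg hne] at h
        exact one_ne_zero h
  · intro ψ hψ d' hd' g
    by_cases hs : ψ ∈ S
    · rw [hS' ψ hs, hS' χ c.mem]
      exact c.ext ψ hs d' hd' g
    · have hψP : ψ ∈ P := hψ.resolve_left hs
      have hdd' : (d' : ℂ) = (d ψ : ℂ) := mul_right_cancel₀ (irr_one_ne_zero hχirr) (hd'.symm.trans (hd1 ψ hψP))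
      rw [hdd', hP' ψ hs, hS' χ c.mem]
      simp only [Pi.add_apply, Pi.smul_apply, smul_eq_mul]
      linear_combination -(dadeIsometry A L R (ψ - (d ψ : ℂ) • χ) g) * c.sign_sq

end Coh

end Cfsg.Agent.OddChar
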