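import Cfsg.Agent.Lib.OddChar.DadeSpan
import Cfsg.Agent.Lib.Char.CoherenceKernel
import Cfsg.Agent.Lib.Char.SibleyApps
import Cfsg.Agent.Lib.Char.SibleyCentral
import Cfsg.Agent.Lib.Solv.Generation
import Cfsg.Agent.Lib.OddLocal.TauTwoNormal

/-!
Frobenius groups of odd order: the complement is a Z-group, and the quotient by the derived
subgroup of the kernel is again Frobenius.
-/

set_option autoImplicit false
set_option linter.unusedSectionVars false
set_option linter.style.haveILetI false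

open Cfsg Cfsg.Agent.Char
open scoped commutatorElement

namespace Cfsg.Agent.OddChar

universe u

variable {X : Type u} [Group X] [Finite X]

/-- A complement without fixed points on a nontrivial kernel of a group of odd order has cyclic Sylow subgroups. -/
theorem isZGroup_of_fpf (hodd : Odd (Nat.card X)) {V U : Subgroup X} [V.Normal] (hV : V ≠ ⊥)
    (hfree : ∀ u ∈ U, u ≠ 1 → ∀ v ∈ V, u * v = v * u → v = 1)
    (hco : (Nat.card U).Coprime (Nat.card V)) : IsZGroup ↥U := by
  rw [isZGroup_iff]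
  intro p hp R
  haveI := Fact.mk hp
  by_contra hnc
  set R' : Subgroup X := (R : Subgroup U).map U.subtype with hR'
  have hR : IsPGroup p R' := R.isPGroup'.map _
  have hRU : R' ≤ U := Subgroup.map_subtype_le _
  have hnc' : ¬ IsCyclic R' := fun h => hnc (by
    haveI := h
    exact isCyclic_of_surjective ((R : Subgroup U).equivMapOfInjective U.subtype U.subtype_injective).symm
      (MulEquiv.surjective _))
  have hp2 : p ≠ 2 := fun h => by
    obtain ⟨i, hi⟩ := IsPGroup.iff_card.1 hR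
    rcases Nat.eq_zero_or_pos i with h0 | h0
    · refine hnc' ?_
      rw [h0, pow_zero] at hi
      haveI : Subsingleton R' := (Nat.card_eq_one_iff_unique.1 hi).1
      infer_instance
    · have h2 : p ∣ Nat.card X := ((dvd_pow_self p h0.ne').trans hi.symm.dvd).trans
        (Subgroup.card_subgroup_dvd_card R')
      rw [h] at h2
      exact Nat.not_even_iff_odd.2 hodd (even_iff_two_dvd.2 h2)
  obtain ⟨E, hER, hEe, hEc⟩ := OddLocal.TauTwo.exists_elab_sq hp2 hR hnc'
  have hEU : E ≤ U := hER.trans hRU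
  refine hV (le_bot_iff.1 ((Solv.gen_eq E V hEe.1 ?_ (hco.coprime_dvd_left (Subgroup.card_dvd_of_le hEU))).ge.trans
    (iSup₂_le fun B hB => ?_)))
  · rw [Subgroup.normalizer_eq_top]
    exact le_top
  obtain ⟨b, hbB, hb1⟩ : ∃ b ∈ B, b ≠ 1 := B.bot_or_exists_ne_one.resolve_left fun h0 => by
    have hle := Fusion.card_le_mul_of_cycQuot hEe hB
    rw [h0, Subgroup.card_bot, mul_one, hEc, pow_two] at hle
    have : p * 2 ≤ p * p := Nat.mul_le_mul_left p hp.two_le
    have := hp.two_le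
    omega
  intro v hv
  exact Subgroup.mem_bot.2 (hfree b (hEU (hB.1 hbB)) hb1 v hv.1 (Subgroup.mem_centralizer_iff.1 hv.2 b hbB))

/-- Off `[K, K]` an element of a kernel is centralised modulo `[K, K]` only from inside. -/
theorem frob_mod_derived (K : Subgroup X) [K.Normal]
    (hC : ∀ h ∈ K, h ≠ 1 → Subgroup.centralizer ({h} : Set X) ≤ K) :
    ∀ k ∈ K, k ∉ ⁅K, K⁆ → ∀ x : X, x * k * x⁻¹ * k⁻¹ ∈ ⁅K, K⁆ → x ∈ K := by
  intro k hk hkD x hxk
  by_contra hx
  haveI hDn : (⁅K, K⁆).Normal := Subgroup.commutator_normal K K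
  have hfix : ∀ a b : X, a ∈ K → b ∈ K → a⁻¹ * (x * a * x⁻¹) = b⁻¹ * (x * b * x⁻¹) → a = b := fun a b ha hb e => by
    have h1 : x * (b * a⁻¹) = (b * a⁻¹) * x := by
      calc x * (b * a⁻¹) = b * (b⁻¹ * (x * b * x⁻¹)) * (x * a⁻¹) := by group
        _ = b * (a⁻¹ * (x * a * x⁻¹)) * (x * a⁻¹) := by rw [e]
        _ = _ := by group
    by_contra hab
    exact hx (hC _ (mul_mem hb (inv_mem ha)) (fun h0 => hab (mul_inv_eq_one.1 h0).symm)
      (Subgroup.mem_centralizer_singleton_iff.2 h1))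
  let φ : ↥(⁅K, K⁆) → ↥(⁅K, K⁆) := fun d =>
    ⟨(d : X)⁻¹ * (x * d * x⁻¹), mul_mem (inv_mem d.2) (hDn.conj_mem _ d.2 x)⟩
  have hinj : Function.Injective φ := fun a b e => Subtype.ext
    (hfix a b (Subgroup.commutator_le_self K a.2) (Subgroup.commutator_le_self K b.2) (congrArg Subtype.val e))
  have hkd : k⁻¹ * (x * k * x⁻¹) ∈ ⁅K, K⁆ := by
    rw [show k⁻¹ * (x * k * x⁻¹) = k⁻¹ * (x * k * x⁻¹ * k⁻¹) * k⁻¹⁻¹ by group]
    exact hDn.conj_mem _ hxk k⁻¹
  obtain ⟨d, hd⟩ := (Finite.injective_iff_surjective.1 hinj) ⟨_, hkd⟩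
  exact hkD (hfix d k (Subgroup.commutator_le_self K d.2) hk (congrArg Subtype.val hd) ▸ d.2)

end Cfsg.Agent.OddChar
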