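import Cfsg.Agent.Lib.OddChar.FreeAction
import Cfsg.Agent.Lib.OddChar.NormBound
import Cfsg.Agent.Lib.OddLocal.KappaSupport
import Cfsg.Agent.Lib.OddLocal.KappaTauOrder
import Cfsg.Agent.Lib.OddLocal.TauTwoStructure
import Cfsg.Agent.S1378
import Cfsg.Agent.Lib.Char.FrobCoherenceBasic

/-!
A prime of `τ₂(M)` for a maximal subgroup `M` without `κ`-primes: the Frobenius maximal subgroup `L`
containing a Sylow subgroup for this prime.
-/

set_option autoImplicit false
set_option linter.unusedSectionVars false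
set_option linter.style.haveILetI false

open Cfsg
open scoped Pointwise commutatorElement
open Cfsg.Agent.Fusion (SylIn cj cj_eq_self cj_mono card_cj exists_sylIn exists_sylIn_ge)
open Cfsg.Agent.OddLocal.Uniq
open Cfsg.Agent.OddLocal.Sig
open Cfsg.Agent.OddLocal.RankTwo
open Cfsg.Agent.OddLocal.TauTwo
open Cfsg.Agent.OddLocal.Prime
open Cfsg.Agent.OddLocal.Kappa
open Cfsg.Agent.OddLocal.Disjoint (mem_centralizer_zpowers zpowers_card conjugate_of_sigma)
open Cfsg.Agent.OddLocal

namespace Cfsg.Agent.OddChar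

universe u

variable {G : Type u} [Group G] [Finite G]

/-- The action of the normaliser on linear characters. -/
noncomputable def homAct (Y : Subgroup G) :
    ↥(Subgroup.normalizer (Y : Set G)) →* MulAut (↥Y →* ℂˣ) where
  toFun g :=
    { toFun := fun φ => φ.comp (Y.normalizerMonoidHom g⁻¹).toMonoidHom
      invFun := fun φ => φ.comp (Y.normalizerMonoidHom g).toMonoidHom
      left_inv := fun φ => MonoidHom.ext fun y => congrArg φ (by
        show Y.normalizerMonoidHom g⁻¹ (Y.normalizerMonoidHom g y) = y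
        rw [← MulAut.mul_apply, ← map_mul, inv_mul_cancel, map_one]; rfl)
      right_inv := fun φ => MonoidHom.ext fun y => congrArg φ (by
        show Y.normalizerMonoidHom g (Y.normalizerMonoidHom g⁻¹ y) = y
        rw [← MulAut.mul_apply, ← map_mul, mul_inv_cancel, map_one]; rfl)
      map_mul' := fun _ _ => rfl }
  map_one' := MulEquiv.ext fun φ => MonoidHom.ext fun y => congrArg φ (by
    show Y.normalizerMonoidHom (1⁻¹) y = y
    rw [inv_one, map_one]; rfl)
  map_mul' a b := MulEquiv.ext fun φ => MonoidHom.ext fun y => congrArg φ (by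
    show Y.normalizerMonoidHom (a * b)⁻¹ y = Y.normalizerMonoidHom b⁻¹ (Y.normalizerMonoidHom a⁻¹ y)
    rw [mul_inv_rev, map_mul]; rfl)

theorem homAct_eq {Y : Subgroup G} {g : ↥(Subgroup.normalizer (Y : Set G))} {φ : ↥Y →* ℂˣ} (h : homAct Y g φ = φ)
    {y y' : Y} (e : (y' : G) = (g : G) * y * (g : G)⁻¹) : φ y' = φ y := by
  have h1 := DFunLike.congr_fun h y'
  rw [← h1]
  show φ (Y.normalizerMonoidHom g⁻¹ y') = φ y
  refine congrArg φ (Subtype.ext ?_)
  show ((g⁻¹ : ↥(Subgroup.normalizer (Y : Set G))) : G) * y' * ((g⁻¹ : ↥(Subgroup.normalizer (Y : Set G))) : G)⁻¹ = y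
  rw [e]
  push_cast
  group

/-- A `p`-group without fixed points fixes only the trivial linear character. -/
theorem homAct_fix {p : ℕ} [Fact p.Prime] {X Y : Subgroup G} (hX : IsPGroup p X)
    (hXY : X ≤ Subgroup.normalizer (Y : Set G)) (hpY : ¬ p ∣ Nat.card Y)
    (hC : Y ⊓ Subgroup.centralizer (X : Set G) = ⊥) {φ : ↥Y →* ℂˣ}
    (hφ : ∀ x (hx : x ∈ X), homAct Y ⟨x, hXY hx⟩ φ = φ) : φ = 1 :=
  invariant_hom_trivial hX hXY hpY hC φ fun x hx _ _ e => homAct_eq (hφ x hx) e

variable {t : ℕ} [ht : Fact t.Prime]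

theorem dvd_pred_of_line {W X : Subgroup G} (hX : Nat.card X = t) (hle : W ≤ Subgroup.normalizer (X : Set G))
    (hfree : ∀ g ∈ W, g ≠ 1 → ∀ a ∈ X, g * a = a * g → a = 1) : Nat.card W ∣ t - 1 := by
  haveI : IsCyclic X := isCyclic_of_prime_card hX
  let ρ : W →* MulAut X := X.normalizerMonoidHom.comp (Subgroup.inclusion hle)
  have hρ : Function.Injective ρ := by
    rw [injective_iff_map_eq_one]
    intro g hg
    by_contra hg1
    obtain ⟨a, ha, ha1⟩ := X.bot_or_exists_ne_one.resolve_left fun h => by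
      rw [h, Subgroup.card_bot] at hX
      exact ht.out.ne_one hX.symm
    refine ha1 (hfree g g.2 (fun e => hg1 (Subtype.ext e)) a ha ?_)
    have h := congrArg (fun σ : MulAut X => (σ ⟨a, ha⟩ : G)) hg
    change (g : G) * a * (g : G)⁻¹ = a at h
    exact mul_inv_eq_iff_eq_mul.1 h
  have hd := Subgroup.card_dvd_of_injective ρ hρ
  rwa [IsCyclic.card_mulAut, hX, Nat.totient_prime ht.out] at hd

/-- The configuration around a prime of `τ₂(M)`. -/
structure FrobConfig (t : ℕ) (M L A E W : Subgroup G) (w : G) : Prop where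
  minSimple : IsMinSimpleOddOrder G
  coatomM : IsCoatom M
  coatomL : IsCoatom L
  setup : Setup t M A
  complM : IsComplIn E (sigmaCore M) M
  E_eq : L ⊓ M = E
  E_le : E ≤ sigmaCore L
  E_comm : IsMulCommutative E
  A_le : A ≤ E
  not_conj : ∀ g : G, M ≠ cj L g
  frob : ∀ h ∈ sigmaCore L, h ≠ 1 → L ⊓ Subgroup.centralizer ({h} : Set G) ≤ sigmaCore L
  complL : IsComplIn W (sigmaCore L) L
  W_ne : W ≠ ⊥
  bound : 2 * Nat.card W ≤ t + 1
  good : (¬ ∃ p j : ℕ, p.Prime ∧ Nat.card (sigmaCore L) = p ^ j) ∨ IsMulCommutative ↥(sigmaCore L) ∨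
    Nat.card W ∣ t - 1
  w_mem : w ∈ A
  w_order : orderOf w = t
  w_fix : ¬ sigmaCore M ⊓ Subgroup.centralizer ({w} : Set G) ≤ ⁅sigmaCore M, sigmaCore M⁆
  unique : ∀ N : Subgroup G, IsCoatom N → Subgroup.centralizer ({w} : Set G) ≤ N → N = M
  w_not : ¬ Subgroup.centralizer ({w} : Set G) ≤ L

/-- The subgroups around a prime of `τ₂(M)` and a maximal subgroup `L` containing a Sylow subgroup for it. -/
structure Pre (t : ℕ) (M L A E S : Subgroup G) (w : G) : Prop where
  minSimple : IsMinSimpleOddOrder G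
  coatomM : IsCoatom M
  coatomL : IsCoatom L
  kappaM : kappa M = ∅
  tau : t ∈ tau2 M
  minimal : ∀ N : Subgroup G, IsCoatom N → kappa N = ∅ → ∀ s ∈ tau2 N, t ≤ s
  setup : Setup t M A
  sigmaL : t ∈ sigma L
  complM : IsComplIn E (sigmaCore M) M
  E_eq : L ⊓ M = E
  A_le : A ≤ E
  syl : SylIn t S ⊤
  A_S : A ≤ S
  S_core : S ≤ sigmaCore L
  not_conj : ∀ g : G, M ≠ cj L g
  w_mem : w ∈ A
  w_order : orderOf w = t
  w_fix : ¬ sigmaCore M ⊓ Subgroup.centralizer ({w} : Set G) ≤ ⁅sigmaCore M, sigmaCore M⁆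
  centralizer_le : Subgroup.centralizer ({w} : Set G) ≤ M
  unique : ∀ N : Subgroup G, IsCoatom N → Subgroup.centralizer ({w} : Set G) ≤ N → N = M
  w_not : ¬ Subgroup.centralizer ({w} : Set G) ≤ L

/-- Every maximal subgroup with `t` among its `σ`-primes gives such subgroups. -/
theorem exists_pre (hG : IsMinSimpleOddOrder G) {M : Subgroup G} (hM : IsCoatom M) (hκ : kappa M = ∅)
    (htM : t ∈ tau2 M) (hmin : ∀ N : Subgroup G, IsCoatom N → kappa N = ∅ → ∀ s ∈ tau2 N, t ≤ s)
    {L₀ : Subgroup G} (hL₀ : IsCoatom L₀) (htL₀ : t ∈ sigma L₀) :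
    ∃ (g : G) (A E S : Subgroup G) (w : G), Pre t M (cj L₀ g) A E S w := by
  classical
  obtain ⟨E₀, hE₀⟩ := exists_compl hG hM
  obtain ⟨A, hAE₀, s⟩ := exists_setup_in_compl hG hM hE₀ htM
  set Y := sigmaCore M with hY
  have hYM : Y ≤ M := Subgroup.map_subtype_le _
  have hYn : M ≤ Subgroup.normalizer (Y : Set G) := le_normalizer_piCoreOf
  have hnil : Group.IsNilpotent ↥Y := sigmaCore_nilpotent s
  have hY1 : Y ≠ ⊥ := FitParts.sigmaCore_ne_bot hG hM
  have hA := s.elem
  have hYπ : ∀ q : ℕ, q.Prime → q ∣ Nat.card Y → q ∈ sigma M := (sigmaCore_hall hG hM).1.2.1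
  have htY : ¬ t ∣ Nat.card Y := fun h => s.not_sigma (hYπ t ht.out h)
  have hco : (Nat.card A).Coprime (Nat.card Y) := by
    rw [s.card]
    exact ((Nat.Prime.coprime_iff_not_dvd ht.out).2 htY).pow_left 2
  -- the derived subgroup of the core
  set Ψ : Subgroup G := ⁅Y, Y⁆ with hΨ
  have hΨY : Ψ ≤ Y := Subgroup.commutator_le_self Y
  obtain ⟨y₀, hy₀, hy₀Ψ⟩ : ∃ y ∈ Y, y ∉ Ψ := by
    by_contra h
    push Not at h
    haveI := hnil
    haveI : Nontrivial Y := (Subgroup.nontrivial_iff_ne_bot Y).2 hY1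
    refine (Group.IsSolvable.commutator_lt_top_of_nontrivial Y).ne (Subgroup.map_injective Y.subtype_injective ?_)
    rw [Y.map_subtype_commutator, ← MonoidHom.range_eq_map, Subgroup.range_subtype]
    exact le_antisymm hΨY h
  obtain ⟨w, hw, hw1, hwfix⟩ : ∃ w ∈ A, w ≠ 1 ∧ ¬ Y ⊓ Subgroup.centralizer ({w} : Set G) ≤ Ψ := by
    by_contra hno
    push Not at hno
    refine hy₀Ψ ((Solv.gen_eq A Y hA.1 (s.le.trans hYn) hco).ge.trans (iSup₂_le fun B hB => ?_) hy₀)
    obtain ⟨b, hbB, hb1⟩ : ∃ b ∈ B, b ≠ 1 := B.bot_or_exists_ne_one.resolve_left fun h0 => by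
      have hle := Fusion.card_le_mul_of_cycQuot hA hB
      rw [h0, Subgroup.card_bot, mul_one, s.card, pow_two] at hle
      have : t * 2 ≤ t * t := Nat.mul_le_mul_left t ht.out.two_le
      have := ht.out.two_le
      omega
    refine le_trans (inf_le_inf_left Y ?_) (hno b (hB.1 hbB) hb1)
    intro g hg
    exact Subgroup.mem_centralizer_singleton_iff.2 (Subgroup.mem_centralizer_iff.1 hg b hbB).symm
  have hwo : orderOf w = t := orderOf_eq_prime (hA.2 w hw) hw1
  obtain ⟨hCM, huniq⟩ := centralizer_unique_of_fixed s (Subgroup.zpowers_le.2 hw)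
    (by rw [Nat.card_zpowers, hwo]) (fun h => hwfix (by
      rw [centralizer_zpowers] at h
      rw [h]; exact bot_le))
  rw [centralizer_zpowers] at hCM huniq
  -- the maximal subgroup over a Sylow subgroup containing `A`
  obtain ⟨S, hS, hAS⟩ := exists_sylIn_ge (Fusion.elab_isPGroup hA) (le_top (a := A))
  obtain ⟨P, hP⟩ := exists_sylIn (p := t) L₀
  obtain ⟨g, -, hgS⟩ := (sigma_sylow htL₀ hP).1.conj_eq hS
  set L := cj L₀ g with hLdef
  have hL : IsCoatom L := isCoatom_cj hL₀ g
  have htL : t ∈ sigma L := sigma_of_cj (g := g⁻¹) (by rw [hLdef, Fusion.cj_cj_inv]; exact htL₀)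
  have hSL : S ≤ sigmaCore L := by
    rw [← hgS, hLdef, Support.sigmaCore_cj hG hL₀]
    exact cj_mono (le_of_hall (sigmaCore_hall hG hL₀).1 le_normalizer_piCoreOf hP.le
      (piNum_of_pgroup hP.isPGroup htL₀)) g
  have hHL : sigmaCore L ≤ L := Subgroup.map_subtype_le _
  have hne : L ≠ M := fun h => s.not_sigma (h ▸ htL)
  have hwH : w ∈ sigmaCore L := hSL (hAS hw)
  have hwnot : ¬ Subgroup.centralizer ({w} : Set G) ≤ L := fun h => hne (huniq L hL h)
  obtain ⟨M', hM', hCM', -, hcomplM, -, -, -, -⟩ := Support.over_centralizer hG hL hwH hw1 hwnot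
  obtain rfl : M' = M := huniq M' hM' hCM'
  set E := L ⊓ M' with hE
  have hAE : A ≤ E := le_inf (hAS.trans (hSL.trans hHL)) s.le
  exact ⟨g, A, L ⊓ M', S, w,
    { minSimple := hG, coatomM := hM, coatomL := hL, kappaM := hκ, tau := htM, minimal := hmin, setup := s
      sigmaL := htL, complM := hcomplM, E_eq := rfl, A_le := hAE, syl := hS, A_S := hAS, S_core := hSL
      not_conj := fun g h => s.not_sigma (h ▸ sigma_of_cj (g := g⁻¹) (by rw [Fusion.cj_cj_inv]; exact htL))
      w_mem := hw, w_order := hwo, w_fix := hwfix, centralizer_le := hCM, unique := huniq, w_not := hwnot }⟩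

/-- A point of prime order `q < t` of `E` cannot act freely on `A`. -/
theorem Pre.no_free {M L A E S : Subgroup G} {w : G} (d : Pre t M L A E S w) {q : ℕ} [hqf : Fact q.Prime]
    {u : G} (huE : u ∈ E) (huo : orderOf u = q) (hqlt : q < t)
    (hufreeA : ∀ a ∈ A, u * a = a * u → a = 1) : False := by
  have hG := d.minSimple
  have hM := d.coatomM
  have s := d.setup
  have hq := hqf.out
  set Y := sigmaCore M with hY
  have hYn : M ≤ Subgroup.normalizer (Y : Set G) := le_normalizer_piCoreOf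
  have hA := s.elem
  have hYπ : ∀ r : ℕ, r.Prime → r ∣ Nat.card Y → r ∈ sigma M := (sigmaCore_hall hG hM).1.2.1
  have htY : ¬ t ∣ Nat.card Y := fun h => s.not_sigma (hYπ t ht.out h)
  have huM : u ∈ M := (d.E_eq.ge huE).2
  have huA : u ∈ Subgroup.normalizer (A : Set G) := (complement_tau2 s d.complM d.A_le).1.1 huE
  have hqd : q ∣ Nat.card E := huo ▸ Subgroup.orderOf_dvd_natCard _ huE
  have hqσ := compl_pi hG hM d.complM hq hqd
  have hu1 : u ≠ 1 := fun h => hq.ne_one (by rw [← huo, h, orderOf_one])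
  have hXp : IsPGroup q ↥(Subgroup.zpowers u) := IsPGroup.of_card (n := 1) (by rw [Nat.card_zpowers, huo, pow_one])
  obtain ⟨y₀, ⟨hy₀, -⟩, hy₀Ψ⟩ := SetLike.not_le_iff_exists.1 d.w_fix
  set Ψ : Subgroup G := ⁅Y, Y⁆ with hΨ
  have hqτ : q ∉ tau2 M := fun h => absurd (d.minimal M hM d.kappaM q h) (not_le.2 hqlt)
  have hufreeY : ∀ y ∈ Y, u * y = y * u → y = 1 := fun y hy e => by
    by_contra hy1
    rcases fixed_class hG hM huM hy hy1 e hq huo.symm.dvd hqσ with h | h
    · exact Set.eq_empty_iff_forall_notMem.1 d.kappaM q h.1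
    · exact hqτ h
  set N := Subgroup.normalizer (Y : Set G) with hN
  have hAN : A ≤ N := s.le.trans hYn
  have huN : u ∈ N := hYn huM
  have hXY : Subgroup.zpowers u ≤ N := Subgroup.zpowers_le.2 huN
  have key := frobenius_trick (V := ↥Y →* ℂˣ) (homAct Y) (A.subgroupOf N) (h := ⟨u, huN⟩) (r := q) hq.pos
    (Subtype.ext (by
      show u ^ q = 1
      rw [← huo, pow_orderOf_eq_one]))
    (Subgroup.mem_normalizer_iff.2 fun x => by
      rw [Subgroup.mem_subgroupOf, Subgroup.mem_subgroupOf]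
      exact Subgroup.mem_normalizer_iff.1 huA x)
    (fun k hk0 hkq a ha e => by
      refine Subtype.ext (hufreeA a ha ?_)
      have e' : Commute (a : G) (u ^ k) := congrArg Subtype.val e
      obtain ⟨j, hj⟩ := exists_pow_eq_self_of_coprime (x := u) (n := k) (by
        rw [huo]; exact (Nat.coprime_of_lt_prime hk0.ne' hkq hq).symm)
      have e2 := e'.pow_right j
      rw [hj] at e2
      exact e2.symm.eq)
    (fun φ hφ => homAct_fix (Fusion.elab_isPGroup hA) hAN htY (sigmaCore_inf_centralizer s)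
      fun x hx => hφ ⟨x, hAN hx⟩ hx)
    (fun φ hφ => by
      refine homAct_fix hXp hXY (fun h => hqσ (hYπ q hq h)) ?_ fun x hx => ?_
      · rw [eq_bot_iff]
        intro y hy
        exact Subgroup.mem_bot.2 (hufreeY y hy.1 (Subgroup.mem_centralizer_iff.1 hy.2 u (Subgroup.mem_zpowers u)))
      · obtain ⟨i, hi⟩ := ((isOfFinOrder_of_finite u).mem_powers_iff_mem_zpowers.2 hx)
        have hxe : (⟨x, hXY hx⟩ : N) = (⟨u, huN⟩ : N) ^ i := Subtype.ext (by simpa using hi.symm)
        rw [hxe, map_pow]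
        clear hxe hi
        induction i with
        | zero => rw [pow_zero]; rfl
        | succ i ih =>
          rw [pow_succ]
          show (homAct Y ⟨u, huN⟩ ^ i) (homAct Y ⟨u, huN⟩ φ) = φ
          rw [hφ, ih])
  obtain ⟨φ, hφ⟩ := exists_hom_ne_one (Y := ↥Y) (y := ⟨y₀, hy₀⟩) fun h => hy₀Ψ (by
    rw [hΨ, ← Y.map_subtype_commutator]
    exact ⟨_, h, rfl⟩)
  have h1 := DFunLike.congr_fun (key φ) ⟨y₀, hy₀⟩
  rw [Nat.card_congr (Subgroup.subgroupOfEquivOfLe hAN).toEquiv, MonoidHom.pow_apply, MonoidHom.one_apply,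
    s.card] at h1
  have h2 : φ ⟨y₀, hy₀⟩ ^ Nat.card Y = 1 := by rw [← map_pow, pow_card_eq_one', map_one]
  have h3 := Nat.dvd_gcd (orderOf_dvd_of_pow_eq_one h1) (orderOf_dvd_of_pow_eq_one h2)
  rw [((Nat.Prime.coprime_iff_not_dvd ht.out).2 htY |>.pow_left 2).gcd_eq_one, Nat.dvd_one] at h3
  exact hφ (orderOf_eq_one_iff.1 h3)

/-- The configuration exists when the relevant maximal subgroup has no `κ`-prime. -/
theorem exists_config (hG : IsMinSimpleOddOrder G) {M : Subgroup G} (hM : IsCoatom M) (hκ : kappa M = ∅)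
    (htM : t ∈ tau2 M)
    (hmin : ∀ N : Subgroup G, IsCoatom N → kappa N = ∅ → ∀ s ∈ tau2 N, t ≤ s)
    (hκL : ∀ L : Subgroup G, IsCoatom L → t ∈ sigma L → kappa L = ∅) :
    ∃ (L A E W : Subgroup G) (w : G), FrobConfig t M L A E W w := by
  classical
  have htG : t ∣ Nat.card G := by
    obtain ⟨E, hE⟩ := exists_compl hG hM
    obtain ⟨A, -, s⟩ := exists_setup_in_compl hG hM hE htM
    exact (dvd_pow_self t two_ne_zero).trans (s.card ▸ Subgroup.card_subgroup_dvd_card A)
  obtain ⟨L₀, hL₀, htL₀⟩ := (S1378.result hG).1 t ht.out htG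
  obtain ⟨g, A, E, S, w, d⟩ := exists_pre hG hM hκ htM hmin hL₀ htL₀
  revert d
  generalize cj L₀ g = L
  intro d
  have hL := d.coatomL
  have htL := d.sigmaL
  have s := d.setup
  have hS := d.syl
  have hAS := d.A_S
  have hSL := d.S_core
  have hw := d.w_mem
  have hwo := d.w_order
  have hwfix := d.w_fix
  have hCM := d.centralizer_le
  have huniq := d.unique
  have hwnot := d.w_not
  have hcomplM := d.complM
  have hAE := d.A_le
  obtain rfl := d.E_eq
  have hHL : sigmaCore L ≤ L := Subgroup.map_subtype_le _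
  have hwH : w ∈ sigmaCore L := hSL (hAS hw)
  have hw1 : w ≠ 1 := fun h => ht.out.ne_one (by rw [← hwo, h, orderOf_one])
  have hLκ := hκL L hL htL
  have hLτ : tau2 L = ∅ := Set.eq_empty_iff_forall_notMem.2 fun q hq =>
    absurd (hmin L hL hLκ q hq) (not_le.2 (tau2_lt hG hL hM htL htM hq))
  -- the Frobenius condition in `L`
  have hfrob : ∀ h ∈ sigmaCore L, h ≠ 1 → L ⊓ Subgroup.centralizer ({h} : Set G) ≤ sigmaCore L := by
    intro h hh hh1 x hx
    by_contra hxH
    obtain ⟨q, hq, hqd, hqσ⟩ : ∃ q : ℕ, q.Prime ∧ q ∣ orderOf x ∧ q ∉ sigma L := by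
      by_contra hno
      push Not at hno
      refine hxH (le_of_hall (sigmaCore_hall hG hL).1 le_normalizer_piCoreOf (Subgroup.zpowers_le.2 hx.1)
        (fun q hq hd => hno q hq (by rwa [Nat.card_zpowers] at hd)) (Subgroup.mem_zpowers x))
    rcases fixed_class hG hL hx.1 hh hh1 (Subgroup.mem_centralizer_singleton_iff.1 hx.2) hq hqd hqσ with h' | h'
    · exact Set.eq_empty_iff_forall_notMem.1 hLκ q h'.1
    · exact Set.eq_empty_iff_forall_notMem.1 hLτ q h'
  -- `(L ⊓ M)` lies in the kernel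
  have hEH : (L ⊓ M) ≤ sigmaCore L := by
    by_contra hno
    obtain ⟨q, hq, hqd, hqσ⟩ : ∃ q : ℕ, q.Prime ∧ q ∣ Nat.card ↥(L ⊓ M) ∧ q ∉ sigma L := by
      by_contra h
      push Not at h
      exact hno (le_of_hall (sigmaCore_hall hG hL).1 le_normalizer_piCoreOf inf_le_left fun q hq hd => h q hq hd)
    haveI := Fact.mk hq
    obtain ⟨⟨u, huE⟩, huo⟩ := exists_prime_orderOf_dvd_card' q hqd
    rw [Subgroup.orderOf_mk] at huo
    have hu1 : u ≠ 1 := fun h => hq.ne_one (by rw [← huo, h, orderOf_one])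
    have huA : u ∈ Subgroup.normalizer (A : Set G) := (complement_tau2 s hcomplM hAE).1.1 huE
    have hufreeA : ∀ a ∈ A, u * a = a * u → a = 1 := fun a ha e => by
      by_contra ha1
      exact hqσ ((sigmaCore_hall hG hL).1.2.1 q hq (huo ▸ Subgroup.orderOf_dvd_natCard _
        (hfrob a (hSL (hAS ha)) ha1 ⟨huE.1, Subgroup.mem_centralizer_singleton_iff.2 e⟩)))
    have hXn : Subgroup.zpowers u ≤ Subgroup.normalizer (A : Set G) := Subgroup.zpowers_le.2 huA
    have hXp : IsPGroup q ↥(Subgroup.zpowers u) := IsPGroup.of_card (n := 1) (by rw [Nat.card_zpowers, huo, pow_one])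
    have hqt : q ∣ t ^ 2 - 1 := by
      let ρ : ↥(Subgroup.zpowers u) →* MulAut A := A.normalizerMonoidHom.comp (Subgroup.inclusion hXn)
      letI : MulAction (Subgroup.zpowers u) A := MulAction.compHom A ρ
      have hfix : MulAction.fixedPoints (Subgroup.zpowers u) A = {1} := by
        refine Set.eq_singleton_iff_unique_mem.2 ⟨fun x => map_one (ρ x), fun a ha => ?_⟩
        refine Subtype.ext (hufreeA a a.2 ?_)
        have h := congrArg Subtype.val (ha ⟨u, Subgroup.mem_zpowers u⟩)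
        change u * (a : G) * u⁻¹ = a at h
        exact mul_inv_eq_iff_eq_mul.1 h
      have hmod := hXp.card_modEq_card_fixedPoints (α := A)
      rw [hfix, Nat.card_coe_set_eq, Set.ncard_singleton, s.card] at hmod
      exact (Nat.modEq_iff_dvd' (Nat.one_le_pow _ _ ht.out.pos)).1 hmod.symm
    have htodd : t % 2 = 1 := (Nat.Prime.eq_two_or_odd ht.out).resolve_left s.ne_two
    have hqodd : q ≠ 2 := fun h => by
      subst h
      exact Uniq.ne_two hG hXp (fun hb => hu1 (Subgroup.mem_bot.1 (hb ▸ Subgroup.mem_zpowers u))) rfl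
    have hqlt : q < t := by
      have h1 : t ^ 2 - 1 = (t + 1) * (t - 1) := by rw [← Nat.sq_sub_sq, one_pow]
      rw [h1] at hqt
      have := ht.out.two_le
      rcases hq.dvd_mul.1 hqt with h | h
      · have := Nat.le_of_dvd (by omega) h
        rcases lt_or_ge q t with h2 | h2
        · exact h2
        · exfalso
          have h3 : q = t ∨ q = t + 1 := by omega
          rcases h3 with rfl | rfl
          · exact hqσ htL
          · rcases Nat.Prime.eq_two_or_odd hq with h4 | h4 <;> omega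
      · have := Nat.le_of_dvd (by omega) h
        omega
    exact d.no_free huE huo hqlt hufreeA
  -- a complement in `L`
  obtain ⟨W, hW⟩ := exists_compl hG hL
  have hW1 : W ≠ ⊥ := fun h => by
    obtain ⟨hsolv, hodd⟩ : Group.IsSolvable ↥L ∧ True := ⟨hG.2.2.2 L hL.1, trivial⟩
    have hLH : L ≤ sigmaCore L := fun x hx => by
      obtain ⟨a, ha, b, hb, rfl⟩ := hW.2.2.2 x hx
      rw [h, Subgroup.mem_bot] at ha
      rw [ha, one_mul]; exact hb
    haveI := hsolv
    haveI : Nontrivial L := (Subgroup.nontrivial_iff_ne_bot L).2 fun hb =>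
      hw1 (Subgroup.mem_bot.1 (hb ▸ hHL hwH))
    refine (Group.IsSolvable.commutator_lt_top_of_nontrivial L).ne (Subgroup.map_injective L.subtype_injective ?_)
    rw [L.map_subtype_commutator, ← MonoidHom.range_eq_map, Subgroup.range_subtype]
    exact le_antisymm (Subgroup.commutator_le_self L) (hLH.trans (core_le_derived hG hL))
  have hWH : ∀ x ∈ W, x ∈ sigmaCore L → x = 1 := fun x hx hxH =>
    Subgroup.mem_bot.1 (hW.2.2.1 ▸ Subgroup.mem_inf.2 ⟨hx, hxH⟩)
  have hWfree : ∀ x ∈ W, x ≠ 1 → ∀ a ∈ sigmaCore L, x * a = a * x → a = 1 := fun x hx hx1 a ha e => by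
    by_contra ha1
    exact hx1 (hWH x hx (hfrob a ha ha1 ⟨hW.1 hx, Subgroup.mem_centralizer_singleton_iff.2 e⟩))
  have hnilH : Group.IsNilpotent ↥(sigmaCore L) := by
    have hKL : ((sigmaCore L).subgroupOf L) ≠ ⊤ := fun h => hW1 (eq_bot_iff.2 fun x hx =>
      Subgroup.mem_bot.2 (hWH x hx (Subgroup.subgroupOf_eq_top.1 h (hW.1 hx))))
    haveI : ((sigmaCore L).subgroupOf L).Normal :=
      Subgroup.normal_subgroupOf_of_le_normalizer le_normalizer_piCoreOf
    haveI := Char.frobKernel_nilpotent ((sigmaCore L).subgroupOf L) hKL fun h hh hh1 z hz =>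
      Subgroup.mem_subgroupOf.2 (hfrob h hh (fun e => hh1 (Subtype.ext e)) ⟨z.2,
        Subgroup.mem_centralizer_singleton_iff.2 (congrArg Subtype.val (Subgroup.mem_centralizer_singleton_iff.1 hz) :)⟩)
    exact Group.nilpotent_of_mulEquiv (Subgroup.subgroupOfEquivOfLe hHL)
  have hEc : IsMulCommutative ↥(L ⊓ M) := nilpotent_abelian hG hM inf_le_right
    (by haveI := hnilH; exact Solv.isNilpotent_of_le hEH hnilH)
    fun q hq hd => compl_pi hG hM hcomplM hq hd
  have hLS : L ≤ Subgroup.normalizer (S : Set G) :=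
    SigmaSubgroups.sylow_of_nilpotent_normal hnilH le_normalizer_piCoreOf (hS.mono hSL le_top)
  set Z := omz t S with hZ
  have hZA : Z ≤ A := fun z hz => s.full z (centralizer_le_of_le hAS hz.2.1) hz.2.2
  have hWA : W ≤ Subgroup.normalizer (Z : Set G) := hW.1.trans (hLS.trans (normalizer_le_omz S))
  have hZ1 : Z ≠ ⊥ := omz_ne_bot hS.isPGroup fun h => s.ne_bot (le_bot_iff.1 (h ▸ hAS))
  obtain ⟨i, hi2, hi⟩ := (Nat.dvd_prime_pow ht.out).1 (s.card ▸ Subgroup.card_dvd_of_le hZA)
  have hodd : Odd (Nat.card W) := hG.1.of_dvd_nat (Subgroup.card_subgroup_dvd_card W)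
  have hbg : 2 * Nat.card W ≤ t + 1 ∧ ((¬ ∃ p j : ℕ, p.Prime ∧ Nat.card (sigmaCore L) = p ^ j) ∨
      IsMulCommutative ↥(sigmaCore L) ∨ Nat.card W ∣ t - 1) := by
    have hcase : i = 1 ∨ i = 2 := by
      have : i ≠ 0 := fun h => hZ1 (Subgroup.card_eq_one.1 (by rw [hi, h, pow_zero]))
      omega
    rcases hcase with rfl | rfl
    · have hd := dvd_pred_of_line (t := t) (W := W) (X := Z) (by rw [hi, pow_one]) hWA
        fun x hx hx1 a ha e => hWfree x hx hx1 a (hSL (omz_le S ha)) e
      refine ⟨?_, Or.inr (Or.inr hd)⟩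
      have h2 := ht.out.two_le
      obtain ⟨c, hc⟩ := hd
      obtain ⟨k, hk⟩ := hodd
      have htodd : t % 2 = 1 := (Nat.Prime.eq_two_or_odd ht.out).resolve_left s.ne_two
      rcases c with _ | _ | c
      · rw [mul_zero] at hc; omega
      · omega
      · have h3 : 2 * Nat.card W ≤ Nat.card W * (c + 1 + 1) := by
          rw [mul_comm 2]; exact Nat.mul_le_mul_left _ (by omega)
        omega
    · have hZeq : Z = A := Subgroup.eq_of_le_of_card_ge hZA (by rw [hi, s.card])
      rw [hZeq] at hWA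
      have hco' : ¬ t ∣ Nat.card W := fun h => compl_pi hG hL hW ht.out h htL
      refine ⟨free_bound s hWA (Solv.isSolvable_of_le hW.1 (hG.2.2.2 L hL.1)) hW1 hodd hco'
        (fun x hx hx1 a ha e => hWfree x hx hx1 a (hSL (hAS ha)) e)
        (Subgroup.zpowers_le.2 hw) (by rw [Nat.card_zpowers, hwo]) fun x hx hxn => ?_, ?_⟩
      · have hxM : x ∈ M := by
          have h1 : Subgroup.centralizer ({w} : Set G) ≤ cj M x := by
            have h := cj_mono hCM x
            rw [← centralizer_zpowers, Fusion.cj_centralizer, cj_eq_self hxn, centralizer_zpowers] at h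
            exact h
          have h2 : cj M x = M := huniq _ (isCoatom_cj hM x) h1
          rw [← normalizer_coatom hG hM]
          exact Fusion.mem_normalizer_iff_cj.2 h2
        exact hWH x hx (hEH ⟨hW.1 hx, hxM⟩)
      · by_cases hpp : ∃ p j : ℕ, p.Prime ∧ Nat.card (sigmaCore L) = p ^ j
        swap
        · exact Or.inl hpp
        refine Or.inr (Or.inl ?_)
        obtain ⟨p, j, hp, hj⟩ := hpp
        haveI := Fact.mk hp
        have hpt : p = t := by
          have hd : t ∣ p ^ j := hj ▸ (hwo ▸ Subgroup.orderOf_dvd_natCard _ hwH)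
          exact ((Nat.prime_dvd_prime_iff_eq ht.out hp).1 (ht.out.dvd_of_dvd_pow hd)).symm
        subst hpt
        have hHS : sigmaCore L = S := hS.eq_of_le (IsPGroup.of_card hj) hSL le_top
        have hSA : S ≤ Subgroup.centralizer (A : Set G) := by
          rw [← hZeq]
          exact omz_centralizer S
        rw [hHS]
        exact pgroup_abelian hG hM s.not_sigma hS.isPGroup (hSA.trans s.centralizer_le)
  exact ⟨L, A, L ⊓ M, W, w,
    { minSimple := hG, coatomM := hM, coatomL := hL, setup := s, complM := hcomplM, E_eq := rfl,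
      E_le := hEH, E_comm := hEc, A_le := hAE
      not_conj := d.not_conj
      frob := hfrob, complL := hW, W_ne := hW1, bound := hbg.1, good := hbg.2, w_mem := hw, w_order := hwo
      w_fix := hwfix, unique := huniq, w_not := hwnot }⟩

end Cfsg.Agent.OddChar
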