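import Cfsg.Agent.Lib.Char.Dade
import Cfsg.Agent.Lib.Char.GaloisConj
import Cfsg.Agent.Lib.OddChar.AverageIntegral

/-!
A coherent extension of the Dade map commutes with taking powers; consequences for the
rationality of its values.
-/

set_option autoImplicit false
set_option linter.unusedSectionVars false
set_option linter.style.haveILetI false

open Cfsg Module Cfsg.Agent.Char
open scoped ComplexConjugate

namespace Cfsg.Agent.OddChar

universe u

variable {G : Type u} [Group G] [Fintype G] {A : Set G} {L : Subgroup G} [Fintype L] {R : G → Subgroup G}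

theorem dade_smul_sub (A : Set G) (L : Subgroup G) (R : G → Subgroup G) (α β : L → ℂ) (c : ℂ) (g : G) :
    dadeIsometry A L R (α - c • β) g = dadeIsometry A L R α g - c * dadeIsometry A L R β g := by
  simp only [dadeIsometry]
  split
  · rfl
  · simp

/-- The Dade map commutes with powers prime to the group order. -/
theorem dade_pow (hD : DadeHypothesis A L R) (hRp : ∀ a ∈ A, ∀ k : ℕ, k.Coprime (Nat.card G) →
      a ^ k ∈ A ∧ R (a ^ k) = R a) {k : ℕ} (hk : k.Coprime (Nat.card G)) {α : L → ℂ}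
    (hα : IsClassFunction L α) (g : G) :
    dadeIsometry A L R α (g ^ k) = dadeIsometry A L R (fun x => α (x ^ k)) g := by
  have hα' : IsClassFunction L fun x => α (x ^ k) := fun x y => by
    show α ((y * x * y⁻¹) ^ k) = α (x ^ k)
    rw [conj_pow]
    exact hα _ _
  by_cases hg : g ∈ dadeSet A R
  · obtain ⟨a, ha, u, hu, x, e⟩ := hg
    obtain ⟨hak, hRk⟩ := hRp a ha k hk
    have e' : x * g ^ k * x⁻¹ = a ^ k * u ^ k := by
      rw [← conj_pow, e, (dade_commute hD ha hu).mul_pow]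
    rw [dadeIsometry_apply hD hα hak (hRk ▸ pow_mem hu k : u ^ k ∈ R (a ^ k)) e', dadeIsometry_apply hD hα' ha hu e]
    rfl
  · rw [dadeIsometry_eq_zero hD hg, dadeIsometry_eq_zero hD]
    rintro ⟨a, ha, u, hu, x, e⟩
    obtain ⟨l, hl⟩ := exists_pow_eq_self_of_coprime (x := g) (n := k) (hk.coprime_dvd_right (orderOf_dvd_natCard g))
    have hlc : l.Coprime (orderOf g) := by
      by_contra hco
      obtain ⟨q, hq, hql, hqg⟩ := Nat.Prime.not_coprime_iff_dvd.1 hco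
      have e2 : g ^ (k * l) = g ^ 1 := by rw [pow_mul, hl, pow_one]
      have e3 := (pow_eq_pow_iff_modEq.1 e2).of_dvd hqg
      have h1 : (1 : ℕ) ≡ 0 [MOD q] := e3.symm.trans (Nat.modEq_zero_iff_dvd.2 (hql.mul_left k))
      exact hq.one_lt.ne' (Nat.dvd_one.1 (Nat.modEq_zero_iff_dvd.1 h1))
    haveI : NeZero (Nat.card G) := ⟨Nat.card_pos.ne'⟩
    obtain ⟨v, hv⟩ := ZMod.unitsMap_surjective (orderOf_dvd_natCard g) (ZMod.unitOfCoprime l hlc)
    set l' := (v : ZMod (Nat.card G)).val with hl'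
    have hl'c : l'.Coprime (Nat.card G) := ZMod.val_coe_unit_coprime v
    have hl'l : l' ≡ l [MOD orderOf g] := by
      rw [← ZMod.natCast_eq_natCast_iff, hl', ZMod.natCast_val]
      exact congrArg Units.val hv
    have hg' : (g ^ k) ^ l' = g := by
      rw [← pow_mul]
      conv_rhs => rw [← hl, ← pow_mul]
      exact pow_eq_pow_iff_modEq.2 (Nat.ModEq.mul_left _ hl'l)
    obtain ⟨hak, hRk⟩ := hRp a ha l' hl'c
    exact hg ⟨a ^ l', hak, u ^ l', hRk ▸ pow_mem hu l', x, by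
      conv_lhs => rw [← hg', ← conj_pow, e, (dade_commute hD ha hu).mul_pow]⟩

/-- Galois action on the values of a character of a subgroup. -/
theorem char_galois_sub {χ : L → ℂ} (h : IsCharacter L χ) (a : L) :
    ∃ hm : χ a ∈ cyc (Nat.card G), ∀ (φ : cyc (Nat.card G) →ₐ[ℚ] ℂ) (k : ℕ),
      (∀ (μ : ℂ) (hμ : μ ^ Nat.card G = 1), φ ⟨μ, mem_cyc hμ⟩ = μ ^ k) →
        φ ⟨χ a, hm⟩ = χ (a ^ k) := by
  obtain ⟨n, ρ, rfl⟩ := h
  obtain ⟨μ, hμ, htr, -⟩ := exists_eigenvalues ρ a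
  have hμn : ∀ i, μ i ^ Nat.card G = 1 := fun i => by
    obtain ⟨c, hc⟩ := (Subgroup.orderOf_coe a).symm.dvd.trans (orderOf_dvd_natCard (a : G))
    rw [hc, pow_mul, hμ i, one_pow]
  have h1 := htr 1
  simp only [pow_one] at h1
  refine ⟨h1 ▸ sum_mem fun i _ => mem_cyc (hμn i), fun φ k hk => ?_⟩
  have e : (⟨ρ.character a, h1 ▸ sum_mem fun i _ => mem_cyc (hμn i)⟩ : cyc (Nat.card G)) =
      ∑ i, (⟨μ i, mem_cyc (hμn i)⟩ : cyc (Nat.card G)) := by
    ext
    simp [h1]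
  rw [e, map_sum, htr k]
  exact Finset.sum_congr rfl fun i _ => hk _ (hμn i)

/-- A coherent extension of the Dade map on a set of irreducible characters closed under powers. -/
structure Coh (A : Set G) (L : Subgroup G) [Fintype L] (R : G → Subgroup G) (S : Set (L → ℂ)) (χ : L → ℂ)
    (ε : ℂ) (μ : (L → ℂ) → (G → ℂ)) : Prop where
  dade : DadeHypothesis A L R
  powA : ∀ a ∈ A, ∀ k : ℕ, k.Coprime (Nat.card G) → a ^ k ∈ A ∧ R (a ^ k) = R a
  mem : χ ∈ S
  two : ∃ ψ ∈ S, ψ ≠ χ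
  irr : ∀ ψ ∈ S, IsIrrCharacter L ψ
  powS : ∀ ψ ∈ S, ∀ k : ℕ, k.Coprime (Nat.card G) → (fun x => ψ (x ^ k)) ∈ S
  deg : ∀ ψ ∈ S, ∃ d : ℕ, 0 < d ∧ ψ 1 = d * χ 1
  sign : ε = 1 ∨ ε = -1
  irrμ : ∀ ψ ∈ S, IsIrrCharacter G (μ ψ)
  inj : ∀ ψ ∈ S, ∀ φ ∈ S, μ ψ = μ φ → ψ = φ
  ext : ∀ ψ ∈ S, ∀ d : ℕ, ψ 1 = d * χ 1 → ∀ g : G,
    dadeIsometry A L R (ψ - (d : ℂ) • χ) g = ε * (μ ψ g - d * μ χ g)

namespace Coh

variable {S : Set (L → ℂ)} {χ : L → ℂ} {ε : ℂ} {μ : (L → ℂ) → (G → ℂ)} (c : Coh A L R S χ ε μ)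
include c

theorem sign_sq : ε * ε = 1 := by rcases c.sign with h | h <;> rw [h] <;> norm_num

theorem classFun {ψ : L → ℂ} (hψ : ψ ∈ S) (d : ℂ) : IsClassFunction L (ψ - d • χ) := fun x y => by
  simp only [Pi.sub_apply, Pi.smul_apply, isClassFunction_character (irr_isCharacter (c.irr ψ hψ)) x y,
    isClassFunction_character (irr_isCharacter (c.irr χ c.mem)) x y]

/-- Outside the support the extension is proportional to the degree. -/
theorem off {ψ : L → ℂ} (hψ : ψ ∈ S) {d : ℕ} (hd : ψ 1 = d * χ 1) {g : G} (hg : g ∉ dadeSet A R) :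
    μ ψ g = d * μ χ g := by
  have h := c.ext ψ hψ d hd g
  rw [dadeIsometry_eq_zero c.dade hg] at h
  have h2 := congrArg (ε * ·) h
  simp only [mul_zero, ← mul_assoc, c.sign_sq, one_mul] at h2
  exact sub_eq_zero.1 h2.symm

/-- The extension commutes with powers. -/
theorem μ_pow {k : ℕ} (hk : k.Coprime (Nat.card G)) (g : G) :
    μ χ (g ^ k) = μ (fun x => χ (x ^ k)) g := by
  classical
  obtain ⟨ψ, hψ, hne⟩ := c.two
  obtain ⟨n, hn0, hn⟩ := c.deg ψ hψ
  set χ' : L → ℂ := fun x => χ (x ^ k) with hχ'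
  set ψ' : L → ℂ := fun x => ψ (x ^ k) with hψ'
  have hχ'S := c.powS χ c.mem k hk
  have hψ'S := c.powS ψ hψ k hk
  have h1 : χ' 1 = (1 : ℕ) * χ 1 := by simp [hχ']
  have hn' : ψ' 1 = n * χ 1 := by simp [hψ', hn]
  have key : (fun g => μ ψ (g ^ k)) - (n : ℂ) • (fun g => μ χ (g ^ k)) = μ ψ' - (n : ℂ) • μ χ' := by
    funext g
    have e1 := c.ext ψ hψ n hn (g ^ k)
    rw [dade_pow c.dade c.powA hk (c.classFun hψ _)] at e1
    have e2 : (fun x => (ψ - (n : ℂ) • χ) (x ^ k)) = (ψ' - (n : ℂ) • χ) - (n : ℂ) • (χ' - ((1 : ℕ) : ℂ) • χ) := by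
      funext x
      simp [hψ', hχ']
      ring
    rw [e2, dade_smul_sub, c.ext ψ' hψ'S n hn' g, c.ext χ' hχ'S 1 h1 g] at e1
    have e3 := congrArg (ε * ·) e1
    simp only [mul_sub, ← mul_assoc, c.sign_sq, one_mul, mul_comm (n : ℂ) ε] at e3
    simp only [Pi.sub_apply, Pi.smul_apply, smul_eq_mul]
    linear_combination -e3
  have hν : ∀ φ ∈ S, IsIrrCharacter G fun g => μ φ (g ^ k) := fun φ hφ => isIrrCharacter_pow (c.irrμ φ hφ) hk
  have hνne : (fun g => μ ψ (g ^ k)) ≠ fun g => μ χ (g ^ k) := fun e => hne (c.inj ψ hψ χ c.mem (funext fun g => by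
    obtain ⟨g', rfl⟩ := (powCoprime_bijective hk).2 g
    exact congrFun e g'))
  suffices h : μ χ' = fun g => μ χ (g ^ k) by rw [h]
  by_contra hne'
  have h := congrArg (fun f => classInner f fun g => μ χ (g ^ k)) key
  simp only [classInner_sub_left, classInner_smul_left, irr_orth (hν ψ hψ) (hν χ c.mem), if_neg hνne,
    irr_self (hν χ c.mem), irr_orth (c.irrμ χ' hχ'S) (hν χ c.mem), if_neg hne',
    irr_orth (c.irrμ ψ' hψ'S) (hν χ c.mem)] at h
  split at h
  · have h' := congrArg Complex.re h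
    simp at h'
    have : (1 : ℝ) ≤ n := by exact_mod_cast hn0
    linarith
  · simp at h
    omega

/-- Values outside the support are rational integers. -/
theorem int_off {g : G} (hg : g ∉ dadeSet A R) : ∃ z : ℤ, μ χ g = z := by
  obtain ⟨hm, hgal⟩ := char_galois (irr_isCharacter (c.irrμ χ c.mem)) g
  obtain ⟨q, hq⟩ := exists_rat_of_fixed Nat.card_pos.ne' hm fun φ => by
    obtain ⟨k, hkc, hkμ⟩ := exists_power_of_embedding Nat.card_pos.ne' φ
    rw [hgal φ k hkμ, c.μ_pow hkc, c.off (c.powS χ c.mem k hkc) (d := 1) (by simp) hg, Nat.cast_one, one_mul]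
  obtain ⟨z, hz⟩ := isIntegral_rat_cast_imp (q := q) (hq ▸ char_isIntegral (irr_isCharacter (c.irrμ χ c.mem)) g)
  exact ⟨z, by rw [hq, ← hz]; simp⟩

/-- The correction on the cosets of the support is integral. -/
theorem int_on {a : L} (ha : (a : G) ∈ A) {u : G} (hu : u ∈ R a) :
    ∃ z : ℤ, ε * μ χ ((a : G) * u) - χ a = z := by
  obtain ⟨hm, hgal⟩ := char_galois (irr_isCharacter (c.irrμ χ c.mem)) ((a : G) * u)
  obtain ⟨hm', hgal'⟩ := char_galois_sub (G := G) (irr_isCharacter (c.irr χ c.mem)) a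
  have hε : ε ∈ cyc (Nat.card G) := by
    rcases c.sign with h | h <;> rw [h]
    · exact one_mem _
    · exact neg_mem (one_mem _)
  obtain ⟨q, hq⟩ := exists_rat_of_fixed Nat.card_pos.ne' (sub_mem (mul_mem hε hm) hm') fun φ => by
    obtain ⟨k, hkc, hkμ⟩ := exists_power_of_embedding Nat.card_pos.ne' φ
    have he : (⟨ε * μ χ ((a : G) * u) - χ a, sub_mem (mul_mem hε hm) hm'⟩ : cyc (Nat.card G)) =
        ⟨ε, hε⟩ * ⟨_, hm⟩ - ⟨_, hm'⟩ := rfl
    have hφε : φ ⟨ε, hε⟩ = ε := by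
      rcases c.sign with h | h
      · rw [show (⟨ε, hε⟩ : cyc (Nat.card G)) = 1 from Subtype.ext h, map_one, h]
      · rw [show (⟨ε, hε⟩ : cyc (Nat.card G)) = -1 from Subtype.ext h, map_neg, map_one, h]
    rw [he, map_sub, map_mul, hφε, hgal φ k hkμ, hgal' φ k hkμ, c.μ_pow hkc]
    have h1 := c.ext _ (c.powS χ c.mem k hkc) 1 (by simp) ((a : G) * u)
    rw [dadeIsometry_apply c.dade (c.classFun (c.powS χ c.mem k hkc) _) ha hu (x := 1) (by group)] at h1
    simp only [Pi.sub_apply, Pi.smul_apply, smul_eq_mul, Nat.cast_one, one_mul, Subtype.coe_eta] at h1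
    linear_combination -h1
  have hi : IsIntegral ℤ (ε * μ χ ((a : G) * u) - χ a) := by
    refine (IsIntegral.mul ?_ (char_isIntegral (irr_isCharacter (c.irrμ χ c.mem)) _)).sub
      (char_isIntegral (irr_isCharacter (c.irr χ c.mem)) a)
    rcases c.sign with h | h <;> rw [h]
    · exact isIntegral_one
    · exact isIntegral_one.neg
  obtain ⟨z, hz⟩ := isIntegral_rat_cast_imp (q := q) (hq ▸ hi)
  exact ⟨z, by rw [hq, ← hz]; simp⟩

end Coh

end Cfsg.Agent.OddChar
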