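import Cfsg.Agent.Lib.OddChar.FreeAction
import Cfsg.Agent.Lib.OddChar.NormBound
import Cfsg.Agent.Lib.OddChar.RationalExtension
import Cfsg.Agent.S1529
import Cfsg.Agent.S1537
import Cfsg.Agent.Lib.OddLocal.TypeSets
import Cfsg.Agent.Lib.OddLocal.KappaCover
import Cfsg.Agent.Lib.OddLocal.KappaSupport
import Cfsg.Agent.Lib.OddLocal.TauTwoStructure

/-!
The configuration around a `τ₂`-prime `t` of `M` and a maximal subgroup `L` with `t ∈ σ(L)`, and the
data of a family of characters of `L` induced from `L_σ`.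
-/

set_option autoImplicit false
set_option linter.unusedSectionVars false
set_option linter.style.haveILetI false

open Cfsg Cfsg.Agent.Char
open scoped ComplexConjugate commutatorElement
open Cfsg.Agent.Fusion (cj)
open Cfsg.Agent.OddLocal

namespace Cfsg.Agent.OddChar

universe u

variable {G : Type u} [Group G] [Finite G]

/-- The index of `L_σ` in `L`. -/
noncomputable def coreIndex (L : Subgroup G) : ℕ := ((sigmaCore L).subgroupOf L).index

/-- The configuration around a prime of `τ₂(M)`. -/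
structure Config (t : ℕ) (M L A E M₀ : Subgroup G) (w : G) : Prop where
  minSimple : IsMinSimpleOddOrder G
  coatomM : IsCoatom M
  coatomL : IsCoatom L
  setup : TauTwo.Setup t M A
  complM : IsComplIn E (sigmaCore M) M
  E_eq : L ⊓ M = E
  A_le : A ≤ E
  not_conj : ∀ g : G, M ≠ cj L g
  three_le : 3 ≤ coreIndex L
  bound : 2 * coreIndex L ≤ t + 1
  M₀_le : M₀ ≤ sigmaCore L
  M₀_norm : sigmaCore L ≤ Subgroup.normalizer (M₀ : Set G)
  M₀_class : ∀ u ∈ M₀, ∃ h ∈ sigmaCore L, h * w * h⁻¹ = w * u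
  count : Nat.card E * Nat.card M₀ ≤ Nat.card (sigmaCore L)
  w_mem : w ∈ A
  w_core : w ∈ sigmaCore L
  w_order : orderOf w = t
  w_fix : ¬ sigmaCore M ⊓ Subgroup.centralizer ({w} : Set G) ≤ ⁅sigmaCore M, sigmaCore M⁆
  unique : ∀ N : Subgroup G, IsCoatom N → Subgroup.centralizer ({w} : Set G) ≤ N → N = M
  w_not : ¬ Subgroup.centralizer ({w} : Set G) ≤ L
  w_sep : ∀ i : ℕ, ¬ t ∣ i → ∀ l ∈ L, l * w ^ i * l⁻¹ ∉ M₀

end Cfsg.Agent.OddChar

namespace Cfsg.Agent.OddChar

universe u

variable {G : Type u} [Group G] [Fintype G]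

/-- The characters of `L` belonging to a configuration. -/
structure Data (M L E M₀ : Subgroup G) (w : G) [Fintype L] (S : Set (L → ℂ)) (χ : L → ℂ) (ε : ℂ)
    (μ : (L → ℂ) → (G → ℂ)) : Prop where
  coh : Coh ((sigmaCore L : Set G) \ {1}) L (supportR L) S χ ε μ
  deg_one : χ 1 = (coreIndex L : ℂ)
  on_M₀ : ∀ x : L, (x : G) ∈ M₀ → χ x = χ 1
  vanish : ∀ ψ ∈ S, ∀ x : L, (x : G) ∉ sigmaCore L → ψ x = 0
  rel : ∀ θ : ↥((sigmaCore L).subgroupOf L) → ℂ, IsIrrCharacter _ θ → θ ≠ (fun _ => 1) →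
    (∀ x : ↥((sigmaCore L).subgroupOf L), ((x : L) : G) ∈ M₀ → θ x = θ 1) →
      indFun ((sigmaCore L).subgroupOf L) θ ≠ χ →
        classInner (indFun ((sigmaCore L).subgroupOf L) θ) χ = 0 ∧
        classInner (dadeIsometry ((sigmaCore L : Set G) \ {1}) L (supportR L)
          (indFun ((sigmaCore L).subgroupOf L) θ - (deg θ : ℂ) • χ)) (ε • μ χ) = -(deg θ : ℂ)
  big : ¬ sigmaCore M ≤ Subgroup.centralizer ({w} : Set G) → ∃ (T : Finset (L → ℂ)) (d : (L → ℂ) → ℕ),
    ↑T ⊆ S ∧ (∀ ψ ∈ T, ψ 1 = d ψ * χ 1) ∧ Nat.card E ≤ coreIndex L * ∑ ψ ∈ T, d ψ ^ 2 + 1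

open Classical in
theorem coset_sum_conj {B : Set G} {N : Subgroup G} {R : G → Subgroup G} (hD : DadeHypothesis B N R) {a l : G}
    (ha : a ∈ B) (hl : l ∈ N) {β : Type*} [AddCommMonoid β] (Φ : G → β) :
    ∑ u : G with u ∈ R (l * a * l⁻¹), Φ u = ∑ u : G with u ∈ R a, Φ (l * u * l⁻¹) := by
  refine (Finset.sum_equiv (MulAut.conj l).toEquiv (fun u => ?_) fun u _ => rfl).symm
  simp only [Finset.mem_filter, Finset.mem_univ, true_and]
  constructor
  · intro hu
    exact dade_mem_H_conj hD ha (hD.conj_mem l hl a ha) hu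
  · intro hu
    have h := dade_mem_H_conj hD (hD.conj_mem l hl a ha) (g := l⁻¹)
      (by rwa [show l⁻¹ * (l * a * l⁻¹) * l⁻¹⁻¹ = a by group]) hu
    rw [show l⁻¹ * (l * a * l⁻¹) * l⁻¹⁻¹ = a by group] at h
    have e : l⁻¹ * (MulAut.conj l).toEquiv u * l⁻¹⁻¹ = u := by simp [mul_assoc]
    rwa [e] at h

open Classical in
/-- The averages over cosets are invariant. -/
theorem coset_avg_conj {B : Set G} {N : Subgroup G} {R : G → Subgroup G} (hD : DadeHypothesis B N R) {a l : G}
    (ha : a ∈ B) (hl : l ∈ N) {η : G → ℂ} (hη : IsClassFunction G η) :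
    (Nat.card (R (l * a * l⁻¹)) : ℂ)⁻¹ * ∑ u : G with u ∈ R (l * a * l⁻¹), η (l * a * l⁻¹ * u) =
      (Nat.card (R a) : ℂ)⁻¹ * ∑ u : G with u ∈ R a, η (a * u) := by
  rw [dade_card_conj hD ha hl, coset_sum_conj hD ha hl]
  congr 1
  refine Finset.sum_congr rfl fun u _ => ?_
  rw [conj_mul, hη]

theorem supportR_congr {N : Subgroup G} {x y : G}
    (h : Subgroup.centralizer ({x} : Set G) = Subgroup.centralizer ({y} : Set G)) :
    supportR N x = supportR N y := by
  classical
  let F : Subgroup G → Subgroup G := fun C =>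
    if h : ¬ C ≤ N ∧ ∃! L : Subgroup G, IsCoatom L ∧ C ≤ L then fittingHallOf (Classical.choose h.2.exists) ⊓ C else ⊥
  exact congrArg F h

theorem centralizer_pow_eq {x : G} {k : ℕ} (hk : k.Coprime (orderOf x)) :
    Subgroup.centralizer ({x ^ k} : Set G) = Subgroup.centralizer ({x} : Set G) := by
  ext g
  simp only [Subgroup.mem_centralizer_singleton_iff]
  obtain ⟨j, hj⟩ := exists_pow_eq_self_of_coprime hk
  refine ⟨fun h => ?_, fun h => (Commute.pow_right (show Commute g x from h) k).eq⟩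
  have h1 := (Commute.pow_right (show Commute g (x ^ k) from h) j).eq
  rwa [hj] at h1
namespace Config

variable {t : ℕ} [ht : Fact t.Prime] {M L A E M₀ : Subgroup G} {w : G} (c : Config t M L A E M₀ w)
include c

theorem core_le : sigmaCore L ≤ L := Subgroup.map_subtype_le _

theorem w_ne : w ≠ 1 := fun h => ht.out.ne_one (by rw [← c.w_order, h, orderOf_one])

theorem dade_L : DadeHypothesis ((sigmaCore L : Set G) \ {1}) L (supportR L) := by
  rw [← Kappa.typeA1_eq c.minSimple c.coatomL]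
  exact (S1537.result c.minSimple L c.coatomL _ (Or.inl rfl)).2

theorem dade_M : DadeHypothesis ((sigmaCore M : Set G) \ {1}) M (supportR M) := by
  rw [← Kappa.typeA1_eq c.minSimple c.coatomM]
  exact (S1537.result c.minSimple M c.coatomM _ (Or.inl rfl)).2

/-- The two supports are disjoint. -/
theorem dade_disjoint {g : G} (h1 : g ∈ dadeSet ((sigmaCore L : Set G) \ {1}) (supportR L)) :
    g ∉ dadeSet ((sigmaCore M : Set G) \ {1}) (supportR M) := by
  intro h2
  have key : ∀ {N : Subgroup G}, g ∈ dadeSet ((sigmaCore N : Set G) \ {1}) (supportR N) →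
      g ∈ tildeOf N ((sigmaCore N : Set G) \ {1}) := by
    rintro N ⟨a, ha, u, hu, x, e⟩
    exact ⟨a, ha, u, hu, x⁻¹, by rw [← e]; group⟩
  have h := Kappa.tilde_disjoint' c.minSimple c.coatomL c.coatomM c.not_conj
  exact Set.eq_empty_iff_forall_notMem.1 h g ⟨key h1, key h2⟩

theorem supportR_w : supportR L w = sigmaCore M ⊓ Subgroup.centralizer ({w} : Set G) := by
  obtain ⟨H, hH, hCH, -⟩ := Support.over_centralizer c.minSimple c.coatomL c.w_core c.w_ne c.w_not
  obtain rfl : H = M := c.unique H hH hCH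
  exact Support.supportR_eq c.minSimple c.coatomL c.w_core c.w_ne c.w_not hH hCH
theorem card_L : Nat.card L = coreIndex L * Nat.card (sigmaCore L) := by
  rw [coreIndex, ← Subgroup.index_mul_card ((sigmaCore L).subgroupOf L), Solv.card_subgroupOf c.core_le]

theorem card_M : Nat.card M = Nat.card E * Nat.card (sigmaCore M) := by
  have hσ : sigmaCore M ≤ M := Subgroup.map_subtype_le _
  rw [← Subgroup.index_mul_card ((sigmaCore M).subgroupOf M), Solv.card_subgroupOf hσ]
  congr 1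
  exact (Sig.compl_card c.complM).1.symm

theorem odd_t : t % 2 = 1 := (Nat.Prime.eq_two_or_odd ht.out).resolve_left c.setup.ne_two

theorem sq_le_E : t ^ 2 ≤ Nat.card E := by
  rw [← c.setup.card]
  exact Nat.le_of_dvd Nat.card_pos (Subgroup.card_dvd_of_le c.A_le)

end Config

end Cfsg.Agent.OddChar
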