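import Cfsg.Agent.Lib.OddChar.KappaConf
import Cfsg.Agent.Lib.Char.PrimeDegreesThree

/-!
The data of a family of characters of `L` from a coherent family of characters induced from `L_σ`.
-/

set_option autoImplicit false
set_option linter.unusedSectionVars false
set_option linter.style.haveILetI false

open Cfsg Cfsg.Agent.Char
open scoped ComplexConjugate commutatorElement
open Cfsg.Agent.Fusion (cj)
open Cfsg.Agent.OddLocal

namespace Cfsg.Agent.OddChar

universe u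

section Family

variable {G : Type u} [Group G] [Fintype G] {A : Set G} {L : Subgroup G} [Fintype L] {R : G → Subgroup G}
  {K : Subgroup L} [hKn : K.Normal] [Fintype K]

/-- A character inducing outside a family of induced characters is orthogonal to it. -/
theorem indFun_orth_famSet (θ : IrrCharacter K) {M₁ : Subgroup L} {b : ℕ}
    (h : indFun K (θ : K → ℂ) ∉ famSet K M₁ b) :
    ∀ φ ∈ famSet K M₁ b, classInner (indFun K (θ : K → ℂ)) φ = 0 := by
  intro φ hφ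
  obtain ⟨-, θ', -, -, rfl⟩ := id hφ
  refine indFun_inner_zero K fun g e => h ?_
  rw [← e]
  have he : (irrComp (MulAut.conjNormal g) θ' : K → ℂ) = fun n => (θ' : K → ℂ) (MulAut.conjNormal g n) :=
    funext fun n => irrComp_apply _ _ _
  rw [he, indFun_conj]
  exact hφ

namespace Coh

variable {S : Set (L → ℂ)} {χ : L → ℂ} {ε : ℂ} {μ : (L → ℂ) → (G → ℂ)} (c : Coh A L R S χ ε μ)
include c

/-- The relation for a member of the family other than the distinguished one. -/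
theorem rel_of_mem {ψ : L → ℂ} (hψS : ψ ∈ S) (hne : ψ ≠ χ) {d : ℕ} (hd : ψ 1 = d * χ 1) :
    classInner ψ χ = 0 ∧ classInner (dadeIsometry A L R (ψ - (d : ℂ) • χ)) (ε • μ χ) = -(d : ℂ) := by
  refine ⟨by rw [irr_orth (c.irr _ hψS) (c.irr χ c.mem), if_neg hne], ?_⟩
  have h2 : dadeIsometry A L R (ψ - (d : ℂ) • χ) = ε • (μ ψ - (d : ℂ) • μ χ) :=
    funext fun g => by rw [c.ext _ hψS _ hd g]; rfl
  have hne' : μ ψ ≠ μ χ := fun e => hne (c.inj _ hψS χ c.mem e)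
  have hεc : ε * conj ε = 1 := by rw [c.conj_sign, c.sign_sq]
  rw [h2, classInner_smul_left, classInner_smul_right, ← mul_assoc, hεc, classInner_sub_left, classInner_smul_left,
    irr_orth (c.irrμ _ hψS) (c.irrμ χ c.mem), if_neg hne', irr_self (c.irrμ χ c.mem)]
  ring

end Coh

namespace Kernel

variable (F : Kernel A L R K)
include F

open Classical in
/-- The weight of the family against the index of the kernel of its characters. -/
theorem fam_weight (M₁ : Subgroup L) [M₁.Normal] {b D r : ℕ} {χ : L → ℂ} (hχ : χ ∈ famSet K M₁ b)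
    (hb : ∀ θ : IrrCharacter K, (∀ x : K, (x : L) ∈ M₁ → (θ : K → ℂ) x = (θ : K → ℂ) 1) →
      IsIrrCharacter L (indFun K (θ : K → ℂ)) → deg (θ : K → ℂ) ≤ b)
    (hD : ∀ θ : IrrCharacter K, (∀ x : K, (x : L) ∈ M₁ → (θ : K → ℂ) x = (θ : K → ℂ) 1) →
      (θ : K → ℂ) ≠ (fun _ => 1) → ¬ IsIrrCharacter L (indFun K (θ : K → ℂ)) → deg (θ : K → ℂ) ≤ D)
    (hr : Nat.card {θ : IrrCharacter K // (θ : K → ℂ) ≠ (fun _ => 1) ∧
      (∀ x : K, (x : L) ∈ M₁ → (θ : K → ℂ) x = (θ : K → ℂ) 1) ∧ ¬ IsIrrCharacter L (indFun K (θ : K → ℂ))} ≤ r) :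
    ∃ T : Finset (L → ℂ), ↑T ⊆ famSet K M₁ b ∧ χ ∈ T ∧
      M₁.relIndex K ≤ K.index * ∑ ψ ∈ T, (deg ψ / K.index) ^ 2 + 1 + r * D ^ 2 := by
  set ker : IrrCharacter K → Prop := fun θ => ∀ x : K, (x : L) ∈ M₁ → (θ : K → ℂ) x = (θ : K → ℂ) 1 with hker
  set one : IrrCharacter K := ⟨fun _ => 1, isIrrCharacter_one⟩
  set U := Finset.univ.filter ker with hU
  set Θ := U.filter fun θ : IrrCharacter K =>
    (θ : K → ℂ) ≠ (fun _ => 1) ∧ IsIrrCharacter L (indFun K (θ : K → ℂ)) with hΘ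
  set V := U.filter fun θ : IrrCharacter K =>
    (θ : K → ℂ) ≠ (fun _ => 1) ∧ ¬ IsIrrCharacter L (indFun K (θ : K → ℂ)) with hV
  set T := insert χ (Θ.image fun θ : IrrCharacter K => indFun K (θ : K → ℂ)) with hT
  refine ⟨T, ?_, Finset.mem_insert_self _ _, ?_⟩
  · intro ψ hψ
    rcases Finset.mem_insert.1 (Finset.mem_coe.1 hψ) with rfl | h
    · exact hχ
    obtain ⟨θ, hθ, rfl⟩ := Finset.mem_image.1 h
    obtain ⟨hθU, h1, h2⟩ := Finset.mem_filter.1 hθ
    exact ⟨h2, θ, h1, Or.inr ⟨(Finset.mem_filter.1 hθU).2, hb θ (Finset.mem_filter.1 hθU).2 h2⟩, rfl⟩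
  have hsplit : ∑ θ ∈ U, deg (θ : K → ℂ) ^ 2 ≤
      1 + ∑ θ ∈ V, deg (θ : K → ℂ) ^ 2 + ∑ θ ∈ Θ, deg (θ : K → ℂ) ^ 2 := by
    have e : U ⊆ insert one (V ∪ Θ) := fun θ hθ => by
      by_cases h1 : (θ : K → ℂ) = fun _ => 1
      · exact Finset.mem_insert.2 (Or.inl (Subtype.ext h1))
      refine Finset.mem_insert_of_mem (Finset.mem_union.2 ?_)
      by_cases h2 : IsIrrCharacter L (indFun K (θ : K → ℂ))
      · exact Or.inr (Finset.mem_filter.2 ⟨hθ, h1, h2⟩)
      · exact Or.inl (Finset.mem_filter.2 ⟨hθ, h1, h2⟩)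
    refine (Finset.sum_le_sum_of_subset e).trans ?_
    rw [Finset.sum_insert, Finset.sum_union, show deg ((one : IrrCharacter K) : K → ℂ) = 1 by simp [deg, one],
      one_pow, ← add_assoc]
    · exact Finset.disjoint_left.2 fun θ h h' => (Finset.mem_filter.1 h).2.2 (Finset.mem_filter.1 h').2.2
    · simp [hV, hΘ, one]
  have h1 : ∑ θ ∈ U, deg (θ : K → ℂ) ^ 2 = M₁.relIndex K := sum_ker_sq (K := K) M₁
  have hVb : ∑ θ ∈ V, deg (θ : K → ℂ) ^ 2 ≤ r * D ^ 2 := by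
    refine (Finset.sum_le_card_nsmul V _ (D ^ 2) fun θ hθ => ?_).trans ?_
    · obtain ⟨hθU, ha, hb'⟩ := Finset.mem_filter.1 hθ
      exact Nat.pow_le_pow_left (hD θ (Finset.mem_filter.1 hθU).2 ha hb') 2
    rw [smul_eq_mul]
    refine Nat.mul_le_mul_right _ (le_trans ?_ hr)
    rw [Nat.card_eq_fintype_card, Fintype.card_subtype]
    refine Finset.card_le_card fun θ hθ => ?_
    obtain ⟨hθU, ha, hb'⟩ := Finset.mem_filter.1 hθ
    exact Finset.mem_filter.2 ⟨Finset.mem_univ _, ha, (Finset.mem_filter.1 hθU).2, hb'⟩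
  have hΘb : ∑ θ ∈ Θ, deg (θ : K → ℂ) ^ 2 ≤ K.index * ∑ ψ ∈ T, (deg ψ / K.index) ^ 2 :=
    (Kernel.sum_sq_le Θ fun θ hθ => (Finset.mem_filter.1 hθ).2.2).trans
      (Nat.mul_le_mul_left _ (Finset.sum_le_sum_of_subset (Finset.subset_insert _ _)))
  omega

/-- A linear character of the kernel lies in every family. -/
theorem indFun_mem_of_linear (M₁ : Subgroup L) (b : ℕ) (θ : IrrCharacter K) (h1 : (θ : K → ℂ) ≠ fun _ => 1)
    (hd : deg (θ : K → ℂ) = 1) : indFun K (θ : K → ℂ) ∈ famSet K M₁ b :=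
  ⟨F.linear θ h1 hd, θ, h1, Or.inl hd, rfl⟩

/-- The relation outside the family. -/
theorem rel_not_mem {M₁ : Subgroup L} {b : ℕ} {χ : L → ℂ} {ε : ℂ} {μ : (L → ℂ) → (G → ℂ)}
    (hc : Coh A L R (famSet K M₁ b) χ ε μ) (hχ1 : χ 1 = (K.index : ℂ)) {T : Finset (L → ℂ)}
    (hT : ↑T ⊆ famSet K M₁ b) (hχT : χ ∈ T) (θ : IrrCharacter K)
    (hθ : indFun K (θ : K → ℂ) ∉ famSet K M₁ b)
    (hN : 2 * deg (θ : K → ℂ) + K.index < ∑ ψ ∈ T, (deg ψ / K.index) ^ 2) :
    classInner (dadeIsometry A L R (indFun K (θ : K → ℂ) - (deg (θ : K → ℂ) : ℂ) • χ)) (ε • μ χ) =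
      -(deg (θ : K → ℂ) : ℂ) := by
  obtain ⟨n, hn, hne⟩ := indFun_norm_le K θ
  refine hc.rel_zero (F.famSet_supp M₁ b) hT hχT
    (fun φ hφ => (F.famSet_deg M₁ b hχ1 φ (hT (Finset.mem_coe.2 hφ))).1)
    ⟨_, 0, isCharacter_indFun K (irr_isCharacter θ.2), isCharacter_zero, (sub_zero _).symm⟩
    (by rw [hχ1]; exact deg_indFun θ K.index rfl) (F.supp _)
    (fun φ hφ => indFun_orth_famSet θ hθ φ (hT (Finset.mem_coe.2 hφ))) hn (by omega)

omit F [Fintype L] in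
/-- A character of the kernel trivial on the derived subgroup is linear. -/
theorem deg_one_of_derived (M₁ : Subgroup L) (h : ∀ x y : K, ⁅(x : L), (y : L)⁆ ∈ M₁) (θ : IrrCharacter K)
    (hθ : ∀ x : K, (x : L) ∈ M₁ → (θ : K → ℂ) x = (θ : K → ℂ) 1) : deg (θ : K → ℂ) = 1 := by
  refine PrimeDegrees.deg_eq_one_of_comm_ker θ fun x y => TwoDeg.mem_kerC_of_eq _ ?_
  refine hθ _ ?_
  have := h x y
  rwa [commutatorElement_def] at this

end Kernel

end Family

namespace KConf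

variable {G : Type u} [Group G] [Fintype G] {t : ℕ} [ht : Fact t.Prime] {M L A E S K M₀ : Subgroup G} {w : G}
  (c : KConf t M L A E S w K)
include c

theorem normal : ((sigmaCore L).subgroupOf L).Normal :=
  Subgroup.normal_subgroupOf_of_le_normalizer Sig.le_normalizer_piCoreOf

/-- The derived subgroup of `L_σ`, seen in the subgroup of `L`. -/
theorem mem_commutator {x : ↥((sigmaCore L).subgroupOf L)} (hx : ((x : L) : G) ∈ ⁅sigmaCore L, sigmaCore L⁆) :
    x ∈ commutator ↥((sigmaCore L).subgroupOf L) := by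
  let f : ↥((sigmaCore L).subgroupOf L) →* G := L.subtype.comp ((sigmaCore L).subgroupOf L).subtype
  have hr : f.range = sigmaCore L := by
    rw [MonoidHom.range_comp, Subgroup.range_subtype, Subgroup.subgroupOf_map_subtype, inf_eq_left.2 c.core_le]
  have hm : (commutator ↥((sigmaCore L).subgroupOf L)).map f = ⁅sigmaCore L, sigmaCore L⁆ := by
    rw [commutator_def, Subgroup.map_commutator, ← MonoidHom.range_eq_map, hr]
  have hx' : f x ∈ (commutator ↥((sigmaCore L).subgroupOf L)).map f := by rw [hm]; exact hx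
  obtain ⟨y, hy, e⟩ := hx'
  have e' : ((y : L) : G) = ((x : L) : G) := e
  rwa [show x = y from (Subtype.ext (Subtype.ext e')).symm]

/-- The configuration from the setting. -/
theorem config (hb : 2 * Nat.card K ≤ t + 1) (hle : M₀ ≤ sigmaCore L)
    (hn : sigmaCore L ≤ Subgroup.normalizer (M₀ : Set G))
    (hcl : ∀ u ∈ M₀, ∃ h ∈ sigmaCore L, h * w * h⁻¹ = w * u)
    (hcount : Nat.card E * Nat.card M₀ ≤ Nat.card (sigmaCore L))
    (hsep : ∀ i : ℕ, ¬ t ∣ i → ∀ l ∈ L, l * w ^ i * l⁻¹ ∉ M₀) : Config t M L A E M₀ w where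
  minSimple := c.pre.minSimple
  coatomM := c.pre.coatomM
  coatomL := c.pre.coatomL
  setup := c.pre.setup
  complM := c.pre.complM
  E_eq := c.pre.E_eq
  A_le := c.pre.A_le
  not_conj := c.pre.not_conj
  three_le := c.coreIndex_eq ▸ c.three_le
  bound := c.coreIndex_eq ▸ hb
  M₀_le := hle
  M₀_norm := hn
  M₀_class := hcl
  count := hcount
  w_mem := c.pre.w_mem
  w_core := c.w_core
  w_order := c.pre.w_order
  w_fix := c.pre.w_fix
  unique := c.pre.unique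
  w_not := c.pre.w_not
  w_sep := hsep

variable [Fintype L] [Fintype ↥((sigmaCore L).subgroupOf L)]

/-- A character with reducible induced function is invariant. -/
theorem fixed_of_reducible (θ : IrrCharacter ↥((sigmaCore L).subgroupOf L))
    (hred : ¬ IsIrrCharacter L (indFun ((sigmaCore L).subgroupOf L) (θ : ↥((sigmaCore L).subgroupOf L) → ℂ)))
    [((sigmaCore L).subgroupOf L).Normal] (g : L) :
    irrComp (MulAut.conjNormal g) θ = θ := by
  obtain ⟨h1, h2, h3, h4, h5, h6, h7⟩ := c.typeP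
  have hfix : ∀ x ∈ K.subgroupOf L, (fun k : ↥((sigmaCore L).subgroupOf L) =>
      (θ : ↥((sigmaCore L).subgroupOf L) → ℂ) ⟨x * k * x⁻¹, c.normal.conj_mem (k : L) k.2 x⟩) = θ := by
    by_contra hno
    push Not at hno
    exact hred (typeP_irr_indFun (typeP_ctx h1 h2 h3 h4 h5 h7) h6 h7 θ hno)
  obtain ⟨k, hk, h, hh, e⟩ := c.mul g.2
  have hg : g = (⟨k, c.K_le hk⟩ : L) * ((⟨⟨h, c.core_le hh⟩, hh⟩ : ↥((sigmaCore L).subgroupOf L)) : L) := Subtype.ext e
  refine Subtype.ext (funext fun n => ?_)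
  set j : ↥((sigmaCore L).subgroupOf L) := ⟨⟨h, c.core_le hh⟩, hh⟩ with hj
  rw [irrComp_apply, hg, map_mul, MulAut.mul_apply]
  refine (congrFun (hfix ⟨k, c.K_le hk⟩ hk) _).trans ?_
  rw [show MulAut.conjNormal (j : L) n = j * n * j⁻¹ from Subtype.ext (MulAut.conjNormal_apply _ _)]
  exact isClassFunction_character (irr_isCharacter θ.2) n j

/-- The data from a coherent family. -/
theorem data_of_coh {M₁ : Subgroup L} {b : ℕ} {χ : L → ℂ} {ε : ℂ} {μ : (L → ℂ) → (G → ℂ)}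
    (hc : Coh ((sigmaCore L : Set G) \ {1}) L (supportR L) (famSet ((sigmaCore L).subgroupOf L) M₁ b) χ ε μ)
    (hχ1 : χ 1 = (((sigmaCore L).subgroupOf L).index : ℂ))
    (hχc : ∀ x : ↥((sigmaCore L).subgroupOf L), x ∈ commutator ↥((sigmaCore L).subgroupOf L) → χ x = χ 1)
    (hM₀ : M₀ ≤ ⁅sigmaCore L, sigmaCore L⁆)
    (hrel : ∀ θ : IrrCharacter ↥((sigmaCore L).subgroupOf L),
      (θ : ↥((sigmaCore L).subgroupOf L) → ℂ) ≠ (fun _ => 1) →
      (∀ x : ↥((sigmaCore L).subgroupOf L), ((x : L) : G) ∈ M₀ →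
        (θ : ↥((sigmaCore L).subgroupOf L) → ℂ) x = (θ : ↥((sigmaCore L).subgroupOf L) → ℂ) 1) →
      indFun ((sigmaCore L).subgroupOf L) (θ : ↥((sigmaCore L).subgroupOf L) → ℂ) ∉
        famSet ((sigmaCore L).subgroupOf L) M₁ b →
      classInner (dadeIsometry ((sigmaCore L : Set G) \ {1}) L (supportR L)
          (indFun ((sigmaCore L).subgroupOf L) (θ : ↥((sigmaCore L).subgroupOf L) → ℂ) -
            (deg (θ : ↥((sigmaCore L).subgroupOf L) → ℂ) : ℂ) • χ)) (ε • μ χ) =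
        -(deg (θ : ↥((sigmaCore L).subgroupOf L) → ℂ) : ℂ))
    (hbig : ¬ sigmaCore M ≤ Subgroup.centralizer ({w} : Set G) → ∃ T : Finset (L → ℂ),
      ↑T ⊆ famSet ((sigmaCore L).subgroupOf L) M₁ b ∧
      Nat.card E ≤ coreIndex L * ∑ ψ ∈ T, (deg ψ / ((sigmaCore L).subgroupOf L).index) ^ 2 + 1) :
    Data M L E M₀ w (famSet ((sigmaCore L).subgroupOf L) M₁ b) χ ε μ := by
  classical
  haveI := c.normal
  refine ⟨hc, hχ1, fun x hx => ?_, ?_, fun θ hθ hθ1 hθ0 hne => ?_, fun hY => ?_⟩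
  · exact hχc ⟨x, Subgroup.mem_subgroupOf.2 (Subgroup.commutator_le_self _ (hM₀ hx))⟩
      (c.mem_commutator (hM₀ hx))
  · rintro ψ ⟨-, θ, -, -, rfl⟩ x hx
    exact indFun_vanish _ _ fun h => hx (Subgroup.mem_subgroupOf.1 h)
  · by_cases hS : indFun ((sigmaCore L).subgroupOf L) θ ∈ famSet ((sigmaCore L).subgroupOf L) M₁ b
    · exact hc.rel_of_mem hS hne (by rw [hχ1]; exact deg_indFun ⟨θ, hθ⟩ _ rfl)
    · exact ⟨indFun_orth_famSet ⟨θ, hθ⟩ hS χ hc.mem, hrel ⟨θ, hθ⟩ hθ1 hθ0 hS⟩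
  · obtain ⟨T, hT, h⟩ := hbig hY
    exact ⟨T, fun ψ => deg ψ / ((sigmaCore L).subgroupOf L).index, hT,
      fun ψ hψ => (c.kernel.famSet_deg M₁ b hχ1 ψ (hT (Finset.mem_coe.2 hψ))).1, h⟩

end KConf

end Cfsg.Agent.OddChar
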