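import Cfsg.Agent.Lib.OddChar.TauTwoCoset
import Cfsg.Agent.S1494
import Cfsg.Agent.S1495

/-!
The configuration around a prime of `τ₂(M)` is impossible.
-/

set_option autoImplicit false
set_option linter.unusedSectionVars false
set_option linter.style.haveILetI false

open Cfsg Cfsg.Agent.Char
open scoped ComplexConjugate commutatorElement
open Cfsg.Agent.Fusion (cj)
open Cfsg.Agent.OddLocal

namespace Cfsg.Agent.OddChar

universe u

variable {G : Type u} [Group G] [Fintype G] {t : ℕ} [ht : Fact t.Prime] {M L A E M₀ : Subgroup G} {w : G}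

theorem int_congr_trans {t a b : ℤ} (h : t ∣ a - b) {c : ℤ} (h' : t ∣ b - c) : t ∣ a - c := by
  have := dvd_add h h'
  rwa [show a - b + (b - c) = a - c by ring] at this

open Classical in
theorem card_filter_ne_one (Y : Subgroup G) :
    ((Finset.univ.filter fun y : G => y ∈ Y ∧ y ≠ 1).card : ℝ) = (Nat.card Y : ℝ) - 1 := by
  have h1 : (Finset.univ.filter fun y : G => y ∈ Y ∧ y ≠ 1) = (Finset.univ.filter fun y : G => y ∈ Y).erase 1 := by
    ext a
    simp [and_comm]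
  rw [h1, Finset.card_erase_of_mem (Finset.mem_filter.2 ⟨Finset.mem_univ _, Y.one_mem⟩), Nat.cast_sub
    (Finset.card_pos.2 ⟨1, Finset.mem_filter.2 ⟨Finset.mem_univ _, Y.one_mem⟩⟩), Nat.cast_one,
    Nat.card_eq_fintype_card, Fintype.card_subtype]

namespace Config

variable (c : Config t M L A E M₀ w)
include c

/-- The derived subgroup of the core of `M` has index at least five. -/
theorem five_le_index : 5 ≤ (commutator ↥(sigmaCore M)).index := by
  classical
  set Y := sigmaCore M with hY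
  haveI : Group.IsNilpotent ↥Y := TauTwo.sigmaCore_nilpotent c.setup
  haveI : Nontrivial Y := (Subgroup.nontrivial_iff_ne_bot Y).2 (FitParts.sigmaCore_ne_bot c.minSimple c.coatomM)
  haveI : Finite (↥Y →* ℂˣ) := Nat.finite_of_card_ne_zero (by
    rw [card_hom_units]; exact Subgroup.index_ne_zero_of_finite)
  have h0 : (commutator ↥Y).index ≠ 0 := Subgroup.index_ne_zero_of_finite
  have h1 : (commutator ↥Y).index ≠ 1 := fun h =>
    (Group.IsSolvable.commutator_lt_top_of_nontrivial Y).ne (Subgroup.index_eq_one.1 h)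
  have hodd : Odd (commutator ↥Y).index :=
    (c.minSimple.1.of_dvd_nat (Subgroup.card_subgroup_dvd_card Y)).of_dvd_nat (Subgroup.index_dvd_card _)
  obtain ⟨j, hj⟩ := hodd
  by_contra hlt
  have h3 : Nat.card (↥Y →* ℂˣ) = 3 := by rw [card_hom_units]; omega
  haveI : Nontrivial (↥Y →* ℂˣ) := by
    rw [← Finite.one_lt_card_iff_nontrivial, h3]; norm_num
  obtain ⟨φ, hφ⟩ := exists_ne (1 : ↥Y →* ℂˣ)
  refine hφ (c.fix_eq_one fun a ha => ⟨c.A_norm ha, ?_⟩)
  set σ := homAct Y ⟨a, c.A_norm ha⟩ with hσ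
  have hσt : ∀ ψ, (σ ^ t) ψ = ψ := fun ψ => by
    rw [hσ, ← map_pow, show (⟨a, c.A_norm ha⟩ : ↥(Subgroup.normalizer (Y : Set G))) ^ t = 1 from
      Subtype.ext (c.setup.elem.2 a ha), map_one]
    rfl
  by_contra hne
  have hinv : σ φ = φ⁻¹ := by
    haveI := Fintype.ofFinite (↥Y →* ℂˣ)
    have hcard : Fintype.card (↥Y →* ℂˣ) = 3 := by rw [← Nat.card_eq_fintype_card, h3]
    have hmem : σ φ ∈ ({1, φ, φ⁻¹} : Finset (↥Y →* ℂˣ)) := by
      have huniv : ({1, φ, φ⁻¹} : Finset (↥Y →* ℂˣ)) = Finset.univ := by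
        refine Finset.eq_univ_of_card _ ?_
        rw [hcard, Finset.card_eq_three]
        refine ⟨1, φ, φ⁻¹, hφ.symm, fun h => hφ (MonoidHom.ext fun y => inv_eq_one.1 (DFunLike.congr_fun h y).symm), fun h => hφ ?_, rfl⟩
        have hsq : φ ^ 2 = 1 := by rw [sq]; nth_rw 2 [h]; exact mul_inv_cancel φ
        have hd := Nat.dvd_gcd (orderOf_dvd_of_pow_eq_one hsq) (orderOf_dvd_natCard φ)
        rw [h3] at hd
        exact orderOf_eq_one_iff.1 (Nat.dvd_one.1 hd)
      rw [huniv]; exact Finset.mem_univ _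
    simp only [Finset.mem_insert, Finset.mem_singleton] at hmem
    rcases hmem with h | h | h
    · exact absurd (σ.injective (h.trans (map_one σ).symm)) hφ
    · exact absurd h hne
    · exact h
  have hpow : ∀ i : ℕ, (σ ^ i) φ = if Even i then φ else φ⁻¹ := by
    intro i
    induction i with
    | zero => simp
    | succ i ih =>
      rw [pow_succ']
      show σ ((σ ^ i) φ) = _
      rw [ih]
      by_cases he : Even i
      · rw [if_pos he, if_neg (by simp [Nat.even_add_one, he]), hinv]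
      · rw [if_neg he, if_pos (by simp [Nat.even_add_one, he])]
        exact (map_inv σ φ).trans (by rw [hinv]; exact inv_inv φ)
  have hteven : ¬ Even t := by rw [Nat.even_iff, c.odd_t]; decide
  have h4 := hσt φ
  rw [hpow t, if_neg hteven] at h4
  exact hne (hinv.trans h4)

/-- There is no configuration. -/
theorem false [Fintype L] {S : Set (L → ℂ)} {χ : L → ℂ} {ε : ℂ} {μ : (L → ℂ) → (G → ℂ)}
    (dd : Data M L E M₀ w S χ ε μ) : False := by
  classical
  have hbound := c.local_bound dd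
  have k := dd.coh
  have hχ1 := dd.deg_one
  have hG := c.minSimple
  set Y := sigmaCore M with hY
  set C := Y ⊓ Subgroup.centralizer ({w} : Set G) with hCdef
  set Ψ : Subgroup G := ⁅Y, Y⁆ with hΨ
  set C0 : Subgroup G := Ψ ⊓ Subgroup.centralizer ({w} : Set G) with hC0
  set I := Finset.Icc 1 (t - 1) with hI
  set χe : G → ℂ := extendByZero L χ with hχe
  set e := coreIndex L with he
  have hYM : Y ≤ M := Subgroup.map_subtype_le _
  have hYn : M ≤ Subgroup.normalizer (Y : Set G) := Sig.le_normalizer_piCoreOf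
  have hΨY : Ψ ≤ Y := Subgroup.commutator_le_self Y
  have hwM : w ∈ M := c.setup.le c.w_mem
  have hwn : w ∈ Subgroup.normalizer (Y : Set G) := hYn hwM
  have hwΨ : w ∈ Subgroup.normalizer (Ψ : Set G) :=
    Fusion.mem_normalizer_of_cj_le (by rw [hΨ, Fusion.cj_commutator, Fusion.cj_eq_self hwn])
  have hYΨ : Y ≤ Subgroup.normalizer (Ψ : Set G) := fun y hy =>
    Fusion.mem_normalizer_of_cj_le (by rw [hΨ, Fusion.cj_commutator, Fusion.cj_eq_self_of_mem hy])
  have hεint : IsIntegral ℤ ε := by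
    rcases k.sign with h | h <;> rw [h]
    · exact isIntegral_one
    · exact isIntegral_one.neg
  have hDM := c.dade_M
  have hcop : ∀ i ∈ I, i.Coprime (orderOf w) := fun i hi => by
    rw [hI, Finset.mem_Icc] at hi
    rw [c.w_order]
    exact (Nat.coprime_of_lt_prime (by omega) (by omega) ht.out).symm
  have hwi : ∀ i ∈ I, orderOf (w ^ i) = t := fun i hi => by
    rw [Nat.Coprime.orderOf_pow (hcop i hi).symm, c.w_order]
  have hB : ∀ i ∈ I, (w ^ i : G) ∈ (sigmaCore L : Set G) \ {1} := fun i hi => by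
    refine ⟨(sigmaCore L).pow_mem c.w_core i, fun e' => ht.out.ne_one ?_⟩
    rw [Set.mem_singleton_iff] at e'
    rw [← hwi i hi, e', orderOf_one]
  have hRi : ∀ i ∈ I, supportR L (w ^ i) = C := fun i hi => by
    rw [supportR_congr (centralizer_pow_eq (hcop i hi)), c.supportR_w]
  set η : G → ℂ := ε • μ χ with hη
  have hμchar := irr_isCharacter (k.irrμ χ k.mem)
  have hηgen : IsGeneralizedCharacter G η := by
    rw [hη]
    rcases k.sign with h | h <;> rw [h]
    · exact ⟨μ χ, 0, hμchar, isCharacter_zero, by simp⟩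
    · exact ⟨0, μ χ, isCharacter_zero, hμchar, by simp⟩
  have hηcl : IsClassFunction G η := fun g x => by
    simp only [hη, Pi.smul_apply, isClassFunction_character hμchar g x]
  -- integer values
  have hzf : ∀ (i : ℕ) (u : G), ∃ z : ℤ, i ∈ I → u ∈ C → η (w ^ i * u) - χe (w ^ i) = (z : ℂ) := by
    intro i u
    by_cases h : i ∈ I ∧ u ∈ C
    · obtain ⟨z, hz⟩ := k.int_on (a := ⟨w ^ i, c.core_le (hB i h.1).1⟩) (hB i h.1)
        (show u ∈ supportR L (w ^ i) by rw [hRi i h.1]; exact h.2)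
      exact ⟨z, fun _ _ => by
        rw [hχe, extendByZero_mem L χ (c.core_le (hB i h.1).1)]
        exact hz⟩
    · exact ⟨0, fun a b => absurd ⟨a, b⟩ h⟩
  choose zf hzf using hzf
  have hvv : ∀ g : G, ∃ z : ℤ, g ∈ dadeSet ((Y : Set G) \ {1}) (supportR M) → η g = (z : ℂ) := by
    intro g
    by_cases hg : g ∈ dadeSet ((Y : Set G) \ {1}) (supportR M)
    · obtain ⟨z, hz⟩ := k.int_off fun h => c.dade_disjoint h hg
      rcases k.sign with h | h
      · exact ⟨z, fun _ => by simp [hη, h, hz]⟩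
      · exact ⟨-z, fun _ => by simp [hη, h, hz]⟩
    · exact ⟨0, fun h => absurd h hg⟩
  choose v hv using hvv
  have hset : ∀ y ∈ (Y : Set G) \ {1}, ∀ u ∈ supportR M y,
      y * u ∈ dadeSet ((Y : Set G) \ {1}) (supportR M) := fun y hy u hu => ⟨y, hy, u, hu, 1, by group⟩
  have hvy : ∀ y ∈ Y, y ≠ 1 → η y = (v y : ℂ) := fun y hy hy1 =>
    hv y (by simpa using hset y ⟨hy, hy1⟩ 1 (one_mem _))
  -- the averages
  have hPex : ∀ y : G, ∃ z : ℤ, (y ∈ (Y : Set G) \ {1} →
      (Nat.card (supportR M y) : ℂ)⁻¹ * ∑ u : G with u ∈ supportR M y, ε * μ χ (y * u) = (z : ℂ)) ∧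
      (y ∉ (Y : Set G) \ {1} → z = 0) := by
    intro y
    by_cases hy : y ∈ (Y : Set G) \ {1}
    swap
    · exact ⟨0, fun h => absurd h hy, fun _ => rfl⟩
    have hi : IsIntegral ℤ ((Nat.card (supportR M y) : ℂ)⁻¹ * ∑ u : G with u ∈ supportR M y, η (y * u)) :=
      avg_isIntegral hηgen _ (Subgroup.centralizer_le_normalizer _ (Subgroup.mem_centralizer_iff.2 fun u hu =>
        (dade_commute hDM hy hu).eq.symm))
    have hq : (Nat.card (supportR M y) : ℂ)⁻¹ * ∑ u : G with u ∈ supportR M y, η (y * u) =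
        (((Nat.card (supportR M y) : ℚ)⁻¹ * ∑ u : G with u ∈ supportR M y, (v (y * u) : ℚ) : ℚ) : ℂ) := by
      push_cast
      exact congrArg _ (Finset.sum_congr rfl fun u hu => hv _ (hset y hy u (Finset.mem_filter.1 hu).2))
    obtain ⟨z, hz⟩ := isIntegral_rat_cast_imp (hq ▸ hi)
    refine ⟨z, fun _ => ?_, fun h => absurd hy h⟩
    rw [show (∑ u : G with u ∈ supportR M y, ε * μ χ (y * u)) = ∑ u : G with u ∈ supportR M y, η (y * u) from rfl,
      hq, ← hz]
    simp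
  choose P hP hP0 using hPex
  have hP1 : P 1 = 0 := hP0 1 fun h => h.2 rfl
  have hPsq : ∀ y ∈ (Y : Set G) \ {1}, ((P y : ℝ)) ^ 2 ≤ avgSq (supportR M) (μ χ) y := by
    intro y hy
    set R := supportR M y with hR
    have hc : ((Finset.univ.filter fun u : G => u ∈ R).card : ℝ) = Nat.card R := by
      rw [Nat.card_eq_fintype_card, Fintype.card_subtype]
    have hN : (0 : ℝ) < Nat.card R := Nat.cast_pos.2 Nat.card_pos
    have hsum : ∑ u : G with u ∈ R, (v (y * u) : ℝ) = (Nat.card R : ℝ) * P y := by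
      have h := hP y hy
      have h2 : ((∑ u : G with u ∈ R, (v (y * u) : ℝ) : ℝ) : ℂ) = (((Nat.card R : ℝ) * P y : ℝ) : ℂ) := by
        push_cast
        rw [← h, ← mul_assoc, mul_inv_cancel₀ (Nat.cast_ne_zero.2 Nat.card_pos.ne'), one_mul]
        exact Finset.sum_congr rfl fun u hu => (hv _ (hset y hy u (Finset.mem_filter.1 hu).2)).symm
      exact_mod_cast h2
    have hterm : avgSq (supportR M) (μ χ) y = (Nat.card R : ℝ)⁻¹ * ∑ u : G with u ∈ R, (v (y * u) : ℝ) ^ 2 := by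
      rw [avgSq]
      refine congrArg _ (Finset.sum_congr rfl fun u hu => ?_)
      have hεn : ‖ε‖ = 1 := by rcases k.sign with h | h <;> rw [h] <;> norm_num
      have h3 : ‖μ χ (y * u)‖ = ‖η (y * u)‖ := by simp [hη, hεn]
      rw [h3, hv _ (hset y hy u (Finset.mem_filter.1 hu).2), Complex.norm_intCast, sq_abs]
    rw [hterm, le_inv_mul_iff₀ hN]
    have h := sq_sum_le_card_mul_sum_sq (s := Finset.univ.filter fun u : G => u ∈ R) (f := fun u => (v (y * u) : ℝ))
    rw [hsum, hc, mul_pow, sq (Nat.card R : ℝ), mul_assoc] at h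
    exact le_of_mul_le_mul_left h hN
  -- congruences
  have hcongr_f : ∀ y ∈ C, y ≠ 1 → ∀ i ∈ I, (t : ℤ) ∣ v y - e - zf i y := by
    intro y hy hy1 i hi
    have hcomm : w ^ i * y = y * w ^ i :=
      ((show Commute w y from (Subgroup.mem_centralizer_singleton_iff.1 hy.2).symm).pow_left i).eq
    obtain ⟨ω, hω, hω'⟩ := S1494.result η hηgen t ht.out (w ^ i) y (hwi i hi) hcomm
    set x' : L := ⟨w ^ i, c.core_le (hB i hi).1⟩ with hx'
    have hχgen : IsGeneralizedCharacter L χ :=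
      ⟨χ, 0, irr_isCharacter (k.irr χ k.mem), isCharacter_zero, (sub_zero χ).symm⟩
    obtain ⟨ω', hω'i, hω''⟩ := S1494.result χ hχgen t ht.out x' 1
      (by rw [← Subgroup.orderOf_coe]; exact hwi i hi) (by rw [mul_one, one_mul])
    rw [mul_one, hχ1] at hω''
    refine S1495.result t ht.out _ (ω' - ω) (hω'i.sub hω) ?_
    have h1 := hzf i y hi hy
    have h2 : χe (w ^ i) = χ x' := extendByZero_mem L χ x'.2
    push_cast
    linear_combination -hω' + hω'' + h1 - hvy y hy.1 hy1 + h2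
  have hfix : ∀ y ∈ C, y ≠ 1 → supportR M y ⊓ Subgroup.centralizer ({w} : Set G) = ⊥ := by
    intro y hy hy1
    by_cases hyM : Subgroup.centralizer ({y} : Set G) ≤ M
    · rw [Support.supportR_bot hyM, bot_inf_eq]
    obtain ⟨H, hH, hCH, -, -, hinf, -⟩ := Support.over_centralizer hG c.coatomM hy.1 hy1 hyM
    rw [Support.supportR_eq hG c.coatomM hy.1 hy1 hyM hH hCH, eq_bot_iff, ← hinf]
    intro x hx
    refine ⟨hx.1.1, ?_⟩
    have hle : Subgroup.centralizer ({w} : Set G) ≤ M := by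
      have h := (TauTwo.centralizer_unique_of_fixed c.setup (Subgroup.zpowers_le.2 c.w_mem)
        (by rw [Nat.card_zpowers, c.w_order]) (fun hb => c.w_fix (by
          rw [Sig.centralizer_zpowers] at hb; rw [hb]; exact bot_le))).1
      rwa [Sig.centralizer_zpowers] at h
    exact hle hx.2
  have hcongr_P : ∀ y ∈ C, y ≠ 1 → (t : ℤ) ∣ P y - v y := by
    intro y hy hy1
    set R := supportR M y with hR
    have hyB : y ∈ (Y : Set G) \ {1} := ⟨hy.1, hy1⟩
    have hwy : Commute w y := (Subgroup.mem_centralizer_singleton_iff.1 hy.2).symm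
    have hwy' : w ∈ Subgroup.centralizer ({y} : Set G) := Subgroup.mem_centralizer_singleton_iff.2 hwy.eq
    have hwR : w ∈ Subgroup.normalizer (R : Set G) := by
      refine Fusion.mem_normalizer_of_cj_le ?_
      rintro _ ⟨u, hu, rfl⟩
      exact hDM.conj_mem_H y hyB w hwy' u hu
    have hone : (Finset.univ.filter fun u : G => u ∈ R ⊓ Subgroup.centralizer ({w} : Set G)) = {1} := by
      ext u
      simp [hR, hfix y hy hy1]
    obtain ⟨γ, hγ, hγ'⟩ := sum_mod_fixed ht.out c.w_order R hwR (fun u => η (y * u))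
      (fun u hu => by rw [hv _ (hset y hyB u hu)]; exact isIntegral_algebraMap) (fun u _ => by
        rw [show y * (w * u * w⁻¹) = w * (y * u) * w⁻¹ by
          calc y * (w * u * w⁻¹) = (y * w) * u * w⁻¹ := by group
            _ = w * (y * u) * w⁻¹ := by rw [← hwy.eq]; group]
        exact hηcl _ _)
    obtain ⟨γ', hγ'i, hγ''⟩ := sum_mod_fixed ht.out c.w_order R hwR (fun _ => (1 : ℂ))
      (fun _ _ => isIntegral_one) fun _ _ => rfl
    rw [hone, Finset.sum_singleton, mul_one] at hγ'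
    rw [hone, Finset.sum_singleton, Finset.sum_const, nsmul_one] at hγ''
    have hP' := hP y hyB
    have hc : ((Finset.univ.filter fun u : G => u ∈ R).card : ℂ) = Nat.card R := by
      rw [Nat.card_eq_fintype_card, Fintype.card_subtype]
    rw [hc] at hγ''
    refine int_dvd_of_integral ht.out.ne_zero (γ := γ - γ' * (P y : ℂ)) (hγ.sub (hγ'i.mul isIntegral_algebraMap)) ?_
    rw [inv_mul_eq_iff_eq_mul₀ (Nat.cast_ne_zero.2 Nat.card_pos.ne'),
      show (∑ u : G with u ∈ R, ε * μ χ (y * u)) = ∑ u : G with u ∈ R, η (y * u) from rfl, hγ'] at hP'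
    push_cast
    linear_combination -hP' - (P y : ℂ) * hγ'' + hvy y hy.1 hy1
  -- reduce to squares
  set DY : Finset G := Finset.univ.filter fun y => y ∈ Y ∧ y ≠ 1 with hDY
  have hTot : ∑ i ∈ I, (Nat.card C : ℝ)⁻¹ * ∑ u : G with u ∈ C, (zf i u : ℝ) ^ 2 +
      (Nat.card Y : ℝ)⁻¹ * ∑ y ∈ DY, (P y : ℝ) ^ 2 ≤ (e : ℝ) := by
    refine le_trans (add_le_add (le_of_eq ?_) ?_) hbound
    · refine Finset.sum_congr rfl fun i hi => congrArg _ (Finset.sum_congr rfl fun u hu => ?_)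
      rw [show ε * μ χ (w ^ i * u) = η (w ^ i * u) from rfl, hzf i u hi (Finset.mem_filter.1 hu).2,
        Complex.norm_intCast, sq_abs]
    · refine mul_le_mul_of_nonneg_left ?_ (inv_nonneg.2 (Nat.cast_nonneg _))
      refine (le_of_eq (Finset.sum_congr ?_ fun _ _ => rfl)).trans
        (Finset.sum_le_sum fun y hy => hPsq y (Finset.mem_filter.1 hy).2)
      ext y; simp [hDY]
  have hte : 2 * (e : ℤ) - 1 ≤ (t : ℤ) := by
    have h := c.bound
    have h' : 2 * (e : ℤ) ≤ (t : ℤ) + 1 := by exact_mod_cast h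
    linarith
  have he3 : (3 : ℤ) ≤ (e : ℤ) := by exact_mod_cast c.three_le
  have hIne : I.Nonempty := Finset.nonempty_Icc.2 (by have := ht.out.two_le; omega)
  have hIcard : (I.card : ℝ) = (t : ℝ) - 1 := by
    rw [hI, Nat.card_Icc, Nat.add_sub_cancel, Nat.cast_sub ht.out.one_lt.le, Nat.cast_one]
  have hn5 : 5 * Nat.card Ψ ≤ Nat.card Y := by
    rw [hΨ, ← Y.map_subtype_commutator, Subgroup.card_map_of_injective Y.subtype_injective,
      ← Subgroup.index_mul_card (commutator ↥Y)]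
    exact Nat.mul_le_mul_right _ c.five_le_index
  have hYpos : (0 : ℝ) < Nat.card Y := Nat.cast_pos.2 Nat.card_pos
  by_cases hcen : Y ≤ Subgroup.centralizer ({w} : Set G)
  · -- `w` centralises the core
    have hCY : C = Y := inf_eq_left.2 hcen
    have hper : ∀ y ∈ DY, 5 / 4 * (e : ℝ) ≤ ∑ i ∈ I, (zf i y : ℝ) ^ 2 + (P y : ℝ) ^ 2 := by
      intro y hy
      obtain ⟨hy', hy1⟩ := (Finset.mem_filter.1 hy).2
      have hyC : y ∈ C := hCY.symm ▸ hy'
      obtain ⟨i₀, hi₀, hmin⟩ := Finset.exists_min_image I (fun i => (zf i y : ℝ) ^ 2) hIne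
      have hd : (t : ℤ) ∣ P y - e - zf i₀ y := by
        have h := dvd_add (hcongr_P y hyC hy1) (hcongr_f y hyC hy1 i₀ hi₀)
        rwa [show P y - v y + (v y - e - zf i₀ y) = P y - e - zf i₀ y by ring] at h
      have hkey := key_ineq he3 hte hd
      push_cast at hkey
      have hsum : ((t : ℝ) - 1) * (zf i₀ y : ℝ) ^ 2 ≤ ∑ i ∈ I, (zf i y : ℝ) ^ 2 := by
        rw [← hIcard, ← nsmul_eq_mul, ← Finset.sum_const]
        exact Finset.sum_le_sum fun i hi => hmin i hi
      have hnn : 0 ≤ ∑ i ∈ I, (zf i y : ℝ) ^ 2 := Finset.sum_nonneg fun _ _ => sq_nonneg _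
      linarith
    have h1 : ∑ y ∈ DY, (5 / 4 * (e : ℝ)) ≤ ∑ y ∈ DY, ∑ i ∈ I, (zf i y : ℝ) ^ 2 + ∑ y ∈ DY, (P y : ℝ) ^ 2 := by
      rw [← Finset.sum_add_distrib]
      exact Finset.sum_le_sum hper
    have h2 : ∑ y ∈ DY, ∑ i ∈ I, (zf i y : ℝ) ^ 2 ≤ ∑ i ∈ I, ∑ u : G with u ∈ C, (zf i u : ℝ) ^ 2 := by
      rw [Finset.sum_comm]
      refine Finset.sum_le_sum fun i _ => Finset.sum_le_sum_of_subset_of_nonneg ?_ fun _ _ _ => sq_nonneg _
      intro y hy
      exact Finset.mem_filter.2 ⟨Finset.mem_univ _, hCY.symm ▸ (Finset.mem_filter.1 hy).2.1⟩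
    rw [hCY, ← Finset.mul_sum, ← mul_add] at hTot
    rw [hCY] at h2
    have h3 := (inv_mul_le_iff₀ hYpos).1 hTot
    rw [Finset.sum_const, nsmul_eq_mul, hDY, card_filter_ne_one] at h1
    have h5 : (5 : ℝ) ≤ Nat.card Y := by
      have : 5 ≤ Nat.card Y := le_trans (Nat.le_mul_of_pos_right 5 Nat.card_pos) hn5
      exact_mod_cast this
    have hepos : (0 : ℝ) < e := Nat.cast_pos.2 (by have := c.three_le; omega)
    have hwit : ∀ y ∈ DY, (e : ℝ) < 5 / 4 * e := fun _ _ => by linarith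
    -- strictness
    obtain ⟨y₀, hy₀⟩ : DY.Nonempty := by
      rw [← Finset.card_pos]
      have : (0 : ℝ) < (DY.card : ℝ) := by rw [hDY, card_filter_ne_one]; linarith
      exact_mod_cast this
    have hstrict : ∑ y ∈ DY, (5 / 4 * (e : ℝ)) < ∑ y ∈ DY, ∑ i ∈ I, (zf i y : ℝ) ^ 2 + ∑ y ∈ DY, (P y : ℝ) ^ 2 := by
      rw [← Finset.sum_add_distrib]
      refine Finset.sum_lt_sum hper ⟨y₀, hy₀, ?_⟩
      obtain ⟨hy', hy1⟩ := (Finset.mem_filter.1 hy₀).2
      have hyC : y₀ ∈ C := hCY.symm ▸ hy'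
      obtain ⟨i₀, hi₀, hmin⟩ := Finset.exists_min_image I (fun i => (zf i y₀ : ℝ) ^ 2) hIne
      have hd : (t : ℤ) ∣ P y₀ - e - zf i₀ y₀ := by
        have h := dvd_add (hcongr_P y₀ hyC hy1) (hcongr_f y₀ hyC hy1 i₀ hi₀)
        rwa [show P y₀ - v y₀ + (v y₀ - e - zf i₀ y₀) = P y₀ - e - zf i₀ y₀ by ring] at h
      have hkey := key_ineq he3 hte hd
      push_cast at hkey
      have hsum : ((t : ℝ) - 1) * (zf i₀ y₀ : ℝ) ^ 2 ≤ ∑ i ∈ I, (zf i y₀ : ℝ) ^ 2 := by
        rw [← hIcard, ← nsmul_eq_mul, ← Finset.sum_const]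
        exact Finset.sum_le_sum fun i hi => hmin i hi
      have hnn : 0 ≤ ∑ i ∈ I, (zf i y₀ : ℝ) ^ 2 := Finset.sum_nonneg fun _ _ => sq_nonneg _
      linarith
    rw [Finset.sum_const, nsmul_eq_mul, hDY, card_filter_ne_one] at hstrict
    nlinarith [mul_nonneg (sub_nonneg.2 h5) hepos.le]
  -- the general case
  obtain ⟨a, ha⟩ := c.coset_const dd hcen P (fun y hy => hP y hy) hP1
  have hC0C : C0 ≤ C := inf_le_inf_right _ hΨY
  have hC0n : ∀ y ∈ C, y ∈ Subgroup.normalizer (C0 : Set G) := fun y hy => by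
    refine Fusion.mem_normalizer_of_cj_le ?_
    rw [hC0, Fusion.cj_inf]
    refine inf_le_inf (Fusion.cj_eq_self (hYΨ hy.1)).le ?_
    exact (Fusion.cj_eq_self_of_mem hy.2).le
  have hwC0 : ∀ i : ℕ, w ^ i ∈ Subgroup.normalizer (C0 : Set G) := fun i =>
    pow_mem (Subgroup.centralizer_le_normalizer _ (Subgroup.mem_centralizer_iff.2 fun u hu =>
      (Subgroup.mem_centralizer_singleton_iff.1 (Subgroup.mem_inf.1 hu).2))) i
  set DC : Finset G := Finset.univ.filter fun y => y ∈ C ∧ y ∉ C0 with hDC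
  have hDCmem : ∀ y ∈ DC, y ∈ C ∧ y ∉ Ψ := fun y hy => by
    obtain ⟨h1, h2⟩ := (Finset.mem_filter.1 hy).2
    exact ⟨h1, fun h => h2 ⟨h, h1.2⟩⟩
  have hex : ∀ (i : ℕ) (y : G), ∃ g : ℤ, i ∈ I → y ∈ DC →
      ∑ u : G with u ∈ C0, zf i (y * u) = (Nat.card C0 : ℤ) * g := by
    intro i y
    by_cases h : i ∈ I ∧ y ∈ DC
    swap
    · exact ⟨0, fun a b => absurd ⟨a, b⟩ h⟩
    obtain ⟨hi, hy⟩ := h
    obtain ⟨hyC, -⟩ := hDCmem y hy
    have hint := avg_isIntegral hηgen C0 (z := w ^ i * y) (mul_mem (hwC0 i) (hC0n y hyC))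
    have hsum : ∑ u : G with u ∈ C0, η (w ^ i * y * u) =
        ((∑ u : G with u ∈ C0, zf i (y * u) : ℤ) : ℂ) + (Nat.card C0 : ℂ) * χe (w ^ i) := by
      have hc : ((Finset.univ.filter fun u : G => u ∈ C0).card : ℂ) = Nat.card C0 := by
        rw [Nat.card_eq_fintype_card, Fintype.card_subtype]
      rw [← hc, ← nsmul_eq_mul, ← Finset.sum_const, Int.cast_sum, ← Finset.sum_add_distrib]
      refine Finset.sum_congr rfl fun u hu => ?_
      rw [← hzf i (y * u) hi (C.mul_mem hyC (hC0C (Finset.mem_filter.1 hu).2)), mul_assoc]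
      ring
    have hχi : IsIntegral ℤ (χe (w ^ i)) := by
      rw [hχe, extendByZero_mem L χ (c.core_le (hB i hi).1)]
      exact char_isIntegral (irr_isCharacter (k.irr χ k.mem)) _
    have hN : (Nat.card C0 : ℂ) ≠ 0 := Nat.cast_ne_zero.2 Nat.card_pos.ne'
    rw [hsum, mul_add, ← mul_assoc, inv_mul_cancel₀ hN, one_mul] at hint
    have h2 : IsIntegral ℤ ((((∑ u : G with u ∈ C0, zf i (y * u) : ℤ) : ℚ) / (Nat.card C0 : ℚ) : ℚ) : ℂ) := by
      have h3 := hint.sub hχi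
      rw [add_sub_cancel_right] at h3
      push_cast at h3 ⊢
      rwa [div_eq_inv_mul]
    obtain ⟨g, hg⟩ := isIntegral_rat_cast_imp h2
    refine ⟨g, fun _ _ => ?_⟩
    rw [eq_div_iff (Nat.cast_ne_zero.2 Nat.card_pos.ne')] at hg
    rw [mul_comm]
    exact_mod_cast hg.symm
  choose gi hgi using hex
  have hga : ∀ i ∈ I, ∀ y ∈ DC, (t : ℤ) ∣ a - e - gi i y := by
    intro i hi y hy
    obtain ⟨hyC, hyΨ⟩ := hDCmem y hy
    have hsetC : (Finset.univ.filter fun u : G => u ∈ Ψ ⊓ Subgroup.centralizer ({w} : Set G)) =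
        Finset.univ.filter fun u : G => u ∈ C0 := rfl
    have hyu : ∀ u ∈ Ψ, y * u ∈ Y ∧ y * u ≠ 1 := fun u hu =>
      ⟨Y.mul_mem hyC.1 (hΨY hu), fun h => hyΨ (by rw [eq_inv_of_mul_eq_one_left h]; exact Ψ.inv_mem hu)⟩
    obtain ⟨γ, hγ, hγ'⟩ := sum_mod_fixed ht.out c.w_order Ψ hwΨ (fun u => (P (y * u) : ℂ))
      (fun _ _ => isIntegral_algebraMap) fun u hu => by
        have e1 : y * (w * u * w⁻¹) = w * (y * u) * w⁻¹ := by
          calc y * (w * u * w⁻¹) = (y * w) * u * w⁻¹ := by group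
            _ = w * (y * u) * w⁻¹ := by rw [Subgroup.mem_centralizer_singleton_iff.1 hyC.2]; group
        obtain ⟨hm, hm1⟩ := hyu u hu
        have hcj := coset_avg_conj hDM (a := y * u) ⟨hm, hm1⟩ (l := w) hwM hηcl
        have hm' : w * (y * u) * w⁻¹ ∈ (Y : Set G) \ {1} := hDM.conj_mem w hwM _ ⟨hm, hm1⟩
        rw [e1, ← hP _ hm', ← hP _ ⟨hm, hm1⟩]
        exact hcj
    obtain ⟨γ', hγ'i, hγ''⟩ := sum_mod_fixed ht.out c.w_order Ψ hwΨ (fun _ => (1 : ℂ))
      (fun _ _ => isIntegral_one) fun _ _ => rfl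
    rw [hsetC] at hγ' hγ''
    simp only [Finset.sum_const, nsmul_one] at hγ''
    have hcΨ : ((Finset.univ.filter fun u : G => u ∈ Ψ).card : ℂ) = Nat.card Ψ := by
      rw [Nat.card_eq_fintype_card, Fintype.card_subtype]
    have hc0 : ((Finset.univ.filter fun u : G => u ∈ C0).card : ℂ) = Nat.card C0 := by
      rw [Nat.card_eq_fintype_card, Fintype.card_subtype]
    rw [hcΨ, hc0] at hγ''
    rw [← Int.cast_sum, ← Int.cast_sum, ha y hyC.1 hyΨ] at hγ'
    push_cast at hγ'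
    have hd1 : (t : ℤ) ∣ (Nat.card C0 : ℤ) * a - ∑ u : G with u ∈ C0, P (y * u) := by
      refine int_dvd_of_integral ht.out.ne_zero (γ := γ - γ' * (a : ℂ)) (hγ.sub (hγ'i.mul isIntegral_algebraMap)) ?_
      push_cast
      linear_combination hγ' - (a : ℂ) * hγ''
    have hd2 : (t : ℤ) ∣ (∑ u : G with u ∈ C0, P (y * u)) - (Nat.card C0 : ℤ) * e - ∑ u : G with u ∈ C0, zf i (y * u) := by
      have hc : ((Finset.univ.filter fun u : G => u ∈ C0).card : ℤ) = Nat.card C0 := by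
        rw [Nat.card_eq_fintype_card, Fintype.card_subtype]
      rw [← hc, ← nsmul_eq_mul, ← Finset.sum_const, ← Finset.sum_sub_distrib, ← Finset.sum_sub_distrib]
      refine Finset.dvd_sum fun u hu => ?_
      have huC0 := (Finset.mem_filter.1 hu).2
      have hmem : y * u ∈ C := C.mul_mem hyC (hC0C huC0)
      have hne : y * u ≠ 1 := (hyu u huC0.1).2
      have h := dvd_add (hcongr_P (y * u) hmem hne) (hcongr_f (y * u) hmem hne i hi)
      rwa [show P (y * u) - v (y * u) + (v (y * u) - (e : ℤ) - zf i (y * u)) = P (y * u) - e - zf i (y * u) by ring] at h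
    have hd3 : (t : ℤ) ∣ (Nat.card C0 : ℤ) * (a - e - gi i y) := by
      have h := dvd_add hd1 hd2
      rw [hgi i y hi hy] at h
      refine h.trans (dvd_of_eq ?_)
      ring
    refine ((Nat.prime_iff_prime_int.1 ht.out).dvd_mul.1 hd3).resolve_left fun h => ?_
    exact c.not_dvd_core ((Int.natCast_dvd_natCast.1 h).trans (Subgroup.card_dvd_of_le (inf_le_left.trans hΨY)))
  have hC3 : 3 * Nat.card C0 ≤ Nat.card C := by
    have hne : C0.relIndex C ≠ 1 := fun h => c.w_fix ((Subgroup.relIndex_eq_one.1 h).trans inf_le_left)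
    have hmul : C0.relIndex C * Nat.card C0 = Nat.card C := by
      rw [mul_comm, ← Solv.card_subgroupOf hC0C]
      exact Subgroup.card_mul_index _
    obtain ⟨j, hj⟩ := (c.minSimple.1.of_dvd_nat (Subgroup.card_subgroup_dvd_card C)).of_dvd_nat
      (Subgroup.relIndex_dvd_card C0 C)
    rw [← hmul]
    exact Nat.mul_le_mul_right _ (by omega)
  have hDCne : DC.Nonempty := by
    rw [← Finset.card_pos]
    have h1 : (0 : ℝ) < (DC.card : ℝ) := by
      rw [hDC, card_filter_sdiff hC0C]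
      have h3 : (3 : ℝ) * Nat.card C0 ≤ Nat.card C := by exact_mod_cast hC3
      have hpos : (0 : ℝ) < Nat.card C0 := Nat.cast_pos.2 Nat.card_pos
      linarith
    exact_mod_cast h1
  obtain ⟨⟨i₀, y₀⟩, hp₀, hmin⟩ := Finset.exists_min_image (I ×ˢ DC) (fun p => (gi p.1 p.2 : ℝ) ^ 2)
    (hIne.product hDCne)
  obtain ⟨hi₀, hy₀⟩ := Finset.mem_product.1 hp₀
  have hkey := key_ineq he3 hte (hga i₀ hi₀ y₀ hy₀)
  push_cast at hkey
  set g₀ : ℝ := (gi i₀ y₀ : ℝ) ^ 2 with hg₀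
  have hXi : ∀ i ∈ I, (DC.card : ℝ) * g₀ ≤ ∑ u : G with u ∈ C, (zf i u : ℝ) ^ 2 := by
    intro i hi
    refine (coset_sq_bound C0 DC ?_ (fun u => (zf i u : ℝ)) (b := g₀) ?_).trans
      (Finset.sum_le_sum_of_subset_of_nonneg ?_ fun _ _ _ => sq_nonneg _)
    · intro y hy u hu
      obtain ⟨h1, h2⟩ := (Finset.mem_filter.1 hy).2
      refine Finset.mem_filter.2 ⟨Finset.mem_univ _, C.mul_mem h1 (hC0C hu), fun h => h2 ?_⟩
      simpa using C0.mul_mem h (C0.inv_mem hu)
    · intro y hy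
      have h : (∑ u : G with u ∈ C0, (zf i (y * u) : ℝ)) = (Nat.card C0 : ℝ) * (gi i y : ℝ) := by
        exact_mod_cast hgi i y hi hy
      rw [h, mul_pow]
      exact mul_le_mul_of_nonneg_left (hmin (i, y) (Finset.mem_product.2 ⟨hi, hy⟩)) (sq_nonneg _)
    · intro y hy
      exact Finset.mem_filter.2 ⟨Finset.mem_univ _, (Finset.mem_filter.1 hy).2.1⟩
  set DΨ : Finset G := Finset.univ.filter fun y => y ∈ Y ∧ y ∉ Ψ with hDΨ
  have hXP : (DΨ.card : ℝ) * (a : ℝ) ^ 2 ≤ ∑ y ∈ DY, (P y : ℝ) ^ 2 := by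
    refine (coset_sq_bound Ψ DΨ ?_ (fun y => (P y : ℝ)) (b := (a : ℝ) ^ 2) ?_).trans
      (Finset.sum_le_sum_of_subset_of_nonneg ?_ fun _ _ _ => sq_nonneg _)
    · intro y hy u hu
      obtain ⟨h1, h2⟩ := (Finset.mem_filter.1 hy).2
      refine Finset.mem_filter.2 ⟨Finset.mem_univ _, Y.mul_mem h1 (hΨY hu), fun h => h2 ?_⟩
      simpa using Ψ.mul_mem h (Ψ.inv_mem hu)
    · intro y hy
      obtain ⟨h1, h2⟩ := (Finset.mem_filter.1 hy).2
      have h : (∑ u : G with u ∈ Ψ, (P (y * u) : ℝ)) = (Nat.card Ψ : ℝ) * (a : ℝ) := by exact_mod_cast ha y h1 h2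
      rw [h, mul_pow]
    · intro y hy
      obtain ⟨h1, h2⟩ := (Finset.mem_filter.1 hy).2
      exact Finset.mem_filter.2 ⟨Finset.mem_univ _, h1, fun h => h2 (h ▸ Ψ.one_mem)⟩
  have hCpos : (0 : ℝ) < Nat.card C := Nat.cast_pos.2 Nat.card_pos
  have h1 : 2 / 3 * (((t : ℝ) - 1) * g₀) ≤ ∑ i ∈ I, (Nat.card C : ℝ)⁻¹ * ∑ u : G with u ∈ C, (zf i u : ℝ) ^ 2 := by
    refine le_trans ?_ (Finset.sum_le_sum fun i hi => mul_le_mul_of_nonneg_left (hXi i hi) (inv_nonneg.2 hCpos.le))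
    rw [Finset.sum_const, nsmul_eq_mul, hIcard, hDC, card_filter_sdiff hC0C]
    have h3 : (3 : ℝ) * Nat.card C0 ≤ Nat.card C := by exact_mod_cast hC3
    have hq : 2 / 3 ≤ (Nat.card C : ℝ)⁻¹ * ((Nat.card C : ℝ) - Nat.card C0) := by
      rw [le_inv_mul_iff₀ hCpos]
      linarith
    have ht1 : (0 : ℝ) ≤ (t : ℝ) - 1 := by
      have : (1 : ℝ) ≤ t := by exact_mod_cast ht.out.one_lt.le
      linarith
    have := mul_le_mul_of_nonneg_right hq (mul_nonneg ht1 (sq_nonneg (gi i₀ y₀ : ℝ)))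
    rw [hg₀]
    linarith
  have h2 : 4 / 5 * (a : ℝ) ^ 2 ≤ (Nat.card Y : ℝ)⁻¹ * ∑ y ∈ DY, (P y : ℝ) ^ 2 := by
    refine le_trans ?_ (mul_le_mul_of_nonneg_left hXP (inv_nonneg.2 hYpos.le))
    rw [hDΨ, card_filter_sdiff hΨY]
    have h5 : (5 : ℝ) * Nat.card Ψ ≤ Nat.card Y := by exact_mod_cast hn5
    have hq : 4 / 5 ≤ (Nat.card Y : ℝ)⁻¹ * ((Nat.card Y : ℝ) - Nat.card Ψ) := by
      rw [le_inv_mul_iff₀ hYpos]
      linarith
    rw [← mul_assoc]
    exact mul_le_mul_of_nonneg_right hq (sq_nonneg _)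
  linarith

end Config

end Cfsg.Agent.OddChar
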