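import Cfsg.Agent.Lib.OddChar.KappaSplitBase
import Cfsg.Agent.Lib.OddChar.KappaData
import Cfsg.Agent.Lib.OddChar.TauTwoFree
import Cfsg.Agent.Lib.Char.DegreeDvd
import Cfsg.Agent.Lib.Char.Inflate

/-!
The configuration with `κ`-primes in `L` and `L_σ` not nilpotent is impossible.
-/

set_option autoImplicit false
set_option linter.unusedSectionVars false
set_option linter.style.haveILetI false

open Cfsg Cfsg.Agent.Char
open scoped ComplexConjugate commutatorElement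
open Cfsg.Agent.Fusion (SylIn cj)
open Cfsg.Agent.OddLocal
open Cfsg.Agent.OddLocal.RankTwo (omz)

namespace Cfsg.Agent.OddChar

universe u

section Degree

variable {X : Type u} [Group X] [Fintype X]

/-- Itô's theorem modulo a normal subgroup in the kernel. -/
theorem deg_dvd_index_mod (θ : IrrCharacter X) (N : Subgroup X) [N.Normal]
    (hker : ∀ n ∈ N, (θ : X → ℂ) n = (θ : X → ℂ) 1) (B : Subgroup X) [B.Normal] (hNB : N ≤ B)
    (hab : ∀ a ∈ B, ∀ b ∈ B, ⁅a, b⁆ ∈ N) : deg (θ : X → ℂ) ∣ B.index := by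
  haveI : Fintype (X ⧸ N) := Fintype.ofFinite _
  obtain ⟨θ', hθ'⟩ := exists_deflate N θ.2 hker
  haveI : (B.map (QuotientGroup.mk' N)).Normal := Subgroup.Normal.map inferInstance _ (QuotientGroup.mk'_surjective N)
  have h := deg_dvd_index_abelian_normal θ'.2 (B.map (QuotientGroup.mk' N)) (by
    rintro ⟨_, a, ha, rfl⟩ ⟨_, b, hb, rfl⟩
    refine Subtype.ext (commutatorElement_eq_one_iff_mul_comm.1 ?_)
    show ⁅QuotientGroup.mk' N a, QuotientGroup.mk' N b⁆ = 1
    rw [← map_commutatorElement]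
    exact (QuotientGroup.eq_one_iff _).2 (hab a ha b hb))
  rw [Subgroup.index_map_eq _ (QuotientGroup.mk'_surjective N) (by rw [QuotientGroup.ker_mk']; exact hNB)] at h
  have e : deg (θ' : X ⧸ N → ℂ) = deg (θ : X → ℂ) := by rw [deg, deg, ← hθ' 1, QuotientGroup.mk_one]
  rwa [e] at h

/-- The square of the degree is at most the index of a subgroup central modulo the kernel. -/
theorem sq_deg_le_index_mod (θ : IrrCharacter X) (N B : Subgroup X)
    (hker : ∀ n ∈ N, (θ : X → ℂ) n = (θ : X → ℂ) 1) (hcen : ∀ a ∈ B, ∀ g : X, a * g * a⁻¹ * g⁻¹ ∈ N) :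
    deg (θ : X → ℂ) ^ 2 ≤ B.index := by
  have hle : B ≤ TwoDeg.cz θ := fun z hz => (TwoDeg.mem_cz_iff_comm θ z).2 fun g =>
    TwoDeg.mem_kerC_of_eq _ (hker _ (hcen z hz g))
  refine Nat.le_of_mul_le_mul_left ?_ (Nat.card_pos (α := B))
  rw [Subgroup.card_mul_index]
  exact (Nat.mul_le_mul_right _ (Nat.card_le_card_of_injective _ (Subgroup.inclusion_injective hle))).trans
    (TwoDeg.card_cz_mul_sq_le θ)

end Degree

section Group

variable {G : Type u} [Group G] [Finite G] {t : ℕ} [ht : Fact t.Prime] {M L A E S K Q D H₁ : Subgroup G} {w : G}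

namespace SConf

variable (c : SConf t M L A E S w K Q D H₁)
include c

/-- Every element of `D` has its `t`-part in `S`, the rest in `E` and central in `D`. -/
theorem D_decompose {d : G} (hd : d ∈ D) :
    ∃ a ∈ S, ∃ y ∈ D, d = a * y ∧ y ∈ E ∧ ∀ z ∈ D, y * z = z * y := by
  haveI := c.spl.nilpotent
  have p := c.conf.pre
  have hSn : D ≤ Subgroup.normalizer (S : Set G) := le_sup_left.trans c.DK_norm_S
  have hcS : ∀ y ∈ D, ¬ t ∣ orderOf y → ∀ a ∈ S, y * a = a * y := fun y hy hyt a ha => by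
    have hcom := TypePBasic.nilpotent_coprime_commute (F := D) c.S_D (Subgroup.zpowers_le.2 hy)
      (by
        obtain ⟨i, hi⟩ := IsPGroup.iff_card.1 p.syl.isPGroup
        rw [hi, Nat.card_zpowers]
        exact ((Nat.Prime.coprime_iff_not_dvd ht.out).2 hyt).pow_left i)
    exact (Subgroup.mem_centralizer_iff.1 (hcom (Subgroup.mem_zpowers y)) a ha).symm
  have hE : ∀ y ∈ D, ¬ t ∣ orderOf y → y ∈ E := fun y hy hyt =>
    c.D_mem_E hy (hcS y hy hyt w (p.A_S p.w_mem))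
  have hab : IsMulCommutative ↥(D ⊓ E) :=
    TauTwo.nilpotent_abelian p.minSimple p.coatomM (inf_le_right.trans (p.E_eq.ge.trans inf_le_right))
      (Solv.isNilpotent_of_le (inf_le_left : D ⊓ E ≤ D) c.spl.nilpotent)
      fun q hq hd => Sig.compl_pi p.minSimple p.coatomM p.complM hq (hd.trans (Subgroup.card_dvd_of_le inf_le_right))
  have hsplit : ∀ z ∈ D, ∃ a ∈ S, ∃ y ∈ D, z = a * y ∧ ¬ t ∣ orderOf y := fun z hz => by
    obtain ⟨y, hy, -, ⟨k, hk⟩, hr⟩ := isPPart_ppt ht.out (⟨z, hz⟩ : D)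
    refine ⟨_, ?_, (y : G), y.2, (congrArg Subtype.val hy).symm, by rwa [Subgroup.orderOf_coe]⟩
    have hp : IsPGroup t ↥(Subgroup.zpowers ((ppt t (⟨z, hz⟩ : D) : D) : G)) :=
      IsPGroup.of_card (n := k) (by rw [Nat.card_zpowers, Subgroup.orderOf_coe, hk])
    obtain ⟨m, hm, hle⟩ := c.S_sylD.conj_le hp (Subgroup.zpowers_le.2 (ppt t (⟨z, hz⟩ : D)).2)
    rw [Fusion.cj_le_iff, Fusion.cj_eq_self (hSn (D.inv_mem hm))] at hle
    exact hle (Subgroup.mem_zpowers _)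
  obtain ⟨a, ha, y, hy, e, hyt⟩ := hsplit d hd
  refine ⟨a, ha, y, hy, e, hE y hy hyt, fun z hz => ?_⟩
  obtain ⟨b, hb, y', hy', rfl, hyt'⟩ := hsplit z hz
  have h2 : y * y' = y' * y :=
    congrArg Subtype.val (hab.is_comm.comm ⟨y, hy, hE y hy hyt⟩ ⟨y', hy', hE y' hy' hyt'⟩)
  rw [← mul_assoc, hcS y hy hyt b hb, mul_assoc, h2, mul_assoc]

/-- For abelian `S`, the subgroup `D` is abelian and lies in `E`. -/
theorem D_abelian (hab : IsMulCommutative ↥S) : D ≤ E ∧ ∀ a ∈ D, ∀ b ∈ D, a * b = b * a := by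
  have hS : ∀ a ∈ S, ∀ b ∈ S, a * b = b * a := fun a ha b hb =>
    congrArg Subtype.val (hab.is_comm.comm (⟨a, ha⟩ : S) ⟨b, hb⟩)
  refine ⟨fun d hd => ?_, fun a ha b hb => ?_⟩
  · obtain ⟨x, hx, y, hy, e, -, hyc⟩ := c.D_decompose hd
    subst e
    refine c.D_mem_E hd ?_
    rw [mul_assoc, hyc w c.w_D, ← mul_assoc, hS x hx w (c.conf.pre.A_S c.conf.pre.w_mem), mul_assoc]
  · obtain ⟨x, hx, y, hy, e, -, hyc⟩ := c.D_decompose ha
    obtain ⟨x', hx', y', hy', e', -, hyc'⟩ := c.D_decompose hb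
    subst e e'
    have h1 : Commute x x' := hS x hx x' hx'
    have h2 : Commute x y' := (hyc' x (c.S_D hx)).symm
    have h3 : Commute y (x' * y') := hyc _ hb
    exact ((h1.mul_right h2).mul_left h3).eq

/-- For abelian `S`, `C_Q(w)` centralises `D`. -/
theorem C_le_Q0 (hab : IsMulCommutative ↥S) : Q ⊓ E ≤ Subgroup.centralizer (D : Set G) := by
  have p := c.conf.pre
  have hAn := (c.A_normal_of_abelian hab).2
  have hchar : Q ⊓ E = Q ⊓ Subgroup.centralizer (A : Set G) :=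
    le_antisymm (le_inf inf_le_left (inf_le_right.trans c.E_cent)) fun x hx =>
      ⟨hx.1, c.mem_E.2 ⟨c.Q_le hx.1, (Subgroup.mem_centralizer_iff.1 hx.2 w p.w_mem).symm⟩⟩
  have hn : D ⊔ K ≤ Subgroup.normalizer ((Q ⊓ E : Subgroup G) : Set G) := fun g hg =>
    Fusion.mem_normalizer_of_cj_le (by
      rw [hchar, Fusion.cj_inf, Fusion.cj_centralizer, Fusion.cj_eq_self (c.spl.norm (c.DK_le hg)),
        Fusion.cj_eq_self (hAn hg)])
  obtain ⟨he, hlt, hCD, hQc⟩ := c.facts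
  have key := c.spl.formula p.minSimple p.coatomL c.conf.decomp c.q_prime (inf_le_left : Q ⊓ E ≤ Q) hn le_rfl
    c.conf.K_ne
  have e1 : (Q ⊓ E) ⊓ Subgroup.centralizer ((D ⊔ K : Subgroup G) : Set G) = ⊥ := by
    rw [eq_bot_iff, ← hCD]
    exact fun x hx => ⟨⟨c.Q_le hx.1.1, Subgroup.centralizer_le (le_sup_right : K ≤ D ⊔ K) hx.2⟩,
      Subgroup.centralizer_le (le_sup_left : D ≤ D ⊔ K) hx.2⟩
  have e2 : (Q ⊓ E) ⊓ Subgroup.centralizer (D : Set G) = Q ⊓ Subgroup.centralizer (D : Set G) :=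
    le_antisymm (inf_le_inf_right _ inf_le_left) (le_inf c.Q0_le inf_le_right)
  rw [e1, e2, Subgroup.card_bot, one_pow, one_mul] at key
  rcases Kappa.star_inf_cases c.q_prime (Q ⊓ E) with h | h
  · rw [h, Subgroup.card_bot, one_pow, one_mul] at key
    exact (Subgroup.eq_of_le_of_card_ge c.Q0_le key.le).ge.trans inf_le_right
  exfalso
  rw [inf_eq_right.2 h, mul_comm, ← hQc] at key
  have hQE : Q ⊓ E = Q := Subgroup.eq_of_le_of_card_ge inf_le_left key.ge
  haveI : IsCyclic ↥Q := by rw [← hQE]; exact c.C_cyclic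
  obtain ⟨g, hg⟩ := IsCyclic.exists_generator (α := ↥Q)
  obtain ⟨hΦ, hn0⟩ := c.spl.frattini_le p.minSimple p.coatomL c.conf.decomp c.conf.K_ne c.ne
  haveI : Fact (starCard L K).Prime := ⟨c.q_prime⟩
  set N := (Q ⊓ Subgroup.centralizer (D : Set G)).subgroupOf Q
  haveI : N.Normal := Subgroup.normal_subgroupOf_of_le_normalizer ((c.Q_le.trans c.conf.core_le).trans hn0)
  have hgq : g ^ starCard L K ∈ N :=
    hΦ ⟨_, Solv.pow_mem_frattini c.spl.syl.isPGroup g, rfl⟩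
  have hgen : ∀ x : ↥Q ⧸ N, x ∈ Subgroup.zpowers (QuotientGroup.mk' N g) := fun x => by
    obtain ⟨y, rfl⟩ := QuotientGroup.mk'_surjective N x
    obtain ⟨i, rfl⟩ := Subgroup.mem_zpowers_iff.1 (hg y)
    exact ⟨i, (map_zpow _ _ _).symm⟩
  have hle : N.index ≤ starCard L K := by
    rw [Subgroup.index_eq_card, ← orderOf_eq_card_of_forall_mem_zpowers hgen]
    exact Nat.le_of_dvd c.q_prime.pos (orderOf_dvd_of_pow_eq_one (by
      rw [← map_pow]; exact (QuotientGroup.eq_one_iff _).2 hgq))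
  have hcm := N.card_mul_index
  rw [Solv.card_subgroupOf inf_le_left, hQc] at hcm
  rw [Nat.eq_of_mul_eq_mul_left Nat.card_pos hcm] at hle
  exact absurd hle (not_le.2 (lt_of_eq_of_lt (pow_one _).symm (Nat.pow_lt_pow_right c.q_prime.one_lt he.one_lt)))

theorem derived_le_wQ (hab : IsMulCommutative ↥S) : ⁅sigmaCore L, sigmaCore L⁆ ≤ c.wQ := by
  refine Kappa.derived_le_of_mul (D := Q) (K := D) c.wQ_norm (c.wQ_le.trans c.Q_le) c.Q_le c.D_le
    (fun m hm => c.mul hm) (fun a ha b hb => ?_) (fun a ha b hb => ?_) fun a ha b hb => ?_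
  · rw [commutatorElement_eq_one_iff_mul_comm.2 (c.Q_comm a ha b hb)]; exact one_mem _
  · rw [commutatorElement_eq_one_iff_mul_comm.2 ((c.D_abelian hab).2 a ha b hb)]; exact one_mem _
  · obtain ⟨u, hu, v, hv, rfl⟩ := c.Q_split ha
    have hc : b * v = v * b := Subgroup.mem_centralizer_iff.1 (c.C_le_Q0 hab hv) b hb
    have e : ⁅u * v, b⁆ = u * (b * u⁻¹ * b⁻¹) := by
      rw [commutatorElement_def, mul_assoc u v b, ← hc]; group
    rw [e]
    exact c.wQ.mul_mem hu ((Subgroup.mem_normalizer_iff.1 (c.wQ_norm (c.D_le hb)) _).1 (c.wQ.inv_mem hu))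

theorem S_not_le (hna : ¬ IsMulCommutative ↥S) : ¬ S ≤ M := fun h => hna
  (TauTwo.pgroup_abelian c.conf.pre.minSimple c.conf.pre.coatomM c.conf.pre.setup.not_sigma
    c.conf.pre.syl.isPGroup h)

/-- For nonabelian `S`, `w` centralises `M_σ`. -/
theorem w_central (hna : ¬ IsMulCommutative ↥S) : sigmaCore M ≤ Subgroup.centralizer ({w} : Set G) := by
  have p := c.conf.pre
  obtain ⟨-, -, hall⟩ := TauTwo.nonabelian_case p.setup p.complM p.A_le p.tau fun S' hS' => hna (by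
    obtain ⟨g, -, rfl⟩ := (Fusion.sylIn_top S').conj_eq p.syl
    haveI := hS'
    exact Subgroup.map_isMulCommutative _ _)
  have he : Subgroup.zpowers w = A ⊓ Subgroup.centralizer (sigmaCore M : Set G) := by
    by_contra hne
    have h := (hall _ (Subgroup.zpowers_le.2 (p.A_le p.w_mem)) (by rw [Nat.card_zpowers, p.w_order]) hne).1
    rw [Sig.centralizer_zpowers] at h
    exact p.w_fix (h ▸ bot_le)
  intro y hy
  exact Subgroup.mem_centralizer_singleton_iff.2
    (Subgroup.mem_centralizer_iff.1 (he.le (Subgroup.mem_zpowers w)).2 y hy)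

theorem omz_central : omz t S ≤ D ⊓ Subgroup.centralizer (D : Set G) := fun z hz =>
  ⟨c.S_D hz.1, Subgroup.mem_centralizer_iff.2 fun d hd => by
    obtain ⟨a, ha, y, hy, e, -, hyc⟩ := c.D_decompose hd
    rw [e, mul_assoc, hyc z (c.S_D hz.1), ← mul_assoc, Subgroup.mem_centralizer_iff.1 hz.2.1 a ha, mul_assoc]⟩

/-- The index of the centre of `D`. -/
theorem center_index : ∃ k : ℕ, t ^ k * Nat.card ↥(D ⊓ Subgroup.centralizer (D : Set G)) = Nat.card D ∧
    t ∣ Nat.card ↥(D ⊓ Subgroup.centralizer (D : Set G)) := by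
  set Z := (D ⊓ Subgroup.centralizer (D : Set G)).subgroupOf D with hZ
  haveI : Z.Normal := Subgroup.normal_subgroupOf_of_le_normalizer fun g hg => Fusion.mem_normalizer_of_cj_le (by
    rintro _ ⟨z, hz, rfl⟩
    show g * z * g⁻¹ ∈ _
    rw [Subgroup.mem_centralizer_iff.1 hz.2 g hg, mul_inv_cancel_right]
    exact hz)
  have htop : S.subgroupOf D ⊔ Z = ⊤ := eq_top_iff.2 fun x _ => by
    obtain ⟨a, ha, y, hy, e, -, hyc⟩ := c.D_decompose x.2
    rw [show x = (⟨a, c.S_D ha⟩ : D) * ⟨y, hy⟩ from Subtype.ext e]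
    exact Subgroup.mul_mem_sup ha ⟨hy, Subgroup.mem_centralizer_iff.2 fun z hz => (hyc z hz).symm⟩
  have hdvd : Z.index ∣ Nat.card S := by
    rw [← Solv.card_subgroupOf c.S_D, ← Subgroup.relIndex_top_right, ← htop, Subgroup.relIndex_sup_right]
    exact Subgroup.relIndex_dvd_card _ _
  obtain ⟨i, hi⟩ := IsPGroup.iff_card.1 c.conf.pre.syl.isPGroup
  rw [hi] at hdvd
  obtain ⟨k, -, hk⟩ := (Nat.dvd_prime_pow ht.out).1 hdvd
  refine ⟨k, by rw [← hk, ← Solv.card_subgroupOf (inf_le_left : D ⊓ Subgroup.centralizer (D : Set G) ≤ D), mul_comm,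
    Subgroup.card_mul_index], ?_⟩
  have hne : omz t S ≠ ⊥ := RankTwo.omz_ne_bot c.conf.pre.syl.isPGroup fun h =>
    c.conf.pre.setup.ne_bot (le_bot_iff.1 (h ▸ c.conf.pre.A_S))
  obtain ⟨z, hz, hz1⟩ := (omz t S).bot_or_exists_ne_one.resolve_left hne
  exact (orderOf_eq_prime hz.2.2 hz1).symm.dvd.trans (Subgroup.orderOf_dvd_natCard _ (c.omz_central hz))

theorem cube_le_D (hna : ¬ IsMulCommutative ↥S) : t ^ 3 ≤ Nat.card D := by
  obtain ⟨i, hi⟩ := IsPGroup.iff_card.1 c.conf.pre.syl.isPGroup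
  by_contra h
  push Not at h
  have hle : Nat.card S ≤ Nat.card D := Nat.le_of_dvd Nat.card_pos (Subgroup.card_dvd_of_le c.S_D)
  have hi3 : i < 3 := (Nat.pow_lt_pow_iff_right ht.out.one_lt).1 (hi ▸ lt_of_le_of_lt hle h)
  have h2 : 2 ≤ i := by
    have h' := Nat.le_of_dvd Nat.card_pos (Subgroup.card_dvd_of_le c.conf.pre.A_S)
    rw [c.conf.pre.setup.card, hi] at h'
    exact (Nat.pow_le_pow_iff_right ht.out.one_lt).1 h'
  obtain rfl : i = 2 := by omega
  exact hna ⟨⟨IsPGroup.commutative_of_card_eq_prime_sq hi⟩⟩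

theorem sup_normal {X : Subgroup G} (hX : X ≤ D ⊓ Subgroup.centralizer (D : Set G)) :
    sigmaCore L ≤ Subgroup.normalizer ((Q ⊔ X : Subgroup G) : Set G) := fun g hg => by
  obtain ⟨y, hy, d, hd, rfl⟩ := c.mul hg
  refine Fusion.mem_normalizer_of_cj_le ?_
  rw [Fusion.cj_sup, Fusion.cj_eq_self (c.Q_norm ((sigmaCore L).mul_mem (c.Q_le hy) (c.D_le hd)))]
  refine sup_le le_sup_left ?_
  rintro _ ⟨z, hz, rfl⟩
  show y * d * z * (y * d)⁻¹ ∈ Q ⊔ X
  rw [show y * d * z * (y * d)⁻¹ = y * (d * z * d⁻¹ * y⁻¹ * (d * z * d⁻¹)⁻¹) * (d * z * d⁻¹) by group,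
    Subgroup.mem_centralizer_iff.1 (hX hz).2 d hd, mul_inv_cancel_right]
  exact Subgroup.mul_mem_sup (Q.mul_mem hy
    ((Subgroup.mem_normalizer_iff.1 (c.Q_norm (c.D_le (hX hz).1)) _).1 (Q.inv_mem hy))) hz

theorem card_sup {X : Subgroup G} (hX : X ≤ D) :
    (Q ⊔ X).relIndex (sigmaCore L) * Nat.card X = Nat.card D := by
  have h := Solv.card_sup_mul_card_inf' Q X ((hX.trans c.D_le).trans c.Q_norm)
  have hi : Q ⊓ X = ⊥ := le_bot_iff.1 ((inf_le_inf_left Q hX).trans c.Q_D.le)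
  rw [hi, Subgroup.card_bot, mul_one] at h
  have h2 := ((Q ⊔ X).subgroupOf (sigmaCore L)).card_mul_index
  rw [Solv.card_subgroupOf (sup_le c.Q_le (hX.trans c.D_le)), h, ← c.card_mul, mul_assoc] at h2
  rw [mul_comm]
  exact Nat.eq_of_mul_eq_mul_left Nat.card_pos h2

end SConf

end Group

section Characters

variable {G : Type u} [Group G] [Fintype G] {t : ℕ} [ht : Fact t.Prime] {M L A E S K Q D H₁ : Subgroup G} {w : G}

/-- The inclusion of `L_σ`. -/
abbrev coreInc (L : Subgroup G) : ↥((sigmaCore L).subgroupOf L) →* G :=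
  L.subtype.comp ((sigmaCore L).subgroupOf L).subtype

theorem coreInc_range (L : Subgroup G) : (coreInc L).range = sigmaCore L := by
  rw [coreInc, MonoidHom.range_comp, Subgroup.range_subtype, Subgroup.subgroupOf_map_subtype,
    inf_eq_left.2 (show sigmaCore L ≤ L from Subgroup.map_subtype_le _)]

theorem coreInc_normal {L X : Subgroup G} (h : sigmaCore L ≤ Subgroup.normalizer (X : Set G)) :
    (X.comap (coreInc L)).Normal := ⟨fun n hn g => by
  rw [Subgroup.mem_comap, map_mul, map_mul, map_inv]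
  exact (Subgroup.mem_normalizer_iff.1 (h (Subgroup.mem_subgroupOf.1 g.2)) _).1 hn⟩

theorem coreInc_index {L : Subgroup G} (X : Subgroup G) :
    (X.comap (coreInc L)).index = X.relIndex (sigmaCore L) := by rw [Subgroup.index_comap, coreInc_range]

theorem coreInc_relIndex {L : Subgroup G} (X : Subgroup G) :
    (X.subgroupOf L).relIndex ((sigmaCore L).subgroupOf L) = X.relIndex (sigmaCore L) := by
  rw [← coreInc_index]; rfl

namespace SConf

variable (c : SConf t M L A E S w K Q D H₁) [Fintype L] [Fintype ↥((sigmaCore L).subgroupOf L)]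
include c

theorem relIndex_Q : (Q.subgroupOf L).relIndex ((sigmaCore L).subgroupOf L) = Nat.card D := by
  have h := c.card_sup (bot_le (a := D))
  rw [sup_bot_eq, Subgroup.card_bot, mul_one] at h
  rw [← h, coreInc_relIndex]

/-- The degrees of the characters of `L_σ` trivial on `Q`. -/
theorem deg_facts (θ : IrrCharacter ↥((sigmaCore L).subgroupOf L))
    (hθ : ∀ x : ↥((sigmaCore L).subgroupOf L), ((x : L) : G) ∈ Q →
      (θ : ↥((sigmaCore L).subgroupOf L) → ℂ) x = (θ : ↥((sigmaCore L).subgroupOf L) → ℂ) 1) :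
    ∃ j : ℕ, deg (θ : ↥((sigmaCore L).subgroupOf L) → ℂ) = t ^ j ∧ t ^ (2 * j + 1) ∣ Nat.card D := by
  set Z := D ⊓ Subgroup.centralizer (D : Set G) with hZ
  obtain ⟨k, hk, htZ⟩ := c.center_index
  haveI := coreInc_normal (c.Q_norm)
  haveI := coreInc_normal (c.sup_normal (le_refl Z))
  have hidx : ((Q ⊔ Z).comap (coreInc L)).index = t ^ k := by
    rw [coreInc_index]
    exact Nat.eq_of_mul_eq_mul_right Nat.card_pos ((c.card_sup (inf_le_left : Z ≤ D)).trans hk.symm)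
  have hZn : Z ≤ Subgroup.normalizer (Q : Set G) := (inf_le_left.trans c.D_le).trans c.Q_norm
  have hkey : ∀ a ∈ Q ⊔ Z, ∀ g ∈ sigmaCore L, a * g * a⁻¹ * g⁻¹ ∈ Q := by
    intro a ha g hg
    rw [← SetLike.mem_coe, Subgroup.coe_mul_of_right_le_normalizer_left _ _ hZn] at ha
    obtain ⟨y, hy, z, hz, rfl⟩ := ha
    obtain ⟨y', hy', d, hd, rfl⟩ := c.mul hg
    have hzd : z * d = d * z := (Subgroup.mem_centralizer_iff.1 hz.2 d hd).symm
    have h1 : z * y' * z⁻¹ ∈ Q := (Subgroup.mem_normalizer_iff.1 (hZn hz) y').1 hy'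
    have h2 : d * y⁻¹ * d⁻¹ ∈ Q := (Subgroup.mem_normalizer_iff.1 (c.Q_norm (c.D_le hd)) _).1 (Q.inv_mem hy)
    show y * z * (y' * d) * (y * z)⁻¹ * (y' * d)⁻¹ ∈ Q
    rw [show y * z * (y' * d) * (y * z)⁻¹ * (y' * d)⁻¹ = y * (z * y' * z⁻¹) * (z * d * z⁻¹ * y⁻¹ * d⁻¹) * y'⁻¹ by
      group, hzd, mul_inv_cancel_right]
    exact Q.mul_mem (Q.mul_mem (Q.mul_mem hy h1) h2) (Q.inv_mem hy')
  have hcen : ∀ a ∈ (Q ⊔ Z).comap (coreInc L), ∀ g : ↥((sigmaCore L).subgroupOf L),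
      a * g * a⁻¹ * g⁻¹ ∈ Q.comap (coreInc L) := fun a ha g => by
    rw [Subgroup.mem_comap, map_mul, map_mul, map_mul, map_inv, map_inv]
    exact hkey _ ha _ g.2
  have hd := deg_dvd_index_mod θ (Q.comap (coreInc L)) (fun x hx => hθ x hx) ((Q ⊔ Z).comap (coreInc L))
    (Subgroup.comap_mono le_sup_left) fun a ha b _ => by rw [commutatorElement_def]; exact hcen a ha b
  rw [hidx] at hd
  obtain ⟨j, -, hj⟩ := (Nat.dvd_prime_pow ht.out).1 hd
  refine ⟨j, hj, ?_⟩
  have hsq := sq_deg_le_index_mod θ (Q.comap (coreInc L)) _ (fun x hx => hθ x hx) hcen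
  rw [hidx, hj, ← pow_mul, mul_comm, Nat.pow_le_pow_iff_right ht.out.one_lt] at hsq
  rw [← hk, pow_succ, pow_mul]
  exact mul_dvd_mul (by rw [← pow_mul]; exact pow_dvd_pow t hsq) htZ

/-- A nontrivial character trivial on `Q` induces irreducibly. -/
theorem irr_of_trivial (θ : IrrCharacter ↥((sigmaCore L).subgroupOf L))
    (hθ : ∀ x : ↥((sigmaCore L).subgroupOf L), ((x : L) : G) ∈ Q →
      (θ : ↥((sigmaCore L).subgroupOf L) → ℂ) x = (θ : ↥((sigmaCore L).subgroupOf L) → ℂ) 1)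
    (hθ1 : (θ : ↥((sigmaCore L).subgroupOf L) → ℂ) ≠ fun _ => 1) :
    IsIrrCharacter L (indFun ((sigmaCore L).subgroupOf L) (θ : ↥((sigmaCore L).subgroupOf L) → ℂ)) := by
  classical
  by_contra hred
  haveI := c.conf.normal
  haveI hNn := coreInc_normal c.Q_norm
  obtain ⟨k, hk, hk1⟩ := K.bot_or_exists_ne_one.resolve_left c.conf.K_ne
  set kL : L := ⟨k, c.conf.K_le hk⟩
  set N := Q.comap (coreInc L) with hN
  set α : MulAut ↥((sigmaCore L).subgroupOf L) := MulAut.conjNormal kL with hα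
  have hfix := c.conf.fixed_of_reducible θ hred kL
  have hval : ∀ x, coreInc L (α x) = k * coreInc L x * k⁻¹ := fun x => by
    show ((α x : L) : G) = _
    rw [hα, MulAut.conjNormal_apply]
    rfl
  have hmap : N.map α.toMonoidHom = N := by
    have hQk : k ∈ Subgroup.normalizer (Q : Set G) := c.spl.norm (c.conf.K_le hk)
    ext x
    rw [Subgroup.mem_map_equiv, hN, Subgroup.mem_comap, Subgroup.mem_comap]
    have h := hval (α.symm x)
    rw [show α (α.symm x) = x from α.apply_symm_apply x] at h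
    rw [h]
    exact (Subgroup.mem_normalizer_iff.1 hQk _)
  haveI : Fintype (↥((sigmaCore L).subgroupOf L) ⧸ N) := Fintype.ofFinite _
  let β : MulAut (↥((sigmaCore L).subgroupOf L) ⧸ N) := QuotientGroup.congr N N α hmap
  have hβ : ∀ x, β (QuotientGroup.mk x) = QuotientGroup.mk (α x) := fun x => rfl
  obtain ⟨θ', hθ'⟩ := exists_deflate N θ.2 (fun x hx => hθ x hx)
  have hfix' : irrComp β θ' = θ' := Subtype.ext (funext fun y => by
    obtain ⟨x, rfl⟩ := QuotientGroup.mk_surjective y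
    rw [irrComp_apply, hβ, hθ', hθ']
    have h := congrFun (congrArg Subtype.val hfix) x
    rwa [irrComp_apply] at h)
  have hcls : ∀ y : ↥((sigmaCore L).subgroupOf L) ⧸ N, IsConj (β y) y → y = 1 := by
    intro y hy
    obtain ⟨x, rfl⟩ := QuotientGroup.mk_surjective y
    obtain ⟨h, hh⟩ := isConj_iff.1 hy
    obtain ⟨h, rfl⟩ := QuotientGroup.mk_surjective h
    rw [hβ, ← QuotientGroup.mk_inv, ← QuotientGroup.mk_mul, ← QuotientGroup.mk_mul, QuotientGroup.eq] at hh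
    rw [hN, Subgroup.mem_comap, map_mul, map_inv, map_mul, map_mul, map_inv, hval] at hh
    rw [QuotientGroup.eq_one_iff, hN, Subgroup.mem_comap]
    obtain ⟨y1, hy1, d, hd, ex⟩ := c.mul (Subgroup.mem_subgroupOf.1 x.2)
    obtain ⟨y2, hy2, e, he, eh⟩ := c.mul (Subgroup.mem_subgroupOf.1 h.2)
    change coreInc L x = y1 * d at ex
    change coreInc L h = y2 * e at eh
    rw [ex, eh] at hh
    -- reduce modulo `Q`
    have hkD : k * d * k⁻¹ ∈ D := (Subgroup.mem_normalizer_iff.1 (c.spl.invariant hk) d).1 hd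
    have hDQ : D ≤ Subgroup.normalizer (Q : Set G) := c.D_le.trans c.Q_norm
    have hkQ : k ∈ Subgroup.normalizer (Q : Set G) := c.spl.norm (c.conf.K_le hk)
    have hkey : e * (k * d * k⁻¹) * e⁻¹ = d := by
      have hmem : ∀ {g z : G}, g ∈ Subgroup.normalizer (Q : Set G) → z ∈ Q → g * z * g⁻¹ ∈ Q :=
        fun hg hz => (Subgroup.mem_normalizer_iff.1 hg _).1 hz
      have h1 : y2 * (e * (k * y1 * k⁻¹) * e⁻¹) ∈ Q := Q.mul_mem hy2 (hmem (hDQ he) (hmem hkQ hy1))
      set a := e * (k * d * k⁻¹) * e⁻¹ with ha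
      have haD : a ∈ D := D.mul_mem (D.mul_mem he hkD) (D.inv_mem he)
      have h2 : a * y2⁻¹ * a⁻¹ ∈ Q := hmem (hDQ haD) (Q.inv_mem hy2)
      have eA : y2 * e * (k * (y1 * d) * k⁻¹) * (y2 * e)⁻¹ =
          y2 * (e * (k * y1 * k⁻¹) * e⁻¹) * (a * y2⁻¹ * a⁻¹) * a := by rw [ha]; group
      rw [eA] at hh
      set q' := y2 * (e * (k * y1 * k⁻¹) * e⁻¹) * (a * y2⁻¹ * a⁻¹) with hq'
      have hq'Q : q' ∈ Q := Q.mul_mem h1 h2
      have h3 : (a⁻¹ * (q'⁻¹ * y1) * a⁻¹⁻¹) * (a⁻¹ * d) ∈ Q := by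
        rw [show (a⁻¹ * (q'⁻¹ * y1) * a⁻¹⁻¹) * (a⁻¹ * d) = (q' * a)⁻¹ * (y1 * d) by group]
        exact hh
      have h4 : a⁻¹ * (q'⁻¹ * y1) * a⁻¹⁻¹ ∈ Q :=
        hmem (hDQ (D.inv_mem haD)) (Q.mul_mem (Q.inv_mem hq'Q) hy1)
      exact inv_mul_eq_one.1 (c.eq_one ((Q.mul_mem_cancel_left h4).1 h3) (D.mul_mem (D.inv_mem haD) hd))
    have hd1 : d = 1 := by
      let f : ↥D → ↥D := fun z => ⟨z * (k * (z : G)⁻¹ * k⁻¹),
        D.mul_mem z.2 ((Subgroup.mem_normalizer_iff.1 (c.spl.invariant hk) _).1 (D.inv_mem z.2))⟩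
      have hf : Function.Injective f := fun a b e' => by
        have e'' : (a : G) * (k * (a : G)⁻¹ * k⁻¹) = b * (k * (b : G)⁻¹ * k⁻¹) := congrArg Subtype.val e'
        have hc : k * ((b : G)⁻¹ * a) = (b : G)⁻¹ * a * k := by
          calc k * ((b : G)⁻¹ * a) = (b : G)⁻¹ * ((b : G) * (k * (b : G)⁻¹ * k⁻¹)) * (k * a) := by group
            _ = (b : G)⁻¹ * a * k := by rw [← e'']; group
        exact Subtype.ext (inv_mul_eq_one.1 (c.free hk hk1 (D.mul_mem (D.inv_mem b.2) a.2) hc)).symm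
      obtain ⟨z, hz⟩ := (Finite.injective_iff_bijective.1 hf).2 ⟨e, he⟩
      have hz' : (z : G) * (k * (z : G)⁻¹ * k⁻¹) = e := congrArg Subtype.val hz
      rw [← hz'] at hkey
      have hc : k * ((z : G)⁻¹ * d * z) = (z : G)⁻¹ * d * z * k := by
        have h6 : (z : G) * k * ((z : G)⁻¹ * d * z) * k⁻¹ * (z : G)⁻¹ = d := by
          rw [← hkey.trans rfl]
          conv_rhs => rw [← hkey]
          group
        calc k * ((z : G)⁻¹ * d * z) = (z : G)⁻¹ * ((z : G) * k * ((z : G)⁻¹ * d * z) * k⁻¹ * (z : G)⁻¹) * z * k := by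
              group
          _ = _ := by rw [h6]
      have h7 := c.free hk hk1 (D.mul_mem (D.mul_mem (D.inv_mem z.2) hd) z.2) hc
      calc d = (z : G) * ((z : G)⁻¹ * d * z) * (z : G)⁻¹ := by group
        _ = 1 := by rw [h7]; group
    rw [ex, hd1, mul_one]
    exact hy1
  have hcount := card_fixed_irr_eq_card_fixed_classes β
  have h1 : Nat.card {C : ConjClasses (↥((sigmaCore L).subgroupOf L) ⧸ N) //
      ConjClasses.map β.toMonoidHom C = C} ≤ 1 := by
    refine Finite.card_le_one_iff_subsingleton.2 ⟨fun a b => Subtype.ext ?_⟩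
    have key : ∀ C : {C : ConjClasses (↥((sigmaCore L).subgroupOf L) ⧸ N) //
        ConjClasses.map β.toMonoidHom C = C}, C.1 = ConjClasses.mk 1 := by
      rintro ⟨C, hC⟩
      obtain ⟨y, rfl⟩ := ConjClasses.mk_surjective C
      exact congrArg ConjClasses.mk (hcls y (ConjClasses.mk_eq_mk_iff_isConj.1 hC))
    rw [key a, key b]
  rw [← hcount, Finite.card_le_one_iff_subsingleton] at h1
  let one : IrrCharacter (↥((sigmaCore L).subgroupOf L) ⧸ N) := ⟨_, isIrrCharacter_one⟩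
  have e0 := h1.elim ⟨θ', hfix'⟩ ⟨one, Subtype.ext (funext fun n => by rw [irrComp_apply])⟩
  have e := congrArg (fun t => t.1.1) e0
  refine hθ1 (funext fun x => ?_)
  rw [← hθ' x]
  exact congrFun e _

/-- The abelian case. -/
theorem false_of_abelian (hab : IsMulCommutative ↥S) : False := by
  classical
  have F := c.conf.kernel
  haveI := c.conf.normal
  have hder := c.derived_le_wQ hab
  have heq : c.wQ = ⁅sigmaCore L, sigmaCore L⁆ := le_antisymm c.wQ_le_derived hder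
  obtain ⟨χ, ε, μ, hcoh, hχ1, hχc⟩ := F.exists_base (c.wQ.subgroupOf L)
  haveI : (c.wQ.subgroupOf L).Normal := Subgroup.normal_subgroupOf_of_le_normalizer fun g hg =>
    Fusion.mem_normalizer_of_cj_le (by
      rw [heq, cj, Subgroup.map_commutator]
      exact le_of_eq (by rw [show (sigmaCore L).map (MulAut.conj g).toMonoidHom = sigmaCore L from
        Fusion.cj_eq_self (Sig.le_normalizer_piCoreOf hg)]))
  have hlin : ∀ θ : IrrCharacter ↥((sigmaCore L).subgroupOf L),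
      (∀ x : ↥((sigmaCore L).subgroupOf L), (x : L) ∈ c.wQ.subgroupOf L →
        (θ : ↥((sigmaCore L).subgroupOf L) → ℂ) x = (θ : ↥((sigmaCore L).subgroupOf L) → ℂ) 1) →
      deg (θ : ↥((sigmaCore L).subgroupOf L) → ℂ) = 1 := fun θ hθ =>
    Kernel.deg_one_of_derived (c.wQ.subgroupOf L) (fun x y => Subgroup.mem_subgroupOf.2
      (hder (Subgroup.commutator_mem_commutator x.2 y.2))) θ hθ
  refine (c.conf.config c.bound (c.wQ_le.trans c.Q_le) c.wQ_norm c.wQ_class c.count c.w_sep).false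
    (c.conf.data_of_coh hcoh hχ1 hχc c.wQ_le_derived ?_ fun _ => ?_)
  · exact fun θ hθ1 hθ0 hθ => absurd (F.indFun_mem_of_linear _ 1 θ hθ1 (hlin θ hθ0)) hθ
  · obtain ⟨T, hT, -, hw⟩ := F.fam_weight (c.wQ.subgroupOf L) hcoh.mem (fun θ hk _ => (hlin θ hk).le) (D := 0)
      (fun θ hk h1 h2 => absurd (F.linear θ h1 (hlin θ hk)) h2) (r := 0) (by
        haveI : IsEmpty {θ : IrrCharacter ↥((sigmaCore L).subgroupOf L) //
            (θ : ↥((sigmaCore L).subgroupOf L) → ℂ) ≠ (fun _ => 1) ∧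
            (∀ x : ↥((sigmaCore L).subgroupOf L), (x : L) ∈ c.wQ.subgroupOf L →
              (θ : ↥((sigmaCore L).subgroupOf L) → ℂ) x = (θ : ↥((sigmaCore L).subgroupOf L) → ℂ) 1) ∧
            ¬ IsIrrCharacter L (indFun _ (θ : ↥((sigmaCore L).subgroupOf L) → ℂ))} :=
          ⟨fun θ => θ.2.2.2 (F.linear θ.1 θ.2.1 (hlin θ.1 θ.2.2.1))⟩
        rw [Nat.card_of_isEmpty])
    refine ⟨T, hT, ?_⟩
    rw [c.conf.coreIndex_eq, ← c.conf.index_eq]
    refine le_trans ?_ (le_of_le_of_eq hw (by ring))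
    rw [coreInc_relIndex]
    have h := (c.wQ.subgroupOf (sigmaCore L)).card_mul_index
    rw [Solv.card_subgroupOf (c.wQ_le.trans c.Q_le)] at h
    refine Nat.le_of_mul_le_mul_left ?_ (Nat.card_pos (α := c.wQ))
    rw [mul_comm]
    exact c.count.trans h.ge

omit c in
theorem weight_arith {s e N dd X : ℕ} (he1 : 1 ≤ e) (hs : 2 * e ≤ s) (hd : (1 + s) * dd ≤ X) (hX : X ≤ e * N + 1)
    (h3 : (1 + s) ^ 3 ≤ X) : 2 * dd + e < N := by
  refine Nat.lt_of_mul_lt_mul_left (a := e) ?_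
  have h1 : 2 * e * dd ≤ s * dd := Nat.mul_le_mul_right _ hs
  have h2 : 2 * e * (2 * e) ≤ s * s := Nat.mul_le_mul hs hs
  have h4 : (1 + s) * (2 * e * dd) ≤ s * X := by
    have := Nat.mul_le_mul_left s hd
    nlinarith
  nlinarith

/-- The nonabelian case. -/
theorem false_of_nonabelian (hna : ¬ IsMulCommutative ↥S) : False := by
  classical
  have F := c.conf.kernel
  haveI := c.conf.normal
  have p := c.conf.pre
  haveI : (Q.subgroupOf L).Normal := Subgroup.normal_subgroupOf_of_le_normalizer c.spl.norm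
  set e := Nat.card K with he
  have h2t := ht.out.two_le
  have he3 : 3 ≤ e := c.conf.three_le
  have hstep : 2 * e ≤ t - 1 := by
    obtain ⟨k, hk⟩ := c.conf.odd_K
    have hodd := (Nat.Prime.eq_two_or_odd ht.out).resolve_left p.setup.ne_two
    obtain ⟨q, hq⟩ := c.bound_line hna
    rw [← he] at hq
    rcases q with _ | _ | q
    · omega
    · omega
    · have := Nat.mul_le_mul_left e (show 2 ≤ q + 1 + 1 by omega)
      omega
  have hrel := c.relIndex_Q
  have hidx : ((sigmaCore L).subgroupOf L).index = e := c.conf.index_eq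
  have hker : ∀ θ : IrrCharacter ↥((sigmaCore L).subgroupOf L),
      (∀ x : ↥((sigmaCore L).subgroupOf L), (x : L) ∈ Q.subgroupOf L →
        (θ : ↥((sigmaCore L).subgroupOf L) → ℂ) x = (θ : ↥((sigmaCore L).subgroupOf L) → ℂ) 1) →
      (∀ x : ↥((sigmaCore L).subgroupOf L), ((x : L) : G) ∈ Q →
        (θ : ↥((sigmaCore L).subgroupOf L) → ℂ) x = (θ : ↥((sigmaCore L).subgroupOf L) → ℂ) 1) :=
    fun θ h x hx => h x (Subgroup.mem_subgroupOf.2 hx)
  have hempty : Nat.card {θ : IrrCharacter ↥((sigmaCore L).subgroupOf L) //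
      (θ : ↥((sigmaCore L).subgroupOf L) → ℂ) ≠ (fun _ => 1) ∧
      (∀ x : ↥((sigmaCore L).subgroupOf L), (x : L) ∈ Q.subgroupOf L →
        (θ : ↥((sigmaCore L).subgroupOf L) → ℂ) x = (θ : ↥((sigmaCore L).subgroupOf L) → ℂ) 1) ∧
      ¬ IsIrrCharacter L (indFun _ (θ : ↥((sigmaCore L).subgroupOf L) → ℂ))} ≤ 0 := by
    haveI : IsEmpty {θ : IrrCharacter ↥((sigmaCore L).subgroupOf L) //
        (θ : ↥((sigmaCore L).subgroupOf L) → ℂ) ≠ (fun _ => 1) ∧
        (∀ x : ↥((sigmaCore L).subgroupOf L), (x : L) ∈ Q.subgroupOf L →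
          (θ : ↥((sigmaCore L).subgroupOf L) → ℂ) x = (θ : ↥((sigmaCore L).subgroupOf L) → ℂ) 1) ∧
        ¬ IsIrrCharacter L (indFun _ (θ : ↥((sigmaCore L).subgroupOf L) → ℂ))} :=
      ⟨fun θ => θ.2.2.2 (c.irr_of_trivial θ.1 (hker θ.1 θ.2.2.1) θ.2.1)⟩
    rw [Nat.card_of_isEmpty]
  obtain ⟨χ, ε, μ₀, hχ1, hχc, hall⟩ := F.exists_chain ht.out (Q.subgroupOf L)
    (fun θ hθ => by rw [hrel]; exact c.deg_facts θ (hker θ hθ)) (hempty.trans (Nat.zero_le _))
    (by rw [hidx]; exact hstep)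
  obtain ⟨μ, hcoh, -⟩ := hall (Nat.card D)
  have hDb : ∀ θ : IrrCharacter ↥((sigmaCore L).subgroupOf L),
      (∀ x : ↥((sigmaCore L).subgroupOf L), (x : L) ∈ Q.subgroupOf L →
        (θ : ↥((sigmaCore L).subgroupOf L) → ℂ) x = (θ : ↥((sigmaCore L).subgroupOf L) → ℂ) 1) →
      deg (θ : ↥((sigmaCore L).subgroupOf L) → ℂ) ≤ t ^ Nat.card D := fun θ hθ => by
    obtain ⟨j, hj, hjd⟩ := c.deg_facts θ (hker θ hθ)
    rw [hj]
    refine Nat.pow_le_pow_right ht.out.pos ?_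
    have := Nat.le_of_dvd Nat.card_pos hjd
    have := Nat.lt_pow_self (n := 2 * j + 1) ht.out.one_lt
    omega
  refine (c.conf.config c.bound (c.wQ_le.trans c.Q_le) c.wQ_norm c.wQ_class c.count c.w_sep).false
    (c.conf.data_of_coh hcoh hχ1 hχc c.wQ_le_derived ?_ fun h => absurd (c.w_central hna) h)
  intro θ hθ1 hθ0 hθ
  obtain ⟨T, hT, hχT, hw⟩ := F.fam_weight (Q.subgroupOf L) hcoh.mem (fun θ hk _ => hDb θ hk) (D := 0)
    (fun θ hk h1 h2 => absurd (c.irr_of_trivial θ (hker θ hk) h1) h2) hempty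
  rw [hrel, hidx] at hw
  refine F.rel_not_mem hcoh hχ1 hT hχT θ hθ ?_
  rw [hidx]
  obtain ⟨hzA, hzc⟩ := TauTwo.central_line p.setup p.syl p.A_S (c.S_not_le hna)
  set Z := omz t S with hZ
  haveI := coreInc_normal c.wQ_norm
  haveI := coreInc_normal (c.sup_normal c.omz_central)
  have hZn : Z ≤ Subgroup.normalizer (Q : Set G) := ((c.omz_central.trans inf_le_left).trans c.D_le).trans c.Q_norm
  have hd := deg_dvd_index_mod θ (c.wQ.comap (coreInc L)) (fun x hx => hθ0 x hx)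
    ((Q ⊔ Z).comap (coreInc L)) (Subgroup.comap_mono (c.wQ_le.trans le_sup_left)) (fun a ha b hb => by
    have hdec : ∀ a ∈ (Q ⊔ Z).comap (coreInc L), ∃ v ∈ Q ⊓ E, ∃ z ∈ Z, ∃ u ∈ c.wQ, coreInc L a = u * (v * z) := by
      intro a ha
      rw [Subgroup.mem_comap, ← SetLike.mem_coe, Subgroup.coe_mul_of_right_le_normalizer_left _ _ hZn] at ha
      obtain ⟨y, hy, z, hz, e⟩ := ha
      obtain ⟨u, hu, v, hv, rfl⟩ := c.Q_split hy
      exact ⟨v, hv, z, hz, u, hu, e.symm.trans (mul_assoc _ _ _)⟩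
    obtain ⟨v, hv, z, hz, u, hu, e1⟩ := hdec a ha
    obtain ⟨v', hv', z', hz', u', hu', e2⟩ := hdec b hb
    have hvz : ∀ v ∈ Q ⊓ E, ∀ z ∈ Z, Commute v z := fun v hv z hz =>
      (Subgroup.mem_centralizer_iff.1 (c.E_cent hv.2) z (hzA hz)).symm
    have hvv : Commute v v' := congrArg Subtype.val (c.C_abelian.is_comm.comm ⟨v, hv⟩ ⟨v', hv'⟩)
    have hzz : Commute z z' := (Subgroup.mem_centralizer_iff.1 hz'.2.1 z hz.1)
    have hcomm : Commute (v * z) (v' * z') :=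
      (hvv.mul_right (hvz v hv z' hz')).mul_left ((hvz v' hv' z hz).symm.mul_right hzz)
    have hWn : ∀ {g : G}, g ∈ Q ⊔ Z → g ∈ Subgroup.normalizer (c.wQ : Set G) := fun hg =>
      c.wQ_norm (sup_le c.Q_le ((c.omz_central.trans inf_le_left).trans c.D_le) hg)
    rw [Subgroup.mem_comap, map_commutatorElement, e1, e2]
    set x := v * z with hx
    set x' := v' * z' with hx'
    have hxm : x ∈ Subgroup.normalizer (c.wQ : Set G) := hWn (Subgroup.mul_mem_sup hv.1 hz)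
    have hxm' : x' ∈ Subgroup.normalizer (c.wQ : Set G) := hWn (Subgroup.mul_mem_sup hv'.1 hz')
    rw [show ⁅u * x, u' * x'⁆ = u * (x * u' * x⁻¹) * (x * x' * x⁻¹ * u⁻¹ * (x * x' * x⁻¹)⁻¹) * (x * x' * x⁻¹ * x'⁻¹) * u'⁻¹ by
        rw [commutatorElement_def]; group,
      hcomm.eq, mul_inv_cancel_right, mul_inv_cancel, mul_one]
    exact c.wQ.mul_mem (c.wQ.mul_mem (c.wQ.mul_mem hu ((Subgroup.mem_normalizer_iff.1 hxm u').1 hu'))
      ((Subgroup.mem_normalizer_iff.1 hxm' _).1 (c.wQ.inv_mem hu))) (c.wQ.inv_mem hu'))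
  rw [coreInc_index] at hd
  have hle : t * deg (θ : ↥((sigmaCore L).subgroupOf L) → ℂ) ≤ Nat.card D := by
    rw [← c.card_sup ((c.omz_central).trans inf_le_left), hzc, mul_comm t]
    exact Nat.mul_le_mul_right _ (Nat.le_of_dvd (Nat.pos_of_ne_zero Subgroup.index_ne_zero_of_finite) hd)
  obtain ⟨s, hs⟩ := Nat.exists_eq_add_of_le (show 1 ≤ t by omega)
  have h3 := c.cube_le_D hna
  subst hs
  exact weight_arith (e := e) (s := s) (by omega) (by omega) hle (hw.trans (by omega)) h3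

end SConf

end Characters

/-- The non-nilpotent case is impossible. -/
theorem KConf.false_of_not_nilpotent {G : Type u} [Group G] [Fintype G] {t : ℕ} [Fact t.Prime]
    {M L A E S K : Subgroup G} {w : G} (c : KConf t M L A E S w K)
    (hnil : ¬ Group.IsNilpotent ↥(sigmaCore L)) : False := by
  obtain ⟨K', Q, D, H₁, d⟩ := exists_sconf c hnil
  haveI : Fintype L := Fintype.ofFinite L
  haveI : Fintype ↥((sigmaCore L).subgroupOf L) := Fintype.ofFinite _
  by_cases h : IsMulCommutative ↥S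
  · exact d.false_of_abelian h
  · exact d.false_of_nonabelian h

end Cfsg.Agent.OddChar
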