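import Cfsg.Agent.Lib.OddChar.FittingMeetBase

/-!
The structure of a maximal subgroup whose Fitting subgroup meets a conjugate.
-/

set_option autoImplicit false
set_option linter.style.haveILetI false

namespace Cfsg.Agent.OddLocal.Kappa

open scoped Pointwise commutatorElement
open Cfsg
open Cfsg.Agent.Fusion (SylIn cj cj_eq_self cj_mono card_cj exists_sylIn exists_sylIn_ge)
open Cfsg.Agent.OddLocal.Uniq
open Cfsg.Agent.OddLocal.Sig
open Cfsg.Agent.OddLocal.RankTwo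
open Cfsg.Agent.OddLocal.TauTwo
open Cfsg.Agent.OddLocal.Prime
open Cfsg.Agent.OddLocal.Disjoint (mem_centralizer_zpowers zpowers_card)

universe u

variable {G : Type u} [Group G] [Finite G] {p : ℕ} [hp : Fact p.Prime] {M N B S K U E : Subgroup G} {x g : G}

/-- A group normalising `M_σ` without fixed points on `O_{p'}` has order dividing the other `q - 1`. -/
theorem Stray.dvd_pred_other (d : Stray p M N B S x) (hna : ¬ IsMulCommutative ↥S) (hEM : E ≤ M) {q : ℕ}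
    (hq : q.Prime) (hqp : q ≠ p) (hqd : q ∣ Nat.card (sigmaCore M))
    (hfree : ∀ e ∈ E, e ≠ 1 → ∀ s ∈ sigmaCore M, orderOf s = q → e * s ≠ s * e) : Nat.card E ∣ q - 1 := by
  have hG := d.setup.minSimple
  haveI := Fact.mk hq
  obtain ⟨T, hT⟩ := exists_sylIn (p := q) (sigmaCore M)
  have hTn : M ≤ Subgroup.normalizer (T : Set G) :=
    SigmaSubgroups.sylow_of_nilpotent_normal d.nilpotent le_normalizer_piCoreOf hT
  have hT1 : T ≠ ⊥ := fun h => hT.not_dvd (by rw [h, Subgroup.relIndex_bot_left]; exact hqd)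
  obtain ⟨i, hi⟩ := IsPGroup.iff_card.1 hT.isPGroup
  have hTN : T ≤ M ⊓ N := d.coprime_le hT.le (hi ▸ ((Nat.coprime_primes hq hp.out).2 hqp).pow_left i)
  have hqT : q ∣ Nat.card T := by
    have h0 : i ≠ 0 := fun h => hT1 (Subgroup.card_eq_one.1 (by rw [hi, h, pow_zero]))
    exact (dvd_pow_self q h0).trans hi.symm.dvd
  have hdN : q ∣ Nat.card N := hqT.trans (Subgroup.card_dvd_of_le (hTN.trans inf_le_right))
  have hqN : q ∉ sigma N := compl_pi hG d.coatomN d.compl hq (hqT.trans (Subgroup.card_dvd_of_le hTN))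
  have hr : PRankLE q 1 ↥T := by
    refine Solv.RankTwo.prankLE_of_injective (Subgroup.inclusion (hTN.trans inf_le_right))
      (Subgroup.inclusion_injective _) ?_
    exact ((classify hG d.coatomN hq hqN hdN).resolve_left (by rw [d.tau_eq hna]; exact hqp)).elim
      (fun h => h.2.2.2.2) fun h => h.2.2.2
  obtain ⟨z, hz, hz1⟩ := exists_ne_one (omz_ne_bot hT.isPGroup hT1)
  have hzc : Nat.card (Subgroup.zpowers z) = q := card_zpowers_elab (omz_elab (q := q) T) hz hz1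
  have hle : Nat.card (omz q T) ≤ q := by
    have h : Nat.card ((omz q T).subgroupOf T) ≤ q ^ 1 := hr _
      ⟨⟨fun a b => Subtype.ext (Subtype.ext (congrArg Subtype.val
        ((omz_elab (q := q) T).1.is_comm.comm (⟨_, a.2⟩ : omz q T) ⟨_, b.2⟩) :))⟩⟩
      fun a ha => Subtype.ext ((omz_elab (q := q) T).2 _ ha)
    rwa [Solv.card_subgroupOf (omz_le T), pow_one] at h
  have hZ : Nat.card (omz q T) = q :=
    le_antisymm hle (hzc.symm.le.trans (Subgroup.card_le_of_le (Subgroup.zpowers_le.2 hz)))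
  exact card_dvd_pred_of_line hq hZ (hEM.trans (hTn.trans (normalizer_le_omz T)))
    fun e he he1 y hy hey => by_contra fun hy1 =>
      hfree e he he1 y (hT.le (omz_le T hy)) (orderOf_eq_prime ((omz_elab (q := q) T).2 y hy) hy1) hey

omit hp in
/-- The intersection lies in `M_σ`, is cyclic, and misses the derived subgroup. -/
theorem meet_facts_core (hG : IsMinSimpleOddOrder G) (hM : IsCoatom M) (hg : g ∉ M) :
    IsCyclic ↥(sigmaCore M ⊓ cj (sigmaCore M) g) ∧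
      (∀ q : ℕ, q.Prime → q ∣ Nat.card ↥(sigmaCore M ⊓ cj (sigmaCore M) g) → q ∉ beta M) ∧
      ∀ y ∈ sigmaCore M ⊓ cj (sigmaCore M) g, y ∈ ⁅sigmaCore M, sigmaCore M⁆ → y = 1 := by
  obtain ⟨h1, h2, h3⟩ := SigmaTI.inter_conj hG hM hg
  have hle : sigmaCore M ⊓ cj (sigmaCore M) g ≤ sigmaCore M ⊓ cj M g :=
    inf_le_inf_left _ (cj_mono (Subgroup.map_subtype_le _) g)
  exact ⟨isCyclic_of_injective (Subgroup.inclusion hle) (Subgroup.inclusion_injective hle),
    fun q hq hd => h2 q hq (hd.trans (Subgroup.card_dvd_of_le hle)),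
    fun y hy hyd => Subgroup.mem_bot.1 (h3 ▸ Subgroup.mem_inf.2 ⟨hle hy, hyd⟩)⟩

omit hp in
/-- The index of `M_σ` as a bound on the exponent of the quotient by `M_F`. -/
theorem exponent_dvd_compl (he : fittingHallOf M = sigmaCore M) (hE : IsComplIn E (sigmaCore M) M) :
    Monoid.exponent (↥M ⧸ fittingHall ↥M) ∣ Nat.card E ∧ (fittingHallOf M).relIndex M = Nat.card E := by
  have h1 : (fittingHallOf M).relIndex M = Nat.card E := by rw [he]; exact ((compl_card hE).1).symm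
  refine ⟨Group.exponent_dvd_nat_card.trans (dvd_of_eq ?_), h1⟩
  rw [← Subgroup.index_eq_card, ← h1, fittingHallOf, Subgroup.relIndex]
  exact congrArg Subgroup.index (Subgroup.comap_map_eq_self_of_injective M.subtype_injective _).symm

omit hp in
/-- The derived subgroup is `M_σ` when the complement is abelian. -/
theorem derived_eq_core (hG : IsMinSimpleOddOrder G) (hM : IsCoatom M) (hE : IsComplIn E (sigmaCore M) M)
    (hab : IsMulCommutative ↥E) : ⁅M, M⁆ = sigmaCore M := by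
  refine le_antisymm ((derived_le_compl hE).trans (sup_le ?_ le_rfl)) (core_le_derived hG hM)
  rw [Subgroup.commutator_le]
  intro a ha b hb
  rw [commutatorElement_eq_one_iff_mul_comm.2 (congrArg Subtype.val (hab.is_comm.comm (⟨a, ha⟩ : E) ⟨b, hb⟩))]
  exact one_mem _

omit hp in
/-- The core of the structure theorem, for `X = M_σ ∩ M_σ^g`. -/
theorem meet_structure (hG : IsMinSimpleOddOrder G) (hM : IsCoatom M) (hKU : IsSigmaDecomposition M K U)
    (hg : g ∉ M) (hn : Group.IsNilpotent ↥(sigmaCore M)) (he : fittingHallOf M = sigmaCore M)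
    (hV : K ≠ ⊥ → U = ⊥ ∧ ⁅M, M⁆ = sigmaCore M) (hX : sigmaCore M ⊓ cj (sigmaCore M) g ≠ ⊥) :
    ⁅M, M⁆ = sigmaCore M ∧
      ((K = ⊥ ∧ IsMulCommutative ↥(sigmaCore M) ∧ RankLE 2 ↥(sigmaCore M) ∧ ¬ RankLE 1 ↥(sigmaCore M)) ∨
       (∃ p : ℕ, p.Prime ∧ Nat.card ↥(sigmaCore M ⊓ cj (sigmaCore M) g) = p ∧ p ∈ sigma M ∧ p ∉ beta M ∧
          ¬ IsMulCommutative ↥(pCore p ↥(sigmaCore M)) ∧ IsCyclic ↥(pPrimeCore p ↥(sigmaCore M)) ∧
          ∀ q : ℕ, q.Prime → q ∣ Nat.card (sigmaCore M) → Monoid.exponent (↥M ⧸ fittingHall ↥M) ∣ q - 1) ∨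
       (∃ p : ℕ, p.Prime ∧ Nat.card ↥(sigmaCore M ⊓ cj (sigmaCore M) g) = p ∧ p ∈ sigma M ∧ p ∉ beta M ∧
          IsCyclic ↥(pPrimeCore p ↥(sigmaCore M)) ∧ Nat.card ↥(pCore p ↥(sigmaCore M)) = p ^ 3 ∧
          ¬ IsMulCommutative ↥(pCore p ↥(sigmaCore M)) ∧ K ≠ ⊥ ∧ U = ⊥ ∧
          (fittingHallOf M).relIndex M ∣ p + 1)) := by
  set X := sigmaCore M ⊓ cj (sigmaCore M) g with hXdef
  obtain ⟨hcyc, hβ, hder⟩ := meet_facts_core hG hM hg
  have hg' : g⁻¹ ∉ M := fun h => hg (by simpa using M.inv_mem h)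
  have stray : ∀ {q : ℕ} [Fact q.Prime] {y : G}, y ∈ X → orderOf y = q →
      ∃ N B S : Subgroup G, Stray q M N B S y := by
    intro q _ y hy hyo
    refine exists_stray_at hG hM hn hg' hy.1 hyo ?_
    obtain ⟨f, hf, hfy⟩ := hy.2
    rw [← hfy]
    show g⁻¹ * (g * f * g⁻¹) * g⁻¹⁻¹ ∈ sigmaCore M
    rwa [show g⁻¹ * (g * f * g⁻¹) * g⁻¹⁻¹ = f by group]
  obtain ⟨p, hp', hpX⟩ := Nat.exists_prime_and_dvd fun h => hX (Subgroup.card_eq_one.1 h)
  haveI := Fact.mk hp'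
  obtain ⟨⟨x, hx⟩, hxo⟩ := exists_prime_orderOf_dvd_card' p hpX
  rw [Subgroup.orderOf_mk] at hxo
  obtain ⟨N, B, S, d⟩ := stray hx hxo
  obtain ⟨E, hE, hEK⟩ : ∃ E : Subgroup G, IsComplIn E (sigmaCore M) M ∧ (K ≠ ⊥ → E = K) := by
    refine ⟨U ⊔ K, Decomp.compl hG hM hKU, fun h => by rw [(hV h).1, bot_sup_eq]⟩
  have hM' : ⁅M, M⁆ = sigmaCore M := by
    by_cases hK : K = ⊥
    · exact derived_eq_core hG hM hE (d.compl_abelian (kappa_empty_of_bot hKU hK) hE)
    · exact (hV hK).2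
  refine ⟨hM', ?_⟩
  by_cases hab : IsMulCommutative ↥S
  · refine Or.inl ⟨by_contra fun hK => (d.typeV_bound hKU hK (hV hK).1).1 hab, d.core_abelian hab, d.rank_exact hab⟩
  right
  have hpσ : p ∈ sigma M :=
    (sigmaCore_hall hG hM).1.2.1 p hp' (hxo ▸ Subgroup.orderOf_dvd_natCard _ hx.1)
  -- the intersection has order `p`
  have honly : ∀ q : ℕ, q.Prime → q ∣ Nat.card X → q = p := by
    intro q hq hqX
    by_contra hqp
    haveI := Fact.mk hq
    obtain ⟨⟨y, hy⟩, hyo⟩ := exists_prime_orderOf_dvd_card' q hqX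
    rw [Subgroup.orderOf_mk] at hyo
    obtain ⟨N', B', S', d'⟩ := stray hy hyo
    have hS'ab : IsMulCommutative ↥S' := by
      obtain ⟨i, hi⟩ := IsPGroup.iff_card.1 d'.syl.isPGroup
      have hle : S' ≤ M ⊓ N := d.coprime_le d'.S_le (hi ▸ ((Nat.coprime_primes hq hp').2 hqp).pow_left i)
      have hqS : q ∣ Nat.card S' := hyo ▸ Subgroup.orderOf_dvd_natCard S'
        (d'.mem_syl d'.mem (IsPGroup.of_card (n := 1) (by rw [Nat.card_zpowers, hyo, pow_one])))
      exact pgroup_abelian hG d.coatomN (compl_pi hG d.coatomN d.compl hq (hqS.trans (Subgroup.card_dvd_of_le hle)))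
        d'.syl.isPGroup (hle.trans inf_le_right)
    haveI := d'.core_abelian hS'ab
    exact hab ⟨⟨fun a b => Subtype.ext (congrArg Subtype.val
      (IsMulCommutative.is_comm.comm (⟨a, d.S_le a.2⟩ : sigmaCore M) ⟨b, d.S_le b.2⟩) :)⟩⟩
  have hcard : Nat.card X = p := by
    have h0 := Nat.eq_prime_pow_of_unique_prime_dvd (p := p) Nat.card_pos.ne' fun {q} hq hd => honly q hq hd
    set j := (Nat.card X).primeFactorsList.length
    rcases j with _ | _ | j
    · rw [pow_zero] at h0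
      exact absurd (Subgroup.card_eq_one.1 h0) hX
    · rw [h0, zero_add, pow_one]
    exfalso
    obtain ⟨⟨a, ha⟩, hgen⟩ := hcyc.exists_ofOrder_eq_natCard
    rw [Subgroup.orderOf_mk, h0] at hgen
    have hz : orderOf (a ^ p ^ j) = p ^ 2 := by
      rw [orderOf_pow' _ (pow_ne_zero _ hp'.ne_zero), hgen, Nat.gcd_eq_right (pow_dvd_pow p (by omega)),
        Nat.pow_div (by omega) hp'.pos, show j + 1 + 1 - j = 2 by omega]
    have hy : orderOf ((a ^ p ^ j) ^ p) = p := by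
      rw [orderOf_pow' _ hp'.ne_zero, hz, Nat.gcd_eq_right (dvd_pow_self p two_ne_zero), pow_two,
        Nat.mul_div_cancel _ hp'.pos]
    have hmem : (a ^ p ^ j) ^ p ∈ X := pow_mem (pow_mem ha _) _
    obtain ⟨N', B', S', d'⟩ := stray hmem hy
    have hna' : ¬ IsMulCommutative ↥S' := fun h => by
      haveI := d'.core_abelian h
      exact hab ⟨⟨fun a b => Subtype.ext (congrArg Subtype.val
        (IsMulCommutative.is_comm.comm (⟨a, d.S_le a.2⟩ : sigmaCore M) ⟨b, d.S_le b.2⟩) :)⟩⟩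
    exact d'.no_root hna' (pow_mem ha _).1 rfl fun h => ne_one_of_order hy (hder _ hmem h)
  have hPab : ¬ IsMulCommutative ↥(pCore p ↥(sigmaCore M)) := fun h => by
    have hS : SylIn p S (sigmaCore M) := d.syl.mono d.S_le le_top
    obtain ⟨T, hT⟩ := hS.exists_sylow_subgroupOf
    haveI : (T : Subgroup ↥(sigmaCore M)).Normal := hT ▸ (Subgroup.normal_subgroupOf_iff_le_normalizer d.S_le).2
      ((Subgroup.map_subtype_le _).trans d.normal)
    have heq : pCore p ↥(sigmaCore M) = S.subgroupOf (sigmaCore M) :=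
      hT ▸ le_antisymm (Fusion.pCore_le_sylow T) (le_sSup ⟨inferInstance, T.isPGroup'⟩)
    rw [heq] at h
    exact hab ⟨⟨fun a b => Subtype.ext (congrArg (fun v : ↥(S.subgroupOf (sigmaCore M)) => ((v : sigmaCore M) : G))
      (h.is_comm.comm ⟨⟨a, d.S_le a.2⟩, Subgroup.mem_subgroupOf.2 a.2⟩ ⟨⟨b, d.S_le b.2⟩, Subgroup.mem_subgroupOf.2 b.2⟩))⟩⟩
  obtain ⟨hexp, hrel⟩ := exponent_dvd_compl he hE
  have hW := d.pPrime_cyclic hab
  have hpβ : p ∉ beta M := hβ p hp' hpX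
  by_cases hcase : K = ⊥ ∨ Nat.card K ∣ p - 1
  · refine Or.inl ⟨p, hp', hcard, hpσ, hpβ, hPab, hW, fun q hq hqd => hexp.trans ?_⟩
    by_cases hK : K = ⊥
    · exact d.compl_dvd_pred hab (kappa_empty_of_bot hKU hK) hE hq hqd
    rw [hEK hK]
    by_cases hqp : q = p
    · exact hqp ▸ hcase.resolve_left hK
    refine d.dvd_pred_other hab (Decomp.K_le hKU) hq hqp hqd fun k hk hk1 s hs hso hks => ?_
    have hsC : s ∈ sigmaCore M ⊓ Subgroup.centralizer (K : Set G) := by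
      rw [← prime_action hG hM hKU.hall hk hk1]
      exact ⟨hs, Subgroup.mem_centralizer_singleton_iff.2 hks.symm⟩
    have h2 : s ∈ S := by
      have h3 := star_le_second hG hM hKU hK hsC
      rw [hM'] at h3
      exact d.derived_le_syl h3
    obtain ⟨i, hi⟩ := IsPGroup.iff_card.1 d.syl.isPGroup
    have h4 := Subgroup.orderOf_dvd_natCard S h2
    rw [hso, hi] at h4
    exact hqp ((Nat.prime_dvd_prime_iff_eq hq hp').1 (hq.dvd_of_dvd_pow h4))
  · push Not at hcase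
    obtain ⟨hna, h | ⟨h3, h⟩⟩ := d.typeV_bound hKU hcase.1 (hV hcase.1).1
    · exact absurd h hcase.2
    refine Or.inr ⟨p, hp', hcard, hpσ, hpβ, hW, d.pCore_card.trans h3, hPab, hcase.1, (hV hcase.1).1, ?_⟩
    rw [hrel, hEK hcase.1]
    exact h

omit hp in
/-- The structure of `M` when `F(M)` meets a conjugate. -/
theorem fitting_meet_structure (hG : IsMinSimpleOddOrder G) (hM : IsCoatom M) (hKU : IsSigmaDecomposition M K U)
    (hg : g ∉ M) (hX : fittingOf M ⊓ cj (fittingOf M) g ≠ ⊥) :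
    (fittingOf M ⊓ cj (fittingOf M) g ≤ fittingHallOf M ∧ IsCyclic ↥(fittingOf M ⊓ cj (fittingOf M) g)) ∧
      (⁅M, M⁆ = fittingOf M ∧
        fittingOf M = sigmaCore M ⊔ piCoreOf {q | q.Prime ∧ q ∉ sigma M} (fittingOf M)) ∧
      ((K = ⊥ ∧ IsMulCommutative ↥(fittingHallOf M) ∧ RankLE 2 ↥(fittingHallOf M) ∧ ¬ RankLE 1 ↥(fittingHallOf M)) ∨
       (∃ p : ℕ, p.Prime ∧ Nat.card ↥(fittingOf M ⊓ cj (fittingOf M) g) = p ∧ p ∈ sigma M ∧ p ∉ beta M ∧
          ¬ IsMulCommutative ↥(pCore p ↥(fittingHallOf M)) ∧ IsCyclic ↥(pPrimeCore p ↥(fittingHallOf M)) ∧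
          ∀ q : ℕ, q.Prime → q ∣ Nat.card (fittingHallOf M) → Monoid.exponent (↥M ⧸ fittingHall ↥M) ∣ q - 1) ∨
       (∃ p : ℕ, p.Prime ∧ Nat.card ↥(fittingOf M ⊓ cj (fittingOf M) g) = p ∧ p ∈ sigma M ∧ p ∉ beta M ∧
          IsCyclic ↥(pPrimeCore p ↥(fittingHallOf M)) ∧ Nat.card ↥(pCore p ↥(fittingHallOf M)) = p ^ 3 ∧
          ¬ IsMulCommutative ↥(pCore p ↥(fittingHallOf M)) ∧ K ≠ ⊥ ∧ U = ⊥ ∧
          (fittingHallOf M).relIndex M ∣ p + 1)) := by
  obtain ⟨hF, he, hn, hV⟩ := fitting_meet_cases hG hM hKU hg hX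
  have hsum : fittingOf M = sigmaCore M ⊔ piCoreOf {q | q.Prime ∧ q ∉ sigma M} (fittingOf M) :=
    le_antisymm (hF.le.trans le_sup_left) (sup_le hF.ge (Subgroup.map_subtype_le _))
  rw [hF] at hX
  obtain ⟨hM', hcases⟩ := meet_structure hG hM hKU hg hn he hV hX
  refine ⟨?_, ⟨hM'.trans hF.symm, hsum⟩, ?_⟩
  · rw [hF, he]
    exact ⟨inf_le_left, (meet_facts_core hG hM hg).1⟩
  rw [hF]
  generalize hH : fittingHallOf M = H at hcases ⊢
  obtain rfl : H = sigmaCore M := hH.symm.trans he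
  exact hcases

end Cfsg.Agent.OddLocal.Kappa
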