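import Cfsg.Agent.Lib.OddChar.TypeOne
import Cfsg.Agent.Lib.OddLocal.KappaTypeV
import Cfsg.Agent.Lib.OddLocal.SigmaTI
import Cfsg.Agent.Lib.OddLocal.KappaFittingEq
import Cfsg.Agent.Lib.OddLocal.Transitivity
import Cfsg.Agent.Lib.Solv.GL2Odd
import Cfsg.Agent.S1381
import Cfsg.Agent.S1382

/-!
A Fitting subgroup meeting one of its conjugates: preliminaries.
-/

set_option autoImplicit false
set_option linter.style.haveILetI false

namespace Cfsg.Agent.OddLocal.Kappa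

open scoped Pointwise commutatorElement
open Cfsg
open Cfsg.Agent.Fusion (SylIn cj cj_eq_self cj_mono card_cj exists_sylIn exists_sylIn_ge)
open Cfsg.Agent.OddLocal.Uniq
open Cfsg.Agent.OddLocal.Sig
open Cfsg.Agent.OddLocal.RankTwo
open Cfsg.Agent.OddLocal.TauTwo
open Cfsg.Agent.OddLocal.Prime
open Cfsg.Agent.OddLocal.Disjoint (mem_centralizer_zpowers zpowers_card)

universe u

variable {G : Type u} [Group G] [Finite G] {p : ℕ} [hp : Fact p.Prime] {M N B S K U E : Subgroup G} {x g : G}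

omit hp in
/-- An element outside `M` does not normalise `F(M)`. -/
theorem not_normalizer_fitting (hG : IsMinSimpleOddOrder G) (hM : IsCoatom M) (hg : g ∉ M)
    (hF : fittingOf M ≠ ⊥) : g ∉ Subgroup.normalizer (fittingOf M : Set G) := by
  intro h
  refine hg ((?_ : Subgroup.normalizer (fittingOf M : Set G) ≤ M) h)
  refine le_of_eq ((hM.le_iff.1 (Bender.MaxInv.le_normalizer_fittingOf M)).resolve_left ?_)
  exact Transit.normalizer_ne_top hG.2.1 hF fun h0 => hM.1 (top_le_iff.1 (h0 ▸ Subgroup.map_subtype_le _))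

omit hp in
/-- When `F(M)` meets a conjugate, `F(M) = M_σ = M_F` is nilpotent and `κ(M) = ∅` or `U = 1`. -/
theorem fitting_meet_cases (hG : IsMinSimpleOddOrder G) (hM : IsCoatom M) (hKU : IsSigmaDecomposition M K U)
    (hg : g ∉ M) (hX : fittingOf M ⊓ cj (fittingOf M) g ≠ ⊥) :
    fittingOf M = sigmaCore M ∧ fittingHallOf M = sigmaCore M ∧ Group.IsNilpotent ↥(sigmaCore M) ∧
      (K ≠ ⊥ → U = ⊥ ∧ ⁅M, M⁆ = sigmaCore M) := by
  have hF : fittingOf M ≠ ⊥ := fun h => hX (by rw [h, bot_inf_eq])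
  have hnTI : ¬ IsTISubset (fittingOf M : Set G) := fun h => by
    obtain ⟨y, hy, hy1⟩ := exists_ne_one hX
    obtain ⟨f, hf, rfl⟩ := hy.2
    exact hy1 (by rw [h g (not_normalizer_fitting hG hM hg hF) f hf hy.1, map_one])
  have main : ∀ {Hn : Group.IsNilpotent ↥(sigmaCore M)}, fittingHallOf M = sigmaCore M →
      fittingOf M ≤ sigmaCore M → fittingOf M = sigmaCore M := fun {_} he hle =>
    le_antisymm hle (he ▸ Subgroup.map_mono TypePBasic.fittingHall_le_fitting)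
  by_cases hK : K = ⊥
  · have hκ := kappa_empty_of_bot hKU hK
    have hn := core_nilpotent hG hM hκ
    have he := fittingHallOf_eq hG hM hκ
    refine ⟨main (Hn := hn) he ?_, he, hn, fun h => absurd hK h⟩
    obtain ⟨-, hτ, hsum⟩ := FitParts.fitting_parts hG hM
    rw [hsum]
    refine sup_le (Subgroup.map_subtype_le _) (le_of_eq_of_le (Subgroup.card_eq_one.1 ?_) bot_le)
    by_contra h
    obtain ⟨q, hq, hqd⟩ := Nat.exists_prime_and_dvd h
    exact Set.eq_empty_iff_forall_notMem.1 (OddChar.tau2_empty hG hM hκ) q (hτ q hq hqd)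
  have hU : U = ⊥ := by
    by_contra hU
    obtain ⟨W₁, D, W₂, -, -, -, hti, -⟩ := (S1381.result hG M hM K U hKU).2 ⟨hK, hU⟩
    exact hnTI hti
  have he : fittingHallOf M = sigmaCore M := by
    by_contra he
    rcases (S1382.result hG M hM K U hKU).2 ⟨hK, hU, he⟩ with
      ⟨W₁, D, W₂, -, -, -, hti, -⟩ | ⟨W₁, D, W₂, -, -, -, hti, -⟩
    all_goals exact hnTI hti
  have hn : Group.IsNilpotent ↥(sigmaCore M) := by
    haveI := TypePBasic.fittingOf_nilpotent M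
    exact isNilpotent_of_le (Y := fittingOf M)
      (he.symm.le.trans (Subgroup.map_mono TypePBasic.fittingHall_le_fitting))
  have hd : ⁅M, M⁆ = sigmaCore M := by rw [derived_eq hG hM hKU hK, hU, bot_sup_eq]
  refine ⟨main (Hn := hn) he ?_, he, hn, fun _ => ⟨hU, hd⟩⟩
  obtain ⟨q, hq, hqK⟩ := Nat.exists_prime_and_dvd fun h => hK (Subgroup.card_eq_one.1 h)
  exact hd ▸ fitting_le_derived hG hM ⟨q, hKU.hall.2.1 q hq hqK⟩

/-- A stray point at a given element of prime order. -/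
theorem exists_stray_at (hG : IsMinSimpleOddOrder G) (hM : IsCoatom M) (hnil : Group.IsNilpotent ↥(sigmaCore M))
    (hg : g ∉ M) (hxσ : x ∈ sigmaCore M) (hxo : orderOf x = p) (hgx : g * x * g⁻¹ ∈ sigmaCore M) :
    ∃ N B S : Subgroup G, Stray p M N B S x := by
  have hx1 : x ≠ 1 := ne_one_of_order hxo
  have hσM : sigmaCore M ≤ M := Subgroup.map_subtype_le _
  have hxg : x ∈ cj M g⁻¹ := by
    have h := Fusion.conj_mem_cj (g := g⁻¹) (hσM hgx)
    rwa [show g⁻¹ * (g * x * g⁻¹) * g⁻¹⁻¹ = x by group] at h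
  have hxM : ¬ Subgroup.centralizer ({x} : Set G) ≤ M := by
    obtain ⟨ρ, -, hρ, h | h⟩ := Support.transport hG hM hxσ hx1 hxg
    · refine absurd ?_ hg
      rw [h, Fusion.cj_one] at hρ
      have h1 : g⁻¹ ∈ Subgroup.normalizer (M : Set G) := Fusion.mem_normalizer_iff_cj.2 hρ.symm
      rw [normalizer_coatom hG hM] at h1
      simpa using M.inv_mem h1
    · exact h.1
  obtain ⟨N, hN, hCN, -, hc, -, -, -, hτ⟩ := Support.over_centralizer hG hM hxσ hx1 hxM
  have hpτ : p ∈ tau2 N := hτ p hp.out hxo.symm.dvd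
  obtain ⟨B, hBE, sB⟩ := exists_setup_in_compl hG hN hc hpτ
  have hpσ : p ∈ sigma M :=
    (sigmaCore_hall hG hM).1.2.1 p hp.out (hxo ▸ Subgroup.orderOf_dvd_natCard _ hxσ)
  obtain ⟨S, hS, hBS⟩ := exists_sylIn_ge (Fusion.elab_isPGroup sB.elem) (hBE.trans inf_le_left)
  have hSσ : S ≤ sigmaCore M :=
    le_of_hall (sigmaCore_hall hG hM).1 le_normalizer_piCoreOf hS.le (piNum_of_pgroup hS.isPGroup hpσ)
  exact ⟨N, B, S, hM, hN, sB, hc, hBE, hxσ, hxo, hCN, hnil, (sigma_sylow hpσ hS).1, hSσ, hBS,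
    SigmaSubgroups.sylow_of_nilpotent_normal hnil le_normalizer_piCoreOf (hS.mono hSσ (Subgroup.map_subtype_le _)),
    hpτ⟩

namespace Stray

variable (d : Stray p M N B S x)
include d

/-- The `p`-elements of `M_σ` lie in `S`. -/
theorem mem_syl {y : G} (hy : y ∈ sigmaCore M) (hyp : IsPGroup p ↥(Subgroup.zpowers y)) : y ∈ S := by
  obtain ⟨m, hm, hmS⟩ := (d.syl.mono d.S_le le_top).conj_le hyp (Subgroup.zpowers_le.2 hy)
  rw [Fusion.cj_le_iff, cj_eq_self (d.normal (M.inv_mem ((Subgroup.map_subtype_le _ : sigmaCore M ≤ M) hm)))] at hmS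
  exact hmS (Subgroup.mem_zpowers y)

/-- The point is not a `p`-th power inside `M_σ` unless it lies in the derived subgroup. -/
theorem no_root (hna : ¬ IsMulCommutative ↥S) {z : G} (hz : z ∈ sigmaCore M) (hzp : z ^ p = x)
    (hxd : x ∉ ⁅sigmaCore M, sigmaCore M⁆) : False := by
  have hG := d.setup.minSimple
  have hσM : sigmaCore M ≤ M := Subgroup.map_subtype_le _
  have hxp : x ^ p = 1 := d.order ▸ pow_orderOf_eq_one x
  have hpz : ∀ {y : G} {k : ℕ}, y ^ p ^ k = 1 → IsPGroup p ↥(Subgroup.zpowers y) := fun {y k} hy => by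
    obtain ⟨j, -, hj⟩ := (Nat.dvd_prime_pow hp.out).1 (orderOf_dvd_of_pow_eq_one hy)
    exact IsPGroup.of_card (n := j) (by rw [Nat.card_zpowers, hj])
  have hxS : x ∈ S := d.mem_syl d.mem (hpz (k := 1) (by rw [pow_one, hxp]))
  have hzS : z ∈ S := d.mem_syl hz (hpz (k := 2) (by rw [pow_two, pow_mul, hzp, hxp]))
  set T := S ⊓ N with hT
  have hTab : IsMulCommutative ↥T :=
    pgroup_abelian hG d.coatomN d.setup.not_sigma (d.syl.isPGroup.to_le inf_le_left) inf_le_right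
  have hTc : ∀ a ∈ T, ∀ b ∈ T, Commute a b := fun a ha b hb =>
    congrArg Subtype.val (hTab.is_comm.comm (⟨a, ha⟩ : T) ⟨b, hb⟩)
  have hBT : B ≤ T := le_inf d.B_S (d.B_le.trans inf_le_right)
  have hCT : ∀ {y : G}, y ∈ S → Commute y x → y ∈ T := fun {y} hy h =>
    ⟨hy, d.centralizer (Subgroup.mem_centralizer_singleton_iff.2 h.eq)⟩
  have hxT : x ∈ T := hCT hxS (Commute.refl x)
  have hzT : z ∈ T := hCT hzS (hzp ▸ Commute.self_pow z p)
  have hfull : ∀ t ∈ T, t ^ p = 1 → t ∈ B := fun t ht htp =>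
    d.setup.full t (Subgroup.mem_centralizer_iff.2 fun b hb => (hTc b (hBT hb) t ht).eq) htp
  have hSN : ¬ S ≤ N := fun h => hna (pgroup_abelian hG d.coatomN d.setup.not_sigma d.syl.isPGroup h)
  -- an element normalising `T` outside it, with `p`-th power inside
  obtain ⟨w, hwS, hwT, hwn, hwp⟩ : ∃ w ∈ S, w ∉ T ∧ w ∈ Subgroup.normalizer (T : Set G) ∧ w ^ p ∈ T := by
    haveI := d.syl.isPGroup.isNilpotent
    have hlt : T.subgroupOf S < ⊤ := lt_top_iff_ne_top.2 fun h => hSN fun s hs =>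
      (Subgroup.mem_subgroupOf.1 (h ▸ Subgroup.mem_top (⟨s, hs⟩ : S) : (⟨s, hs⟩ : S) ∈ T.subgroupOf S)).2
    obtain ⟨w₀, hw₀n, hw₀T⟩ := SetLike.exists_of_lt (Group.normalizerCondition_of_isNilpotent _ hlt)
    have hn : (w₀ : G) ∈ Subgroup.normalizer (T : Set G) := Subgroup.mem_normalizer_iff.2 fun a => by
      refine ⟨fun ha => ?_, fun ha => ?_⟩
      · exact Subgroup.mem_subgroupOf.1 ((Subgroup.mem_normalizer_iff.1 hw₀n ⟨a, ha.1⟩).1 (Subgroup.mem_subgroupOf.2 ha))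
      · have haS : a ∈ S := by
          have h1 := S.mul_mem (S.mul_mem (S.inv_mem w₀.2) ha.1) w₀.2
          rwa [show (w₀ : G)⁻¹ * (w₀ * a * (w₀ : G)⁻¹) * w₀ = a by group] at h1
        exact Subgroup.mem_subgroupOf.1 ((Subgroup.mem_normalizer_iff.1 hw₀n ⟨a, haS⟩).2 (Subgroup.mem_subgroupOf.2 ha))
    classical
    obtain ⟨k, hk⟩ := d.syl.isPGroup w₀
    have hex : ∃ i, (w₀ : G) ^ p ^ i ∈ T := ⟨k, by
      rw [← SubgroupClass.coe_pow, hk]; exact one_mem T⟩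
    have hi0 : Nat.find hex ≠ 0 := fun h => hw₀T (Subgroup.mem_subgroupOf.2 (by
      have h1 := Nat.find_spec hex
      rwa [h, pow_zero, pow_one] at h1))
    obtain ⟨i, hi⟩ := Nat.exists_eq_succ_of_ne_zero hi0
    refine ⟨(w₀ : G) ^ p ^ i, S.pow_mem w₀.2 _, Nat.find_min hex (by omega), pow_mem hn _, ?_⟩
    rw [← pow_mul, ← pow_succ, ← Nat.succ_eq_add_one, ← hi]
    exact Nat.find_spec hex
  have hwσ : w ∈ sigmaCore M := d.S_le hwS
  have hconjT : ∀ t ∈ T, w * t * w⁻¹ ∈ T := fun t ht => (Subgroup.mem_normalizer_iff.1 hwn t).1 ht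
  set D := B ⊓ ⁅sigmaCore M, sigmaCore M⁆ with hD
  -- the commutators of `T` with `w`
  have hder : ∀ t ∈ T, w * t * w⁻¹ * t⁻¹ ∈ ⁅sigmaCore M, sigmaCore M⁆ := fun t ht =>
    Subgroup.commutator_mem_commutator hwσ (d.S_le ht.1)
  have hcT : ∀ t ∈ T, w * t * w⁻¹ * t⁻¹ ∈ T := fun t ht => T.mul_mem (hconjT t ht) (T.inv_mem ht)
  have hcp : ∀ t ∈ T, (w * t * w⁻¹ * t⁻¹) ^ p = w * t ^ p * w⁻¹ * (t ^ p)⁻¹ := fun t ht => by
    rw [(hTc _ (hconjT t ht) _ (T.inv_mem ht)).mul_pow, conj_pow, inv_pow]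
  set c := w * x * w⁻¹ * x⁻¹ with hc
  have hcD : c ∈ D := ⟨hfull _ (hcT x hxT) (by rw [hc, hcp x hxT, hxp]; group), hder x hxT⟩
  have hc1 : c ≠ 1 := fun h => hwT (hCT hwS (mul_inv_eq_iff_eq_mul.1 (mul_inv_eq_one.1 h)))
  have hDne : D ≠ ⊥ := fun h => hc1 (by rw [h, Subgroup.mem_bot] at hcD; exact hcD)
  have hDlt : D < B := lt_of_le_of_ne inf_le_left fun h => hxd
    ((h.symm ▸ hfull x hxT hxp : x ∈ D)).2
  have hDc : Nat.card D = p := by
    obtain ⟨j, hj2, hj⟩ := (Nat.dvd_prime_pow hp.out).1 (d.setup.card ▸ Subgroup.card_dvd_of_le hDlt.le)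
    have h1 := Solv.card_lt_of_lt hDlt
    rw [d.setup.card, hj] at h1
    interval_cases j
    · exact absurd (Subgroup.card_eq_one.1 (by rw [hj, pow_zero])) hDne
    · rw [hj, pow_one]
    · exact absurd h1 (lt_irrefl _)
  have hwD : ∀ y ∈ D, w * y * w⁻¹ ∈ D := fun y hy => by
    refine ⟨hfull _ (hconjT y (hBT hy.1)) (by rw [conj_pow, d.setup.elem.2 y hy.1]; group), ?_⟩
    have h1 := Subgroup.mul_mem _ (hder y (hBT hy.1)) hy.2
    rwa [inv_mul_cancel_right] at h1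
  have hwfix : ∀ y ∈ D, w * y * w⁻¹ = y := fun y hy => by
    have hwN : w ∈ Subgroup.normalizer (D : Set G) := Fusion.mem_normalizer_of_cj_le (by
      rintro _ ⟨a, ha, rfl⟩
      exact hwD a ha)
    have hR := line_centralized (R := S ⊓ Subgroup.normalizer (D : Set G)) (d.syl.isPGroup.to_le inf_le_left)
      (le_inf (inf_le_left.trans d.B_S) Subgroup.le_normalizer) hDc inf_le_right
    exact mul_inv_eq_iff_eq_mul.2 (Subgroup.mem_centralizer_iff.1 (hR ⟨hwS, hwN⟩) y hy).symm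
  set d₁ := w * z * w⁻¹ * z⁻¹ with hd₁
  have hd₁T : d₁ ∈ T := hcT z hzT
  have hd₁p : d₁ ^ p = c := by rw [hd₁, hcp z hzT, hzp]
  set e := w * d₁ * w⁻¹ * d₁⁻¹ with he
  have heD : e ∈ D := ⟨hfull _ (hcT d₁ hd₁T)
    (by rw [he, hcp d₁ hd₁T, hd₁p, hwfix c hcD, mul_inv_cancel]), hder d₁ hd₁T⟩
  have key : ∀ n : ℕ, w ^ n * z * (w ^ n)⁻¹ = e ^ n.choose 2 * d₁ ^ n * z := by
    intro n
    induction n with
    | zero => simp
    | succ n ih =>
      have h1 : w ^ (n + 1) * z * (w ^ (n + 1))⁻¹ = w * (w ^ n * z * (w ^ n)⁻¹) * w⁻¹ := by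
        rw [pow_succ']; group
      have h2 : w * d₁ * w⁻¹ = e * d₁ := by rw [he]; group
      have h3 : w * z * w⁻¹ = d₁ * z := by rw [hd₁]; group
      have h4 : w * (e ^ n.choose 2 * d₁ ^ n * z) * w⁻¹ =
          (w * e * w⁻¹) ^ n.choose 2 * (w * d₁ * w⁻¹) ^ n * (w * z * w⁻¹) := by
        rw [conj_pow, conj_pow]; group
      rw [h1, ih, h4, hwfix e heD, h2, h3, (hTc e (hBT heD.1) d₁ hd₁T).mul_pow,
        show (n + 1).choose 2 = n.choose 2 + n by rw [Nat.choose_succ_succ, Nat.choose_one_right, add_comm],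
        pow_add, pow_succ]
      group
  have hfix : w ^ p * z * (w ^ p)⁻¹ = z := mul_inv_eq_iff_eq_mul.2 (hTc _ hwp z hzT).eq
  have h2p : 2 < p := lt_of_le_of_ne hp.out.two_le (Ne.symm d.setup.ne_two)
  have hlast := key p
  rw [hfix, hd₁p, orderOf_dvd_iff_pow_eq_one.1 ((orderOf_dvd_of_pow_eq_one (d.setup.elem.2 e heD.1)).trans
    (hp.out.dvd_choose_self two_ne_zero h2p)), one_mul] at hlast
  exact hc1 (mul_eq_right.1 hlast.symm)

end Stray

/-- A group of odd order acting faithfully on an elementary group of order at most `p²`, coprimely, is abelian. -/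
theorem abelian_of_small (hp2 : p ≠ 2) (hodd : Odd (Nat.card E)) (hs : Group.IsSolvable ↥E) {V : Subgroup G}
    (hV : IsElementaryAbelian p V) (hc : Nat.card V ≤ p ^ 2) (hn : E ≤ Subgroup.normalizer (V : Set G))
    (hco : ¬ p ∣ Nat.card E)
    (hfaith : ∀ e ∈ E, (∀ v ∈ V, e * v = v * e) → e = 1) : IsMulCommutative ↥E := by
  haveI := hs
  obtain ⟨k, σ, hk, hσ⟩ := Solv.FrobFix.exists_linear V hV.1 hV.2 E hn
  have hinj : Function.Injective σ := by
    refine (injective_iff_map_eq_one σ).2 fun e he => Subtype.ext (hfaith e e.2 fun v hv => ?_)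
    have h1 := hσ {e}
    have h2 : Solv.FrobFix.fixS σ {e} = ⊤ := eq_top_iff.2 fun y _ => Solv.FrobFix.mem_fixS.2 fun a ha => by
      rw [Set.mem_singleton_iff.1 ha, he, Module.End.one_apply]
    rw [h2, finrank_top, Module.finrank_fin_fun, hk] at h1
    have h3 := Subgroup.eq_of_le_of_card_ge inf_le_left h1.le
    have h4 := (inf_eq_left.1 h3) hv
    exact (Subgroup.mem_centralizer_iff.1 h4 e ⟨e, rfl, rfl⟩)
  have hcomm := Solv.GL2Odd.commutator_isPGroup hodd hp2 (by rw [Nat.card_fun, Nat.card_zmod, Nat.card_fin, hk]; exact hc)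
    σ hinj
  have hbot : commutator ↥E = ⊥ := by
    obtain ⟨i, hi⟩ := IsPGroup.iff_card.1 hcomm
    rcases Nat.eq_zero_or_pos i with h | h
    · exact Subgroup.card_eq_one.1 (by rw [hi, h, pow_zero])
    · exact absurd (((dvd_pow_self p h.ne').trans hi.symm.dvd).trans (Subgroup.card_subgroup_dvd_card _)) hco
  refine ⟨⟨fun a b => commutatorElement_eq_one_iff_mul_comm.1 (Subgroup.mem_bot.1 (hbot ▸ ?_))⟩⟩
  exact Subgroup.commutator_mem_commutator (Subgroup.mem_top a) (Subgroup.mem_top b)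

namespace Stray

variable (d : Stray p M N B S x)
include d

/-- A complement without fixed points is abelian. -/
theorem compl_abelian (hκ : kappa M = ∅) (hE : IsComplIn E (sigmaCore M) M) : IsMulCommutative ↥E := by
  have hG := d.setup.minSimple
  have hfree := compl_free hG d.coatom hκ hE
  have hp2 : p ≠ 2 := d.setup.ne_two
  have hodd : Odd (Nat.card E) := hG.1.of_dvd_nat (Subgroup.card_subgroup_dvd_card E)
  have hs : Group.IsSolvable ↥E := Solv.isSolvable_of_le hE.1 (hG.2.2.2 M d.coatom.1)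
  have hpE : ¬ p ∣ Nat.card E := fun h => compl_pi hG d.coatom hE hp.out h
    ((sigmaCore_hall hG d.coatom).1.2.1 p hp.out (d.order ▸ Subgroup.orderOf_dvd_natCard _ d.mem))
  suffices h : Nat.card (omz p S) ≤ p ^ 2 by
    obtain ⟨v, hv, hv1⟩ := exists_ne_one (omz_ne_bot d.syl.isPGroup fun h0 => d.setup.ne_bot (le_bot_iff.1 (h0 ▸ d.B_S)))
    exact abelian_of_small hp2 hodd hs (omz_elab S) h (hE.1.trans (d.normal.trans (normalizer_le_omz S))) hpE
      fun e he hfix => by_contra fun he1 => hv1 (hfree e he he1 v (d.S_le (omz_le S hv)) (hfix v hv))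
  by_cases hab : IsMulCommutative ↥S
  · refine (Subgroup.card_le_of_le (show omz p S ≤ B from fun t ht => d.setup.full t ?_ ht.2.2)).trans d.setup.card.le
    exact centralizer_le_of_le d.B_S ht.2.1
  · have hSN : ¬ S ≤ N := fun h => hab (pgroup_abelian hG d.coatomN d.setup.not_sigma d.syl.isPGroup h)
    rw [(central_line d.setup d.syl d.B_S hSN).2]
    exact Nat.le_self_pow two_ne_zero p

/-- For nonabelian `S` the derived subgroup of `M_σ` lies in `S`. -/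
theorem derived_le_syl : ⁅sigmaCore M, sigmaCore M⁆ ≤ S := by
  have hG := d.setup.minSimple
  haveI := d.nilpotent
  rw [Subgroup.commutator_le]
  intro a ha b hb
  obtain ⟨a₁, a₂, rfl, -, ha₁, ha₂, ha₁π, ha₂π⟩ := exists_parts {p} a
  obtain ⟨b₁, b₂, rfl, -, hb₁, hb₂, hb₁π, hb₂π⟩ := exists_parts {p} b
  have haσ : ∀ {y : G}, y ∈ Subgroup.zpowers (a₁ * a₂) → y ∈ sigmaCore M := fun h => Subgroup.zpowers_le.2 ha h
  have hbσ : ∀ {y : G}, y ∈ Subgroup.zpowers (b₁ * b₂) → y ∈ sigmaCore M := fun h => Subgroup.zpowers_le.2 hb h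
  have hS : ∀ {y : G}, y ∈ sigmaCore M → (∀ t : ℕ, t.Prime → t ∣ orderOf y → t ∈ ({p} : Set ℕ)) → y ∈ S :=
    fun {y} hy h => d.mem_syl hy (IsPGroup.of_card (n := (orderOf y).primeFactorsList.length) (by
      rw [Nat.card_zpowers]
      exact Nat.eq_prime_pow_of_unique_prime_dvd (orderOf_pos y).ne' fun {t} ht hd => h t ht hd))
  have hco : ∀ {y : G}, (∀ t : ℕ, t.Prime → t ∣ orderOf y → t ∉ ({p} : Set ℕ)) →
      (Nat.card (Subgroup.zpowers y)).Coprime p := fun {y} h => by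
    rw [Nat.card_zpowers]
    exact Nat.Coprime.symm ((Nat.Prime.coprime_iff_not_dvd hp.out).2 fun hd => h p hp.out hd rfl)
  have hSc : ∀ {y z : G}, y ∈ sigmaCore M → (∀ t : ℕ, t.Prime → t ∣ orderOf y → t ∉ ({p} : Set ℕ)) → z ∈ S →
      Commute y z := fun {y z} hy h hz => by
    have h1 := TypePBasic.nilpotent_coprime_commute (H := S) (X := Subgroup.zpowers y) d.S_le
      (Subgroup.zpowers_le.2 hy) (by
        obtain ⟨i, hi⟩ := IsPGroup.iff_card.1 d.syl.isPGroup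
        rw [hi]
        exact ((hco h).pow_right i).symm)
    exact (Subgroup.mem_centralizer_iff.1 (h1 (Subgroup.mem_zpowers y)) z hz).symm
  have ha₁S := hS (haσ ha₁) ha₁π
  have hb₁S := hS (hbσ hb₁) hb₁π
  have hYM : ∀ {y : G}, y ∈ sigmaCore M → (∀ t : ℕ, t.Prime → t ∣ orderOf y → t ∉ ({p} : Set ℕ)) →
      y ∈ sigmaCore M ⊓ N := fun hy h =>
    ⟨hy, ((d.coprime_le (Subgroup.zpowers_le.2 hy) (hco h)) (Subgroup.mem_zpowers _)).2⟩
  have hYab : IsMulCommutative ↥(sigmaCore M ⊓ N) :=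
    nilpotent_abelian hG d.coatomN inf_le_right (isNilpotent_of_le inf_le_left) fun q hq hd =>
      compl_pi hG d.coatomN d.compl hq (hd.trans (Subgroup.card_dvd_of_le
        (inf_le_inf_right _ (Subgroup.map_subtype_le _))))
  have h22 : Commute a₂ b₂ := congrArg Subtype.val (hYab.is_comm.comm
    (⟨a₂, hYM (haσ ha₂) ha₂π⟩ : ↥(sigmaCore M ⊓ N)) ⟨b₂, hYM (hbσ hb₂) hb₂π⟩)
  have h21 : Commute a₂ b₁ := hSc (haσ ha₂) ha₂π hb₁S
  have h12 : Commute b₂ a₁ := hSc (hbσ hb₂) hb₂π ha₁S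
  have he : ⁅a₁ * a₂, b₁ * b₂⁆ = ⁅a₁, b₁⁆ := by
    rw [commutatorElement_def, commutatorElement_def]
    calc a₁ * a₂ * (b₁ * b₂) * (a₁ * a₂)⁻¹ * (b₁ * b₂)⁻¹
        = a₁ * (a₂ * b₁) * b₂ * a₂⁻¹ * a₁⁻¹ * b₂⁻¹ * b₁⁻¹ := by group
      _ = a₁ * b₁ * (a₂ * b₂) * a₂⁻¹ * a₁⁻¹ * b₂⁻¹ * b₁⁻¹ := by rw [h21.eq]; group
      _ = a₁ * b₁ * (b₂ * a₁⁻¹) * b₂⁻¹ * b₁⁻¹ := by rw [h22.eq]; group
      _ = a₁ * b₁ * (a₁⁻¹ * b₂) * b₂⁻¹ * b₁⁻¹ := by rw [h12.inv_right.eq]
      _ = _ := by group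
  rw [he, commutatorElement_def]
  exact S.mul_mem (S.mul_mem (S.mul_mem ha₁S hb₁S) (S.inv_mem ha₁S)) (S.inv_mem hb₁S)

end Stray

end Cfsg.Agent.OddLocal.Kappa
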