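import Cfsg.Agent.Lib.OddLocal.TauTwoLines
import Mathlib

/-!
Fixed-point-free actions: invariant linear characters, Frobenius groups have no free
representation, and groups acting freely on the lines of a plane.
-/

set_option autoImplicit false
set_option linter.unusedSectionVars false
set_option linter.style.haveILetI false

open Cfsg
open Cfsg.Agent.Fusion (cj cj_cj cj_eq_self cj_mono card_cj)

namespace Cfsg.Agent.OddChar

universe u

variable {G : Type u} [Group G] [Finite G]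

/-- A homomorphism on `Y` invariant under a `p`-group without fixed points is trivial. -/
theorem invariant_hom_trivial {p : ℕ} [Fact p.Prime] {X Y : Subgroup G} {V : Type*} [Group V]
    (hX : IsPGroup p X) (hXY : X ≤ Subgroup.normalizer (Y : Set G)) (hpY : ¬ p ∣ Nat.card Y)
    (hC : Y ⊓ Subgroup.centralizer (X : Set G) = ⊥) (φ : ↥Y →* V)
    (hφ : ∀ x ∈ X, ∀ y y' : Y, (y' : G) = x * y * x⁻¹ → φ y' = φ y) : φ = 1 := by
  refine MonoidHom.ext fun y => ?_
  let S := {z : Y // φ z = φ y}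
  let e : S ≃ φ.ker :=
    { toFun := fun z => ⟨z.1 * y⁻¹, by rw [MonoidHom.mem_ker, map_mul, map_inv, z.2, mul_inv_cancel]⟩
      invFun := fun k => ⟨k.1 * y, by rw [map_mul, MonoidHom.mem_ker.1 k.2, one_mul]⟩
      left_inv := fun z => Subtype.ext (inv_mul_cancel_right _ _)
      right_inv := fun k => Subtype.ext (mul_inv_cancel_right _ _) }
  have hmem : ∀ (x : X) (z : Y), (x : G) * z * (x : G)⁻¹ ∈ Y := fun x z =>
    (Subgroup.mem_normalizer_iff.1 (hXY x.2) z).1 z.2
  letI : MulAction X S :=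
    { smul := fun x z => ⟨⟨_, hmem x z.1⟩, (hφ x x.2 z.1 ⟨_, hmem x z.1⟩ rfl).trans z.2⟩
      one_smul := fun z => Subtype.ext (Subtype.ext (by
        show ((1 : X) : G) * (z.1 : G) * ((1 : X) : G)⁻¹ = z.1
        simp))
      mul_smul := fun a b z => Subtype.ext (Subtype.ext (by
        show ((a * b : X) : G) * (z.1 : G) * ((a * b : X) : G)⁻¹ =
          (a : G) * ((b : G) * (z.1 : G) * (b : G)⁻¹) * (a : G)⁻¹
        simp [mul_assoc])) }
  have hne : (MulAction.fixedPoints X S).Nonempty := by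
    by_contra h
    have hmod := hX.card_modEq_card_fixedPoints (α := S)
    rw [Set.not_nonempty_iff_eq_empty] at h
    rw [h, Nat.card_coe_set_eq, Set.ncard_empty, Nat.card_congr e] at hmod
    exact hpY ((Nat.modEq_zero_iff_dvd.1 hmod).trans (Subgroup.card_subgroup_dvd_card φ.ker))
  obtain ⟨z, hz⟩ := hne
  have hzC : (z.1 : G) ∈ Y ⊓ Subgroup.centralizer (X : Set G) := by
    refine ⟨z.1.2, Subgroup.mem_centralizer_iff.2 fun x hx => ?_⟩
    have h := congrArg (fun w : S => (w.1 : G)) (hz ⟨x, hx⟩)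
    change x * (z.1 : G) * x⁻¹ = z.1 at h
    exact mul_inv_eq_iff_eq_mul.1 h
  rw [hC, Subgroup.mem_bot] at hzC
  rw [MonoidHom.one_apply, ← z.2, show z.1 = 1 from Subtype.ext hzC, map_one]

/-- A Frobenius group `X ⟨h⟩` acting without fixed points of `X` and of `h`. -/
theorem frobenius_trick {Γ V : Type*} [Group Γ] [CommGroup V] (f : Γ →* MulAut V) (X : Subgroup Γ) [Finite X]
    {h : Γ} {r : ℕ} (hr : 0 < r) (hhr : h ^ r = 1) (hn : h ∈ Subgroup.normalizer (X : Set Γ))
    (hfree : ∀ k, 0 < k → k < r → ∀ a ∈ X, a * h ^ k = h ^ k * a → a = 1)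
    (hX : ∀ v : V, (∀ a ∈ X, f a v = v) → v = 1) (hh : ∀ v : V, f h v = v → v = 1) (v : V) :
    v ^ Nat.card X = 1 := by
  classical
  haveI := Fintype.ofFinite X
  have happ : ∀ a b : Γ, ∀ u : V, f (a * b) u = f a (f b u) := fun a b u => by rw [map_mul]; rfl
  -- the norm of a vector under `h`
  have hN : ∀ u : V, ∏ k ∈ Finset.range r, f (h ^ k) u = 1 := fun u => by
    refine hh _ ?_
    rw [map_prod]
    have e1 := Finset.prod_range_succ (fun k => f (h ^ k) u) r
    have e2 := Finset.prod_range_succ' (fun k => f (h ^ k) u) r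
    rw [e1, hhr, pow_zero] at e2
    refine (Finset.prod_congr rfl fun k _ => ?_).trans (mul_right_cancel e2).symm
    rw [← happ, pow_succ']
  have h1 : ∏ a : X, ∏ k ∈ Finset.range r, f ((a : Γ) * h ^ k * (a : Γ)⁻¹) v = 1 :=
    Finset.prod_eq_one fun a _ => by
      rw [Finset.prod_congr rfl fun k _ => by rw [happ, happ], ← map_prod, hN, map_one]
  rw [Finset.prod_comm, ← Finset.prod_erase_mul _ _ (Finset.mem_range.2 hr)] at h1
  rw [Finset.prod_eq_one, one_mul] at h1
  · rw [← h1, Finset.prod_congr rfl (g := fun _ => v) fun a _ => by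
      rw [pow_zero, mul_one, mul_inv_cancel, map_one]; rfl, Finset.prod_const, Finset.card_univ,
      Nat.card_eq_fintype_card]
  intro k hk
  obtain ⟨hk0, hkr⟩ := Finset.mem_erase.1 hk
  have hnk := pow_mem hn k
  let φ : X → X := fun a => ⟨(a : Γ) * (h ^ k * (a : Γ)⁻¹ * (h ^ k)⁻¹),
    X.mul_mem a.2 ((Subgroup.mem_normalizer_iff.1 hnk _).1 (X.inv_mem a.2))⟩
  have hinj : Function.Injective φ := fun a b e => by
    have e' : (a : Γ) * (h ^ k * (a : Γ)⁻¹ * (h ^ k)⁻¹) = b * (h ^ k * (b : Γ)⁻¹ * (h ^ k)⁻¹) :=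
      congrArg Subtype.val e
    have e2 : ((b : Γ)⁻¹ * a) * h ^ k = h ^ k * ((b : Γ)⁻¹ * a) := by
      calc ((b : Γ)⁻¹ * a) * h ^ k
          = (b : Γ)⁻¹ * ((a : Γ) * (h ^ k * (a : Γ)⁻¹ * (h ^ k)⁻¹)) * (h ^ k * a) := by group
        _ = _ := by rw [e']; group
    have e3 := hfree k (Nat.pos_of_ne_zero hk0) (Finset.mem_range.1 hkr) _ (X.mul_mem (X.inv_mem b.2) a.2) e2
    exact Subtype.ext (inv_mul_eq_one.1 e3).symm
  calc ∏ a : X, f ((a : Γ) * h ^ k * (a : Γ)⁻¹) v = ∏ a : X, f ((φ a : X) : Γ) (f (h ^ k) v) :=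
        Finset.prod_congr rfl fun a _ => by
          rw [← happ]
          congr 2
          show _ = (a : Γ) * (h ^ k * (a : Γ)⁻¹ * (h ^ k)⁻¹) * h ^ k
          group
    _ = ∏ b : X, f (b : Γ) (f (h ^ k) v) :=
        Fintype.prod_bijective φ (Finite.injective_iff_bijective.1 hinj) _ _ fun _ => rfl
    _ = 1 := hX _ fun a ha => by
        rw [map_prod]
        exact (Finset.prod_congr rfl fun b _ => (happ _ _ _).symm).trans
          (Fintype.prod_equiv (Equiv.mulLeft ⟨a, ha⟩) _ _ fun _ => rfl)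

/-- An element of odd order fixes each member of an invariant family without three distinct members. -/
theorem fix_of_small {α : Type*} {P : α → Prop} (hsmall : ∀ a b c, P a → P b → P c → a = b ∨ a = c ∨ b = c)
    {act : G → α → α} (hone : ∀ a, act 1 a = a) (hmul : ∀ g h a, act (g * h) a = act g (act h a))
    {g : G} (hodd : Odd (orderOf g)) (hg : ∀ a, P a → P (act g a)) {a : α} (ha : P a) : act g a = a := by
  obtain ⟨k, hk⟩ := hodd
  by_contra hne
  have h2 : act (g * g) a = a := by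
    rw [hmul]
    rcases hsmall a (act g a) (act g (act g a)) ha (hg _ ha) (hg _ (hg _ ha)) with h | h | h
    · exact absurd h.symm hne
    · exact h.symm
    · exfalso
      refine hne ?_
      have h' := congrArg (act g⁻¹) h
      rw [← hmul, ← hmul, inv_mul_cancel, hone, hone] at h'
      exact h'.symm
  have hp : ∀ j : ℕ, act ((g * g) ^ j) a = a := fun j => by
    induction j with
    | zero => rw [pow_zero, hone]
    | succ j ih => rw [pow_succ, hmul, h2, ih]
  refine hne ?_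
  calc act g a = act ((g * g) ^ (k + 1)) a := by
        congr 1
        rw [← sq, ← pow_mul, show 2 * (k + 1) = orderOf g + 1 by omega, pow_succ, pow_orderOf_eq_one, one_mul]
    _ = a := hp _

variable {t : ℕ} [ht : Fact t.Prime] {M A : Subgroup G}

open Cfsg.Agent.OddLocal.TauTwo in
/-- The plane has `t + 1` lines. -/
theorem card_lines_sq (s : Setup t M A) :
    Nat.card {X : Subgroup G // X ≤ A ∧ Nat.card X = t} = t + 1 := by
  classical
  let Ls := {X : Subgroup G // X ≤ A ∧ Nat.card X = t}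
  have hsub : ∀ (X : Ls) (a : G), a ∈ X.1 → a ≠ 1 → Subgroup.zpowers a = X.1 := fun X a ha ha1 =>
    Subgroup.eq_of_le_of_card_ge (Subgroup.zpowers_le.2 ha) (by
      rw [X.2.2, Nat.card_zpowers, orderOf_eq_prime (s.elem.2 a (X.2.1 ha)) ha1])
  have hb : Function.Bijective (fun w : (X : Ls) × {a : X.1 // a ≠ 1} =>
      (⟨⟨w.2.1, w.1.2.1 w.2.1.2⟩, fun e => w.2.2 (Subtype.ext (congrArg (fun z : A => (z : G)) e :))⟩ :
        {a : A // a ≠ 1})) := by
    constructor
    · rintro ⟨X, a, ha⟩ ⟨Y, b, hb⟩ e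
      have e' : (a : G) = b := congrArg (fun z : {a : A // a ≠ 1} => ((z : A) : G)) e
      have hXY : X = Y := Subtype.ext (by
        rw [← hsub X a a.2 fun h => ha (Subtype.ext h), ← hsub Y b b.2 fun h => hb (Subtype.ext h), e'])
      subst hXY
      exact Sigma.ext rfl (heq_of_eq (Subtype.ext (Subtype.ext e')))
    · rintro ⟨⟨a, ha⟩, ha1⟩
      have ha1' : a ≠ 1 := fun e => ha1 (Subtype.ext e)
      exact ⟨⟨⟨Subgroup.zpowers a, Subgroup.zpowers_le.2 ha, by
        rw [Nat.card_zpowers, orderOf_eq_prime (s.elem.2 a ha) ha1']⟩,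
        ⟨a, Subgroup.mem_zpowers a⟩, fun e => ha1' (congrArg Subtype.val e)⟩, rfl⟩
  have hne : ∀ (Y : Subgroup G) (n : ℕ), Nat.card Y = n → Nat.card {a : Y // a ≠ 1} = n - 1 := fun Y n h => by
    haveI := Fintype.ofFinite Y
    rw [Nat.card_eq_fintype_card, Fintype.card_subtype_compl, Fintype.card_subtype_eq, ← Nat.card_eq_fintype_card, h]
  haveI := Fintype.ofFinite Ls
  have h := Nat.card_congr (Equiv.ofBijective _ hb)
  rw [Nat.card_sigma, Finset.sum_congr rfl fun (X : Ls) _ => hne X.1 t X.2.2, Finset.sum_const, smul_eq_mul,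
    Finset.card_univ, ← Nat.card_eq_fintype_card, hne A _ s.card] at h
  have h2 := ht.out.two_le
  have e : t ^ 2 - 1 = (t + 1) * (t - 1) := by
    rw [← Nat.sq_sub_sq, one_pow]
  rw [e] at h
  exact Nat.eq_of_mul_eq_mul_right (by omega) h

open Cfsg.Agent.OddLocal.TauTwo in
/-- A solvable group of odd order acting without fixed points on a plane, with one line moved by all its
elements, has order at most `(t + 1) / 2`. -/
theorem free_bound (s : Setup t M A) {W : Subgroup G} (hWA : W ≤ Subgroup.normalizer (A : Set G))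
    (hsol : Group.IsSolvable W) (hW1 : W ≠ ⊥) (hodd : Odd (Nat.card W)) (hco : ¬ t ∣ Nat.card W)
    (hfree : ∀ g ∈ W, g ≠ 1 → ∀ a ∈ A, g * a = a * g → a = 1)
    {L₀ : Subgroup G} (hL₀ : L₀ ≤ A) (c₀ : Nat.card L₀ = t)
    (hL₀f : ∀ g ∈ W, g ∈ Subgroup.normalizer (L₀ : Set G) → g = 1) : 2 * Nat.card W ≤ t + 1 := by
  classical
  have hA := s.elem
  let P : Subgroup G → Prop := fun X => X ≤ A ∧ Nat.card X = t
  have hoddel : ∀ g ∈ W, Odd (orderOf g) := fun g hg => hodd.of_dvd_nat (Subgroup.orderOf_dvd_natCard W hg)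
  have hinv : ∀ g ∈ W, ∀ X, P X → P (cj X g) := fun g hg X hX =>
    ⟨(cj_mono hX.1 g).trans (cj_eq_self (hWA hg)).le, (card_cj X g).trans hX.2⟩
  -- a nontrivial element fixes at most two lines
  have htwo : ∀ g ∈ W, g ≠ 1 → ∀ X Y Z, (P X ∧ cj X g = X) → (P Y ∧ cj Y g = Y) → (P Z ∧ cj Z g = Z) →
      X = Y ∨ X = Z ∨ Y = Z := by
    intro g hg hg1 X Y Z hX hY hZ
    by_contra hne
    push Not at hne
    refine hg1 (hL₀f g hg (normalizes_all s hX.1.1 hY.1.1 hZ.1.1 hX.1.2 hY.1.2 hZ.1.2 hne.1.symm hne.2.1.symm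
      hne.2.2.symm (Fusion.mem_normalizer_iff_cj.2 hX.2) (Fusion.mem_normalizer_iff_cj.2 hY.2)
      (Fusion.mem_normalizer_iff_cj.2 hZ.2) hL₀))
  -- a group fixing a line is small
  have hline : ∀ X, P X → (∀ g ∈ W, cj X g = X) → 2 * Nat.card W ≤ t + 1 := by
    intro X hX hfix
    haveI : IsCyclic X := isCyclic_of_prime_card hX.2
    have hle : W ≤ Subgroup.normalizer (X : Set G) := fun g hg => Fusion.mem_normalizer_iff_cj.2 (hfix g hg)
    let ρ : W →* MulAut X := X.normalizerMonoidHom.comp (Subgroup.inclusion hle)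
    have hρ : Function.Injective ρ := by
      rw [injective_iff_map_eq_one]
      intro g hg
      by_contra hg1
      obtain ⟨a, ha, ha1⟩ := X.bot_or_exists_ne_one.resolve_left fun h => by
        have := hX.2
        rw [h, Subgroup.card_bot] at this
        exact ht.out.ne_one this.symm
      refine ha1 (hfree g g.2 (fun e => hg1 (Subtype.ext e)) a (hX.1 ha) ?_)
      have h := congrArg (fun σ : MulAut X => (σ ⟨a, ha⟩ : G)) hg
      change (g : G) * a * (g : G)⁻¹ = a at h
      exact mul_inv_eq_iff_eq_mul.1 h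
    have hd := Subgroup.card_dvd_of_injective ρ hρ
    rw [IsCyclic.card_mulAut, hX.2, Nat.totient_prime ht.out] at hd
    obtain ⟨c, hc⟩ := hd
    obtain ⟨k, hk⟩ := hodd
    have h2 := ht.out.two_le
    rcases c with _ | _ | c
    · rw [mul_zero] at hc; omega
    · have hto := ht.out.eq_two_or_odd
      omega
    · have h3 : 2 * Nat.card W ≤ Nat.card W * (c + 1 + 1) := by
        rw [mul_comm 2]; exact Nat.mul_le_mul_left _ (by omega)
      omega
  -- a nontrivial normal abelian subgroup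
  obtain ⟨Z₀, hZW, hZ1, hZab, hZn⟩ : ∃ Z₀ : Subgroup G, Z₀ ≤ W ∧ Z₀ ≠ ⊥ ∧ IsMulCommutative Z₀ ∧
      W ≤ Subgroup.normalizer (Z₀ : Set G) := by
    have hex := (Group.isSolvable_def W).1 hsol
    set n := Nat.find hex with hn
    have h0 : n ≠ 0 := fun h => hW1 (by
      have h1 := Nat.find_spec hex
      rw [← hn, h, derivedSeries_zero] at h1
      rw [← Subgroup.range_subtype W, MonoidHom.range_eq_map, h1, Subgroup.map_bot])
    obtain ⟨j, hj⟩ := Nat.exists_eq_succ_of_ne_zero h0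
    have hj1 : derivedSeries W j ≠ ⊥ := Nat.find_min hex (by omega)
    refine ⟨(derivedSeries W j).map W.subtype, Subgroup.map_subtype_le _,
      fun h => hj1 ((Subgroup.map_eq_bot_iff_of_injective _ W.subtype_injective).1 h), ⟨⟨fun a b => ?_⟩⟩, ?_⟩
    · obtain ⟨a', ha', ea⟩ := a.2
      obtain ⟨b', hb', eb⟩ := b.2
      have h1 := Subgroup.commutator_mem_commutator ha' hb'
      rw [← derivedSeries_succ, show j + 1 = n from hj.symm, hn, Nat.find_spec hex, Subgroup.mem_bot,
        commutatorElement_eq_one_iff_mul_comm] at h1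
      refine Subtype.ext ?_
      show (a : G) * b = b * a
      rw [← ea, ← eb, ← map_mul, ← map_mul, h1]
    · exact OddLocal.Bender.le_normalizer_map _
  haveI := hZab
  by_cases hzfix : ∃ z ∈ Z₀, z ≠ 1 ∧ ∃ X, P X ∧ cj X z = X
  · obtain ⟨z, hz, hz1, X₁, hX₁, hzX⟩ := hzfix
    let Q : Subgroup G → Prop := fun X => P X ∧ cj X z = X
    have hQs : ∀ X Y Z, Q X → Q Y → Q Z → X = Y ∨ X = Z ∨ Y = Z := htwo z (hZW hz) hz1
    have hcjm : ∀ a b : G, ∀ X : Subgroup G, cj X (a * b) = cj (cj X b) a := fun a b X => (cj_cj X b a).symm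
    have hQfix : ∀ c ∈ Z₀, ∀ X, Q X → cj X c = X := fun c hc X hX =>
      fix_of_small (act := fun g X => cj X g) hQs Fusion.cj_one hcjm (hoddel c (hZW hc)) (fun Y hY =>
        ⟨hinv c (hZW hc) Y hY.1, by
          have e : z * c = c * z := congrArg Subtype.val (mul_comm' (⟨z, hz⟩ : Z₀) ⟨c, hc⟩)
          rw [cj_cj, e, ← cj_cj, hY.2]⟩) hX
    let R : Subgroup G → Prop := fun X => P X ∧ ∀ c ∈ Z₀, cj X c = X
    have hRs : ∀ X Y Z, R X → R Y → R Z → X = Y ∨ X = Z ∨ Y = Z := fun X Y Z hX hY hZ =>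
      hQs X Y Z ⟨hX.1, hX.2 z hz⟩ ⟨hY.1, hY.2 z hz⟩ ⟨hZ.1, hZ.2 z hz⟩
    refine hline X₁ hX₁ fun g hg => fix_of_small (act := fun g X => cj X g) hRs Fusion.cj_one hcjm (hoddel g hg)
      (fun Y hY => ⟨hinv g hg Y hY.1, fun c hc => ?_⟩) ⟨hX₁, fun c hc => hQfix c hc X₁ ⟨hX₁, hzX⟩⟩
    rw [cj_cj, show c * g = g * (g⁻¹ * c * g) by group, ← cj_cj, hY.2]
    have h := (Subgroup.mem_normalizer_iff.1 (hZn (W.inv_mem hg)) c).1 hc
    rwa [inv_inv] at h
  push Not at hzfix
  by_cases hfix : ∃ g ∈ W, g ≠ 1 ∧ ∃ X, P X ∧ cj X g = X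
  · exfalso
    obtain ⟨g, hg, hg1, X₁, hX₁, hgX⟩ := hfix
    obtain ⟨r, hr, hrd⟩ := Nat.exists_prime_and_dvd (fun h => hg1 (orderOf_eq_one_iff.1 h) : orderOf g ≠ 1)
    obtain ⟨i, hgr⟩ : ∃ i, orderOf (g ^ i) = r := ⟨_, orderOf_pow_orderOf_div (orderOf_pos g).ne' hrd⟩
    haveI := Fact.mk hr
    set h := g ^ i with hh
    have hhW : h ∈ W := W.pow_mem hg i
    have hh1 : h ≠ 1 := fun e => hr.ne_one (by rw [← hgr, e, orderOf_one])
    have hhX : cj X₁ h = X₁ :=
      Fusion.mem_normalizer_iff_cj.1 ((Subgroup.normalizer _).pow_mem (Fusion.mem_normalizer_iff_cj.2 hgX) i)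
    have hC : ∀ c ∈ Z₀, h * c = c * h → c = 1 := fun c hc hhc => by
      by_contra hc1
      have hcW := hZW hc
      have hfix' : ∀ j : ℕ, cj (cj X₁ (c ^ j)) h = cj X₁ (c ^ j) := fun j => by
        rw [cj_cj, ((Commute.pow_right (show Commute h c from hhc) j)).eq, ← cj_cj, hhX]
      have hne : ∀ c ∈ Z₀, c ≠ 1 → cj X₁ c ≠ X₁ := fun c hc hc1 e => hzfix c hc hc1 X₁ hX₁ e
      have hc2 : c * c ≠ 1 := fun e => by
        have h2 : orderOf c = 1 := by
          have hd : orderOf c ∣ 2 := orderOf_dvd_of_pow_eq_one (by rw [sq, e])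
          rcases (Nat.dvd_prime Nat.prime_two).1 hd with h2 | h2
          · exact h2
          · exact absurd (h2 ▸ hoddel c hcW) (by decide)
        exact hc1 (orderOf_eq_one_iff.1 h2)
      rcases htwo h hhW hh1 X₁ (cj X₁ (c ^ 1)) (cj X₁ (c ^ 2)) ⟨hX₁, hhX⟩
        ⟨hinv _ (W.pow_mem hcW 1) _ hX₁, hfix' 1⟩ ⟨hinv _ (W.pow_mem hcW 2) _ hX₁, hfix' 2⟩ with e | e | e
      · rw [pow_one] at e
        exact hne c hc hc1 e.symm
      · rw [sq] at e
        exact hne _ (Z₀.mul_mem hc hc) hc2 e.symm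
      · rw [pow_one, sq, ← cj_cj] at e
        have e' := congrArg (fun Y => cj Y c⁻¹) e
        simp only [Fusion.cj_cj_inv] at e'
        exact hne c hc hc1 e'.symm
    haveI := hA.1
    set N := Subgroup.normalizer (A : Set G) with hN
    letI : CommGroup A := { (inferInstance : Group A) with mul_comm := fun a b => mul_comm' a b }
    have hfixed : ∀ g ∈ W, g ≠ 1 → ∀ v : A, g * v * g⁻¹ = v → v = 1 := fun g hg hg1 v hv =>
      Subtype.ext (hfree g hg hg1 v v.2 (mul_inv_eq_iff_eq_mul.1 hv))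
    have htrick := frobenius_trick (A.normalizerMonoidHom : N →* MulAut A) (Z₀.subgroupOf N)
      (h := ⟨h, hWA hhW⟩) (r := r) hr.pos (Subtype.ext (by
        show h ^ r = 1
        rw [← hgr, pow_orderOf_eq_one])) (Subgroup.mem_normalizer_iff.2 fun x => by
        rw [Subgroup.mem_subgroupOf, Subgroup.mem_subgroupOf]
        exact Subgroup.mem_normalizer_iff.1 (hZn hhW) x) (fun k hk0 hkr a ha e => by
        refine Subtype.ext (hC a ha ?_)
        have e' : Commute (a : G) (h ^ k) := congrArg Subtype.val e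
        have hcop : k.Coprime (orderOf h) := by
          rw [hgr]
          exact (Nat.coprime_of_lt_prime hk0.ne' hkr hr).symm
        obtain ⟨j, hj⟩ := exists_pow_eq_self_of_coprime hcop
        have e2 := e'.pow_right j
        rw [hj] at e2
        exact e2.symm.eq) (fun v hv => by
        obtain ⟨z, hz, hz1⟩ := Z₀.bot_or_exists_ne_one.resolve_left hZ1
        exact hfixed z (hZW hz) hz1 v (congrArg Subtype.val (hv ⟨z, hWA (hZW hz)⟩ hz) :))
      (fun v hv => hfixed h hhW hh1 v (congrArg Subtype.val hv :))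
    obtain ⟨a, ha, ha1⟩ := A.bot_or_exists_ne_one.resolve_left s.ne_bot
    refine ha1 ?_
    have h1 : a ^ Nat.card Z₀ = 1 := by
      have h' := htrick ⟨a, ha⟩
      rw [Nat.card_congr (Subgroup.subgroupOfEquivOfLe ((hZW.trans hWA) : Z₀ ≤ N)).toEquiv] at h'
      exact (congrArg Subtype.val h' :)
    have h2 := Nat.dvd_gcd (orderOf_dvd_of_pow_eq_one h1) (orderOf_dvd_of_pow_eq_one (hA.2 a ha))
    rw [((Nat.Prime.coprime_iff_not_dvd ht.out).2 fun hd => hco (hd.trans (Subgroup.card_dvd_of_le hZW))).symm.gcd_eq_one,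
      Nat.dvd_one] at h2
    exact orderOf_eq_one_iff.1 h2
  push Not at hfix
  -- the number of lines
  let Ls := {X : Subgroup G // P X}
  letI : MulAction W Ls :=
    { smul := fun g X => ⟨cj X.1 g, hinv g g.2 X.1 X.2⟩
      one_smul := fun X => Subtype.ext (Fusion.cj_one _)
      mul_smul := fun a b X => Subtype.ext (cj_cj X.1 (b : G) (a : G)).symm }
  have hstab : ∀ X : Ls, MulAction.stabilizer W X = ⊥ := fun X => eq_bot_iff.2 fun g hg => by
    rw [Subgroup.mem_bot]
    by_contra hg1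
    exact hfix g g.2 (fun e => hg1 (Subtype.ext e)) X.1 X.2 (congrArg Subtype.val hg)
  have hdvd : Nat.card W ∣ Nat.card Ls := by
    rw [Nat.card_congr (MulAction.selfEquivOrbitsQuotientProd hstab), Nat.card_prod]
    exact dvd_mul_left _ _
  have hcard : Nat.card Ls = t + 1 := card_lines_sq s
  rw [hcard] at hdvd
  obtain ⟨c, hc⟩ := hdvd
  obtain ⟨k, hk⟩ := hodd
  have hto : t % 2 = 1 := (Nat.Prime.eq_two_or_odd ht.out).resolve_left s.ne_two
  rcases c with _ | _ | c
  · omega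
  · omega
  · nlinarith

end Cfsg.Agent.OddChar
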