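import Cfsg.Agent.Lib.OddChar.KappaData
import Cfsg.Agent.Lib.OddChar.TauTwoFree
import Cfsg.Agent.Lib.OddLocal.SylowStructure
import Cfsg.Agent.Lib.Char.PPartElem
import Cfsg.Agent.Lib.Char.DegreeDvd

/-!
The configuration with `κ`-primes in `L` and `L_σ` nilpotent is impossible.
-/

set_option autoImplicit false
set_option linter.unusedSectionVars false
set_option linter.style.haveILetI false

open Cfsg Cfsg.Agent.Char
open scoped ComplexConjugate commutatorElement
open Cfsg.Agent.Fusion (SylIn cj)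
open Cfsg.Agent.OddLocal

namespace Cfsg.Agent.OddChar

universe u

/-- The Dade map is additive. -/
theorem dade_map_add {G : Type u} [Group G] (A : Set G) (L : Subgroup G) (R : G → Subgroup G) (α β : L → ℂ) :
    dadeIsometry A L R (α + β) = dadeIsometry A L R α + dadeIsometry A L R β := funext fun g => by
  simp only [Pi.add_apply, dadeIsometry]
  split <;> simp

/-- The Dade map commutes with sums. -/
theorem dade_map_sum {G : Type u} [Group G] (A : Set G) (L : Subgroup G) (R : G → Subgroup G) {ι : Type*}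
    (T : Finset ι) (f : ι → L → ℂ) :
    dadeIsometry A L R (∑ i ∈ T, f i) = ∑ i ∈ T, dadeIsometry A L R (f i) := by
  classical
  induction T using Finset.induction_on with
  | empty => funext g; simp [dadeIsometry]
  | insert a T ha ih => rw [Finset.sum_insert ha, Finset.sum_insert ha, dade_map_add, ih]

namespace KConf

variable {G : Type u} [Group G] [Fintype G] {t : ℕ} [ht : Fact t.Prime] {M L A E S K : Subgroup G} {w : G}
  (c : KConf t M L A E S w K) (hnil : Group.IsNilpotent ↥(sigmaCore L))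
include c hnil

theorem stray : Kappa.Stray t L M A S w where
  coatom := c.pre.coatomL
  coatomN := c.pre.coatomM
  setup := c.pre.setup
  compl := by rw [c.pre.E_eq]; exact c.pre.complM
  B_le := c.pre.A_le.trans c.pre.E_eq.ge
  mem := c.w_core
  order := c.pre.w_order
  centralizer := c.pre.centralizer_le
  nilpotent := hnil
  syl := c.pre.syl
  S_le := c.pre.S_core
  B_S := c.pre.A_S
  normal := SigmaSubgroups.sylow_of_nilpotent_normal hnil Sig.le_normalizer_piCoreOf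
    (c.pre.syl.mono c.pre.S_core le_top)
  tau := c.pre.tau

theorem bound_cases : ¬ IsMulCommutative ↥S ∧
    (Nat.card K ∣ t - 1 ∨ (Nat.card S = t ^ 3 ∧ Nat.card K ∣ t + 1)) :=
  (c.stray hnil).typeV_bound c.decomp c.K_ne rfl

theorem S_not_le : ¬ S ≤ M := fun h => (c.bound_cases hnil).1
  (TauTwo.pgroup_abelian c.pre.minSimple c.pre.coatomM c.pre.setup.not_sigma c.pre.syl.isPGroup h)

/-- `w` spans the line of `A` centralising `M_σ`. -/
theorem w_line : Subgroup.zpowers w = A ⊓ Subgroup.centralizer (sigmaCore M : Set G) ∧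
    sigmaCore M ≤ Subgroup.centralizer ({w} : Set G) := by
  have hna := (c.bound_cases hnil).1
  obtain ⟨-, -, hall⟩ := TauTwo.nonabelian_case c.pre.setup c.pre.complM c.pre.A_le c.pre.tau fun S' hS' => hna (by
    obtain ⟨g, -, rfl⟩ := (Fusion.sylIn_top S').conj_eq c.pre.syl
    haveI := hS'
    exact Subgroup.map_isMulCommutative _ _)
  have he : Subgroup.zpowers w = A ⊓ Subgroup.centralizer (sigmaCore M : Set G) := by
    by_contra hne
    have h := (hall _ (Subgroup.zpowers_le.2 (c.pre.A_le c.pre.w_mem))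
      (by rw [Nat.card_zpowers, c.pre.w_order]) hne).1
    rw [Sig.centralizer_zpowers] at h
    exact c.pre.w_fix (h ▸ bot_le)
  refine ⟨he, fun y hy => Subgroup.mem_centralizer_singleton_iff.2 ?_⟩
  exact Subgroup.mem_centralizer_iff.1 (he.le (Subgroup.mem_zpowers w)).2 y hy

/-- The elements of `L_σ` of order prime to `t` are central in it, and each element has a `t`-part in `S`. -/
theorem decompose {h : G} (hh : h ∈ sigmaCore L) :
    ∃ a ∈ S, ∃ y ∈ sigmaCore L, h = a * y ∧ ∀ z ∈ sigmaCore L, y * z = z * y := by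
  haveI := hnil
  have hG := c.pre.minSimple
  have d := c.stray hnil
  have hsmall : ∀ y ∈ sigmaCore L, ¬ t ∣ orderOf y → y ∈ sigmaCore L ⊓ M := fun y hy hd =>
    ⟨hy, (d.coprime_le (Subgroup.zpowers_le.2 hy) (by
      rw [Nat.card_zpowers]; exact ((Nat.Prime.coprime_iff_not_dvd ht.out).2 hd).symm)
      (Subgroup.mem_zpowers y)).2⟩
  have hab : IsMulCommutative ↥(sigmaCore L ⊓ M) :=
    TauTwo.nilpotent_abelian hG c.pre.coatomM inf_le_right (Solv.isNilpotent_of_le (inf_le_left : sigmaCore L ⊓ M ≤ sigmaCore L) hnil)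
      fun q hq hd => Sig.compl_pi hG c.pre.coatomM c.pre.complM hq
        (hd.trans (Subgroup.card_dvd_of_le ((inf_le_inf_right M c.core_le).trans c.pre.E_eq.le)))
  have hsplit : ∀ z ∈ sigmaCore L, ∃ a ∈ S, ∃ y ∈ sigmaCore L, z = a * y ∧ ¬ t ∣ orderOf y := fun z hz => by
    obtain ⟨y, hy, -, ⟨k, hk⟩, hr⟩ := isPPart_ppt ht.out (⟨z, hz⟩ : sigmaCore L)
    refine ⟨_, ?_, (y : G), y.2, (congrArg Subtype.val hy).symm, by rwa [Subgroup.orderOf_coe]⟩
    have hp : IsPGroup t ↥(Subgroup.zpowers ((ppt t (⟨z, hz⟩ : sigmaCore L) : sigmaCore L) : G)) :=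
      IsPGroup.of_card (n := k) (by rw [Nat.card_zpowers, Subgroup.orderOf_coe, hk])
    obtain ⟨m, hm, hle⟩ := (c.pre.syl.mono c.pre.S_core le_top).conj_le hp
      (Subgroup.zpowers_le.2 (ppt t (⟨z, hz⟩ : sigmaCore L)).2)
    rw [Fusion.cj_le_iff, Fusion.cj_eq_self (d.normal (L.inv_mem (c.core_le hm)))] at hle
    exact hle (Subgroup.mem_zpowers _)
  obtain ⟨a, ha, y, hy, e, hyt⟩ := hsplit h hh
  refine ⟨a, ha, y, hy, e, fun z hz => ?_⟩
  obtain ⟨b, hb, y', hy', rfl, hyt'⟩ := hsplit z hz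
  have h1 : y * b = b * y := by
    have hcom := TypePBasic.nilpotent_coprime_commute (F := sigmaCore L) (c.pre.S_core) (Subgroup.zpowers_le.2 hy)
      (by
        obtain ⟨i, hi⟩ := IsPGroup.iff_card.1 c.pre.syl.isPGroup
        rw [hi, Nat.card_zpowers]
        exact ((Nat.Prime.coprime_iff_not_dvd ht.out).2 hyt).pow_left i)
    exact (Subgroup.mem_centralizer_iff.1 (hcom (Subgroup.mem_zpowers y)) b hb).symm
  have h2 : y * y' = y' * y :=
    congrArg Subtype.val (hab.is_comm.comm ⟨y, hsmall y hy hyt⟩ ⟨y', hsmall y' hy' hyt'⟩)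
  rw [← mul_assoc, h1, mul_assoc, h2, mul_assoc]

theorem derived_le : ⁅sigmaCore L, sigmaCore L⁆ ≤ ⁅S, S⁆ := by
  rw [Subgroup.commutator_le]
  intro g hg g' hg'
  obtain ⟨a, ha, y, hy, rfl, hyc⟩ := c.decompose hnil hg
  obtain ⟨b, hb, y', hy', rfl, hyc'⟩ := c.decompose hnil hg'
  have e : ⁅a * y, b * y'⁆ = ⁅a, b⁆ := by
    have h1 : Commute y (b * y') := hyc _ hg'
    have h2 : Commute y' a := hyc' _ (c.pre.S_core ha)
    calc ⁅a * y, b * y'⁆ = a * (y * (b * y') * y⁻¹) * a⁻¹ * (b * y')⁻¹ := by rw [commutatorElement_def]; group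
      _ = a * b * (y' * a⁻¹ * y'⁻¹) * b⁻¹ := by rw [h1.eq]; group
      _ = ⁅a, b⁆ := by rw [h2.inv_right.eq, commutatorElement_def]; group
  rw [e]
  exact Subgroup.commutator_mem_commutator ha hb

theorem card_star : Nat.card ↥(sigmaCore L ⊓ Subgroup.centralizer (K : Set G)) = t := by
  obtain ⟨i, hi⟩ := IsPGroup.iff_card.1 (c.pre.syl.isPGroup.to_le
    ((c.star_le.trans (c.derived_le hnil)).trans (Subgroup.commutator_le_self S)))
  have hp := c.star_prime
  rw [hi] at hp ⊢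
  rw [Nat.Prime.eq_one_of_pow hp, pow_one]

section L

variable [Fintype L] [Fintype ↥((sigmaCore L).subgroupOf L)]

/-- The centre of `L_σ`, and the subgroup `L_σ ∩ M`. -/
theorem center_facts :
    ∃ k : ℕ, (Subgroup.center ↥((sigmaCore L).subgroupOf L)).index = t ^ k ∧
      t ∣ Nat.card (Subgroup.center ↥((sigmaCore L).subgroupOf L)) ∧
      t * Nat.card ↥(sigmaCore L ⊓ M) ≤ Nat.card (sigmaCore L) := by
  set Z := Subgroup.center ↥((sigmaCore L).subgroupOf L) with hZ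
  set S' : Subgroup ↥((sigmaCore L).subgroupOf L) := (S.subgroupOf L).subgroupOf ((sigmaCore L).subgroupOf L) with hS'
  have hSL : S ≤ L := c.pre.S_core.trans c.core_le
  have hSle : S.subgroupOf L ≤ ((sigmaCore L).subgroupOf L) := fun x hx => c.pre.S_core hx
  have hScard : Nat.card S' = Nat.card S := by rw [hS', Solv.card_subgroupOf hSle, Solv.card_subgroupOf hSL]
  have htop : S' ⊔ Z = ⊤ := eq_top_iff.2 fun x _ => by
    obtain ⟨a, ha, y, hy, e, hyc⟩ := c.decompose hnil (Subgroup.mem_subgroupOf.1 x.2)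
    rw [show x = (⟨⟨a, hSL ha⟩, c.pre.S_core ha⟩ : ((sigmaCore L).subgroupOf L)) * ⟨⟨y, c.core_le hy⟩, hy⟩ from Subtype.ext (Subtype.ext e)]
    refine Subgroup.mul_mem_sup ha (Subgroup.mem_center_iff.2 fun g => Subtype.ext (Subtype.ext ?_))
    exact (hyc ((g : L) : G) g.2).symm
  have hdvd : Z.index ∣ Nat.card S := by
    rw [← hScard, ← Subgroup.relIndex_top_right, ← htop, Subgroup.relIndex_sup_right]
    exact Subgroup.relIndex_dvd_card _ _
  obtain ⟨i, hi⟩ := IsPGroup.iff_card.1 c.pre.syl.isPGroup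
  rw [hi] at hdvd
  obtain ⟨k, -, hk⟩ := (Nat.dvd_prime_pow ht.out).1 hdvd
  refine ⟨k, hk, ?_, ?_⟩
  · have hne : RankTwo.omz t S ≠ ⊥ := RankTwo.omz_ne_bot c.pre.syl.isPGroup fun h =>
      c.pre.setup.ne_bot (le_bot_iff.1 (h ▸ c.pre.A_S))
    obtain ⟨z, hz, hz1⟩ := (RankTwo.omz t S).bot_or_exists_ne_one.resolve_left hne
    have hzZ : (⟨⟨z, hSL hz.1⟩, c.pre.S_core hz.1⟩ : ((sigmaCore L).subgroupOf L)) ∈ Z := Subgroup.mem_center_iff.2 fun g =>
      Subtype.ext (Subtype.ext (by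
        obtain ⟨a, ha, y, hy, e, hyc⟩ := c.decompose hnil (Subgroup.mem_subgroupOf.1 g.2)
        show ((g : L) : G) * z = z * ((g : L) : G)
        rw [e, mul_assoc, hyc z (c.pre.S_core hz.1), ← mul_assoc,
          Subgroup.mem_centralizer_iff.1 hz.2.1 a ha, mul_assoc]))
    refine (dvd_of_eq ?_).trans (Subgroup.orderOf_dvd_natCard _ hzZ)
    rw [← Subgroup.orderOf_coe, ← Subgroup.orderOf_coe]
    exact (orderOf_eq_prime hz.2.2 hz1).symm
  · set E' : Subgroup ↥((sigmaCore L).subgroupOf L) := ((sigmaCore L ⊓ M).subgroupOf L).subgroupOf ((sigmaCore L).subgroupOf L) with hE'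
    have hEc : Nat.card E' = Nat.card ↥(sigmaCore L ⊓ M) := by
      rw [hE', Solv.card_subgroupOf (show (sigmaCore L ⊓ M).subgroupOf L ≤ (sigmaCore L).subgroupOf L from fun x hx => hx.1), Solv.card_subgroupOf (inf_le_left.trans c.core_le)]
    have hZE : Z ≤ E' := fun z hz => ⟨z.2, c.pre.centralizer_le (Subgroup.mem_centralizer_singleton_iff.2
      (congrArg (fun x : ((sigmaCore L).subgroupOf L) => ((x : L) : G))
        (Subgroup.mem_center_iff.1 hz ⟨⟨w, c.core_le c.w_core⟩, c.w_core⟩)).symm)⟩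
    obtain ⟨j, -, hj⟩ := (Nat.dvd_prime_pow ht.out).1 (hk ▸ Subgroup.index_dvd_of_le hZE)
    have hj0 : j ≠ 0 := fun h => c.S_not_le hnil fun x hx => by
      have htop' : E' = ⊤ := Subgroup.index_eq_one.1 (by rw [hj, h, pow_zero])
      have hm : (⟨⟨x, hSL hx⟩, c.pre.S_core hx⟩ : ((sigmaCore L).subgroupOf L)) ∈ E' := htop' ▸ Subgroup.mem_top _
      exact hm.2
    have hmul := E'.card_mul_index
    rw [hEc, hj, Solv.card_subgroupOf c.core_le] at hmul
    rw [← hmul, mul_comm t]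
    exact Nat.mul_le_mul_left _ (Nat.le_self_pow hj0 t)

theorem card_E_le : Nat.card E ≤ Nat.card K * Nat.card ↥(sigmaCore L ⊓ M) := by
  have hEL : E ≤ L := c.pre.E_eq.ge.trans inf_le_left
  have h1 : (sigmaCore L).relIndex E * Nat.card ↥(sigmaCore L ⊓ E) = Nat.card E := by
    rw [← Subgroup.inf_relIndex_right, ← Solv.card_subgroupOf (inf_le_right : sigmaCore L ⊓ E ≤ E),
      Subgroup.relIndex, Subgroup.index_mul_card]
  have h2 : sigmaCore L ⊓ E = sigmaCore L ⊓ M := by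
    rw [← c.pre.E_eq, ← inf_assoc, inf_eq_left.2 c.core_le]
  rw [← h1, h2]
  refine Nat.mul_le_mul_right _ ?_
  rw [← c.index_eq]
  exact Subgroup.relIndex_le_of_le_right hEL Subgroup.index_ne_zero_of_finite

/-- The characters of `L_σ` have degree a power of `t`. -/
theorem deg_facts (θ : IrrCharacter ↥((sigmaCore L).subgroupOf L)) :
    ∃ j : ℕ, deg (θ : ↥((sigmaCore L).subgroupOf L) → ℂ) = t ^ j ∧ t ^ (2 * j + 1) ∣ Nat.card (sigmaCore L) := by
  obtain ⟨k, hk, hkZ, -⟩ := c.center_facts hnil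
  set Z := Subgroup.center ↥((sigmaCore L).subgroupOf L) with hZ
  have hd : deg (θ : ↥((sigmaCore L).subgroupOf L) → ℂ) ∣ t ^ k := hk ▸ deg_dvd_index_abelian_normal θ.2 Z
    fun a b => Subtype.ext (Subgroup.mem_center_iff.1 b.2 (a : ↥((sigmaCore L).subgroupOf L)))
  obtain ⟨j, -, hj⟩ := (Nat.dvd_prime_pow ht.out).1 hd
  refine ⟨j, hj, ?_⟩
  have hle : Z ≤ TwoDeg.cz θ := fun z hz => (TwoDeg.mem_cz_iff_comm θ z).2 fun x => by
    rw [← Subgroup.mem_center_iff.1 hz x, mul_inv_cancel_right, mul_inv_cancel]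
    exact one_mem _
  have h1 : Nat.card Z * deg (θ : ↥((sigmaCore L).subgroupOf L) → ℂ) ^ 2 ≤ Nat.card Z * Z.index := by
    rw [Subgroup.card_mul_index]
    exact (Nat.mul_le_mul_right _ (Nat.card_le_card_of_injective _ (Subgroup.inclusion_injective hle))).trans
      (TwoDeg.card_cz_mul_sq_le θ)
  have h2 : t ^ (2 * j) ≤ t ^ k := by
    rw [mul_comm, pow_mul, ← hj, ← hk]
    exact Nat.le_of_mul_le_mul_left h1 Nat.card_pos
  rw [← Solv.card_subgroupOf c.core_le, ← Z.card_mul_index, hk, pow_succ', mul_comm _ (t ^ k), mul_comm t]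
  exact mul_dvd_mul (pow_dvd_pow t ((Nat.pow_le_pow_iff_right ht.out.one_lt).1 h2)) hkZ

omit hnil in
open Classical in
/-- The relation for the reducible characters of degree `t` when there are more than `|K|` of them. -/
theorem rel_equal_degree {M₁ : Subgroup L} {b : ℕ} {χ : L → ℂ} {ε : ℂ} {μ : (L → ℂ) → (G → ℂ)}
    (hc : Coh ((sigmaCore L : Set G) \ {1}) L (supportR L) (famSet ((sigmaCore L).subgroupOf L) M₁ b) χ ε μ)
    (hχ1 : χ 1 = (((sigmaCore L).subgroupOf L).index : ℂ)) {T : Finset (L → ℂ)}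
    (hT : ↑T ⊆ famSet ((sigmaCore L).subgroupOf L) M₁ b) (hχT : χ ∈ T)
    (V : Finset (IrrCharacter ↥((sigmaCore L).subgroupOf L)))
    (hV : ∀ θ ∈ V, indFun _ (θ : ↥((sigmaCore L).subgroupOf L) → ℂ) ∉ famSet ((sigmaCore L).subgroupOf L) M₁ b ∧
      ¬ IsIrrCharacter L (indFun _ (θ : ↥((sigmaCore L).subgroupOf L) → ℂ)) ∧
      deg (θ : ↥((sigmaCore L).subgroupOf L) → ℂ) = t)
    (hVc : Nat.card K < V.card) (hN : 2 * t < ∑ ψ ∈ T, (deg ψ / ((sigmaCore L).subgroupOf L).index) ^ 2)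
    (hN' : 2 * Nat.card K < ∑ ψ ∈ T, (deg ψ / ((sigmaCore L).subgroupOf L).index) ^ 2) :
    ∀ θ ∈ V, classInner (dadeIsometry ((sigmaCore L : Set G) \ {1}) L (supportR L)
        (indFun _ (θ : ↥((sigmaCore L).subgroupOf L) → ℂ) - (deg (θ : ↥((sigmaCore L).subgroupOf L) → ℂ) : ℂ) • χ))
        (ε • μ χ) = -(deg (θ : ↥((sigmaCore L).subgroupOf L) → ℂ) : ℂ) := by
  haveI := c.normal
  have F := c.kernel
  set e := ((sigmaCore L).subgroupOf L).index with he
  set N := ∑ ψ ∈ T, (deg ψ / e) ^ 2 with hNdef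
  have hee : e = Nat.card K := c.index_eq
  set ψ : IrrCharacter ((sigmaCore L).subgroupOf L) → (L → ℂ) := fun θ => indFun ((sigmaCore L).subgroupOf L) (θ : ((sigmaCore L).subgroupOf L) → ℂ) with hψ
  have hch : ∀ θ, IsCharacter L (ψ θ) := fun θ => isCharacter_indFun ((sigmaCore L).subgroupOf L) (irr_isCharacter θ.2)
  have hdd := fun φ (hφ : φ ∈ T) => (F.famSet_deg M₁ b hχ1 φ (hT (Finset.mem_coe.2 hφ))).1
  have hψ1 : ∀ θ ∈ V, ψ θ 1 = (t : ℂ) * χ 1 := fun θ hθ => by
    rw [hψ, hχ1]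
    exact (deg_indFun θ e rfl).trans (by rw [(hV θ hθ).2.2])
  have horth : ∀ θ ∈ V, ∀ φ ∈ T, classInner (ψ θ) φ = 0 := fun θ hθ φ hφ =>
    indFun_orth_famSet θ (hV θ hθ).1 φ (hT (Finset.mem_coe.2 hφ))
  have hne : ∀ θ ∈ V, ∀ θ' ∈ V, θ ≠ θ' → classInner (ψ θ) (ψ θ') = 0 := fun θ _ θ' hθ' h =>
    indFun_inner_zero ((sigmaCore L).subgroupOf L) fun g e' => h ((c.fixed_of_reducible θ' (hV θ' hθ').2.1 g).symm.trans e').symm
  choose n hn hne' using fun θ : IrrCharacter ((sigmaCore L).subgroupOf L) => indFun_norm_le ((sigmaCore L).subgroupOf L) θ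
  -- the integers
  have hrel := fun θ (hθ : θ ∈ V) => hc.rel_ineq (F.famSet_supp M₁ b) hT hχT hdd
    (ψ := ψ θ) ⟨_, 0, hch θ, isCharacter_zero, (sub_zero _).symm⟩ (hψ1 θ hθ) (F.supp _) (horth θ hθ) (hn θ)
  choose! a ha hineq using hrel
  have hcong : ∀ θ ∈ V, ∀ θ' ∈ V, a θ = a θ' := by
    intro θ hθ θ' hθ'
    by_cases heq : θ = θ'
    · rw [heq]
    have hv : ∀ x : L, x ≠ 1 → (x : G) ∉ ((sigmaCore L : Set G) \ {1}) → (ψ θ - ψ θ') x = 0 := fun x hx1 hxA => by
      simp [hψ, F.supp (θ : ((sigmaCore L).subgroupOf L) → ℂ) x hx1 hxA, F.supp (θ' : ((sigmaCore L).subgroupOf L) → ℂ) x hx1 hxA]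
    obtain ⟨a', ha', hineq'⟩ := hc.rel_ineq (F.famSet_supp M₁ b) hT hχT hdd (ψ := ψ θ - ψ θ')
      ⟨_, _, hch θ, hch θ', rfl⟩ (d := 0) (by simp [hψ1 θ hθ, hψ1 θ' hθ']) hv
      (fun φ hφ => by rw [classInner_sub_left, horth θ hθ φ hφ, horth θ' hθ' φ hφ, sub_zero])
      (n := n θ + n θ') (by
        rw [classInner_sub_left, classInner_sub_right, classInner_sub_right, hn, hn, hne θ hθ θ' hθ' heq,
          hne θ' hθ' θ hθ (Ne.symm heq)]
        push_cast; ring)
    have ha0 : a' = 0 := Coh.int_eq_zero_of_ineq hineq' (lt_of_le_of_lt (by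
      have := hne' θ; have := hne' θ'; omega) hN')
    rw [ha0] at ha'
    have e1 : ψ θ - (t : ℂ) • χ = (ψ θ - ψ θ' - ((0 : ℕ) : ℂ) • χ) + (ψ θ' - (t : ℂ) • χ) := by
      simp only [Nat.cast_zero, zero_smul, sub_zero]; abel
    have h1 := ha θ hθ
    rw [e1, dade_map_add, classInner_add_left, ha', ha θ' hθ'] at h1
    simp at h1
    exact h1.symm
  -- the sum
  obtain ⟨θ₀, hθ₀⟩ := Finset.card_pos.1 (lt_of_le_of_lt (Nat.zero_le _) hVc)
  set Ψ : L → ℂ := ∑ θ ∈ V, ψ θ with hΨ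
  set m := V.card with hm
  have hΨ1 : Ψ 1 = ((m * t : ℕ) : ℂ) * χ 1 := by
    rw [hΨ, Finset.sum_apply, Finset.sum_congr rfl hψ1, Finset.sum_const, nsmul_eq_mul]
    push_cast; ring
  have hΨv : ∀ x : L, x ≠ 1 → (x : G) ∉ ((sigmaCore L : Set G) \ {1}) → Ψ x = 0 := fun x hx1 hxA => by
    rw [hΨ, Finset.sum_apply]
    exact Finset.sum_eq_zero fun θ _ => F.supp _ x hx1 hxA
  have hΨc : IsGeneralizedCharacter L Ψ := by
    refine ⟨Ψ, 0, ?_, isCharacter_zero, (sub_zero _).symm⟩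
    exact Finset.sum_induction _ (IsCharacter L) (fun _ _ => isCharacter_add) isCharacter_zero fun θ _ => hch θ
  have hΨn : classInner Ψ Ψ = ((∑ θ ∈ V, n θ : ℕ) : ℂ) := by
    rw [hΨ, classInner_sum_left, Nat.cast_sum]
    refine Finset.sum_congr rfl fun θ hθ => ?_
    rw [classInner_sum_right, Finset.sum_eq_single θ]
    · exact hn θ
    · exact fun θ' hθ' h => hne θ hθ θ' hθ' (Ne.symm h)
    · exact fun h => absurd hθ h
  obtain ⟨A', hA', hineqA⟩ := hc.rel_ineq (F.famSet_supp M₁ b) hT hχT hdd hΨc hΨ1 hΨv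
    (fun φ hφ => by rw [hΨ, classInner_sum_left]; exact Finset.sum_eq_zero fun θ hθ => horth θ hθ φ hφ) hΨn
  have e2 : Ψ - ((m * t : ℕ) : ℂ) • χ = ∑ θ ∈ V, (ψ θ - (t : ℂ) • χ) := by
    rw [Finset.sum_sub_distrib, Finset.sum_const, ← Nat.cast_smul_eq_nsmul ℂ, smul_smul, Nat.cast_mul]
  rw [e2, show dadeIsometry ((sigmaCore L : Set G) \ {1}) L (supportR L) (∑ θ ∈ V, (ψ θ - (t : ℂ) • χ)) =
    ∑ θ ∈ V, dadeIsometry ((sigmaCore L : Set G) \ {1}) L (supportR L) (ψ θ - (t : ℂ) • χ) from dade_map_sum _ _ _ _ _,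
    classInner_sum_left, Finset.sum_congr rfl (g := fun _ => (a θ₀ : ℂ) - (t : ℂ))
      (fun θ hθ => by rw [ha θ hθ, hcong θ hθ θ₀ hθ₀]), Finset.sum_const, nsmul_eq_mul] at hA'
  have hAeq : A' = m * a θ₀ := by
    have : (A' : ℂ) = ((m * a θ₀ : ℤ) : ℂ) := by push_cast at hA' ⊢; linear_combination -hA'
    exact_mod_cast this
  have hsum : (∑ θ ∈ V, n θ : ℕ) ≤ m * e := by
    rw [hm, ← smul_eq_mul]
    exact Finset.sum_le_card_nsmul V _ _ fun θ _ => hne' θ
  have ha0 : a θ₀ = 0 := by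
    by_contra hne0
    set a₀ := a θ₀ with ha₀
    rw [hAeq] at hineqA
    have hm0 : (e : ℤ) < m := by rw [hee]; exact_mod_cast hVc
    have hsum' : ((∑ θ ∈ V, n θ : ℕ) : ℤ) ≤ m * e := by exact_mod_cast hsum
    have hN2 : (2 * t + 1 : ℤ) ≤ N := by exact_mod_cast hN
    have hX : 1 ≤ a₀ ^ 2 * N - 2 * a₀ * t := by
      have h1 : 1 ≤ |a₀| := Int.one_le_abs hne0
      have h2 : a₀ ^ 2 = |a₀| * |a₀| := by rw [← sq_abs]; ring
      have h3 : 2 * a₀ * t ≤ 2 * |a₀| * t := by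
        have := le_abs_self a₀
        have : (0 : ℤ) ≤ t := Int.natCast_nonneg t
        nlinarith
      have h4 : |a₀| * (2 * t + 1 : ℤ) ≤ |a₀| * (|a₀| * N) :=
        mul_le_mul_of_nonneg_left (hN2.trans (le_mul_of_one_le_left (Int.natCast_nonneg _) h1)) (abs_nonneg _)
      rw [h2]; nlinarith
    push_cast at hineqA
    nlinarith [mul_le_mul_of_nonneg_left hX (mul_nonneg (Int.natCast_nonneg m) (Int.natCast_nonneg m))]
  intro θ hθ
  rw [(hV θ hθ).2.2]
  refine (ha θ hθ).trans ?_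
  rw [hcong θ hθ θ₀ hθ₀, ha0]
  simp

omit c hnil in
theorem weight_large {s e N X D : ℕ} (he1 : 1 ≤ e) (hD : 1 + s ≤ D) (hX : X ≤ e * N + 1 + s * D ^ 2) (he : 2 * e ≤ s)
    (h : (1 + s) ^ 2 ≤ D ∧ (1 + s) * D ^ 2 ≤ X ∨ D = 1 + s ∧ 2 * (1 + s) ^ 3 ≤ X) : 2 * D + e < N := by
  refine Nat.lt_of_mul_lt_mul_left (a := e) ?_
  rcases h with ⟨h1, h2⟩ | ⟨rfl, h2⟩
  · have h3 : D ^ 2 ≤ e * N + 1 := by
      have h6 : (1 + s) * D ^ 2 = D ^ 2 + s * D ^ 2 := by rw [add_mul, one_mul]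
      omega
    have h4 : 2 * (e * (2 * D + e)) ≤ s * (2 * D + e) := by rw [← mul_assoc]; exact Nat.mul_le_mul_right _ he
    have h5 := Nat.mul_le_mul_right D h1
    nlinarith [Nat.mul_le_mul_left s he, Nat.mul_le_mul_right s (hD : 1 + s ≤ D)]
  · nlinarith [Nat.mul_le_mul_right (1 + s) he, Nat.mul_le_mul he he]

/-- The case of `|K|` dividing `t - 1`. -/
theorem false_of_dvd_pred (hdvd : Nat.card K ∣ t - 1) : False := by
  classical
  haveI := c.normal
  have F := c.kernel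
  have h2t := ht.out.two_le
  have hodd : t % 2 = 1 := (Nat.Prime.eq_two_or_odd ht.out).resolve_left c.pre.setup.ne_two
  have hstep : 2 * Nat.card K ≤ t - 1 := by
    obtain ⟨q, hq⟩ := hdvd
    obtain ⟨k, hk⟩ := c.odd_K
    rcases q with _ | _ | q
    · omega
    · omega
    · rw [hq, mul_comm 2]; exact Nat.mul_le_mul_left _ (by omega)
  have hidx : ((sigmaCore L).subgroupOf L).index = Nat.card K := c.index_eq
  set e := Nat.card K with he
  have hrel : (⊥ : Subgroup L).relIndex ((sigmaCore L).subgroupOf L) = Nat.card (sigmaCore L) := by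
    rw [Subgroup.relIndex_bot_left, Solv.card_subgroupOf c.core_le]
  have hker : ∀ (θ : IrrCharacter ((sigmaCore L).subgroupOf L)) (x : ((sigmaCore L).subgroupOf L)), (x : L) ∈ (⊥ : Subgroup L) → (θ : ((sigmaCore L).subgroupOf L) → ℂ) x = (θ : ((sigmaCore L).subgroupOf L) → ℂ) 1 :=
    fun θ x hx => by rw [show x = 1 from Subtype.ext (Subgroup.mem_bot.1 hx)]
  have hinv : Nat.card {θ : IrrCharacter ((sigmaCore L).subgroupOf L) // (θ : ((sigmaCore L).subgroupOf L) → ℂ) ≠ (fun _ => 1) ∧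
      (∀ x : ((sigmaCore L).subgroupOf L), (x : L) ∈ (⊥ : Subgroup L) → (θ : ((sigmaCore L).subgroupOf L) → ℂ) x = (θ : ((sigmaCore L).subgroupOf L) → ℂ) 1) ∧
      ¬ IsIrrCharacter L (indFun ((sigmaCore L).subgroupOf L) (θ : ((sigmaCore L).subgroupOf L) → ℂ))} ≤ t - 1 := by
    refine le_trans ?_ (c.card_reducible.trans (by rw [c.card_star hnil]))
    exact Nat.card_le_card_of_injective (fun θ => ⟨θ.1, θ.2.1, θ.2.2.2⟩)
      fun a b h => Subtype.ext (congrArg (fun x => x.1) h)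
  obtain ⟨χ, ε, μ₀, hχ1, hχc, hall⟩ := F.exists_chain ht.out ⊥
    (fun θ _ => by rw [hrel]; exact c.deg_facts hnil θ) hinv (by rw [hidx]; exact hstep)
  obtain ⟨k, hk, -, hcount⟩ := c.center_facts hnil
  set H := Nat.card (sigmaCore L) with hH
  obtain ⟨μ, hcoh, -⟩ := hall H
  have hHb : ∀ θ : IrrCharacter ((sigmaCore L).subgroupOf L), deg (θ : ((sigmaCore L).subgroupOf L) → ℂ) ≤ t ^ H := fun θ => by
    obtain ⟨j, hj, hjd⟩ := c.deg_facts hnil θ
    rw [hj]
    refine Nat.pow_le_pow_right ht.out.pos ?_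
    have := Nat.le_of_dvd Nat.card_pos hjd
    have := Nat.lt_pow_self (n := 2 * j + 1) ht.out.one_lt
    omega
  have hbot : (⊥ : Subgroup G) ≤ ⁅sigmaCore L, sigmaCore L⁆ := bot_le
  refine (c.config (M₀ := ⊥) (by omega) bot_le (fun g _ => Subgroup.mem_normalizer_iff.2 fun h => by simp)
    (fun u hu => ⟨1, one_mem _, by rw [Subgroup.mem_bot.1 hu]; group⟩) ?_ ?_).false
    (c.data_of_coh hcoh hχ1 hχc hbot ?_ fun h => absurd (c.w_line hnil).2 h)
  · rw [Subgroup.card_bot, mul_one]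
    refine (c.card_E_le hnil).trans (le_trans (Nat.mul_le_mul_right _ ?_) hcount)
    omega
  · exact fun i hi l _ h => hi (c.pre.w_order ▸ orderOf_dvd_of_pow_eq_one (conj_eq_one_iff.1 (Subgroup.mem_bot.1 h)))
  intro θ hθ1 _ hθ
  set ker : IrrCharacter ((sigmaCore L).subgroupOf L) → Prop := fun θ => ∀ x : ((sigmaCore L).subgroupOf L), (x : L) ∈ (⊥ : Subgroup L) → (θ : ((sigmaCore L).subgroupOf L) → ℂ) x = (θ : ((sigmaCore L).subgroupOf L) → ℂ) 1
  set V := Finset.univ.filter fun θ : IrrCharacter ((sigmaCore L).subgroupOf L) =>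
    (θ : ((sigmaCore L).subgroupOf L) → ℂ) ≠ (fun _ => 1) ∧ ker θ ∧ ¬ IsIrrCharacter L (indFun ((sigmaCore L).subgroupOf L) (θ : ((sigmaCore L).subgroupOf L) → ℂ)) with hV
  have hred : ∀ θ : IrrCharacter ((sigmaCore L).subgroupOf L), (θ : ((sigmaCore L).subgroupOf L) → ℂ) ≠ (fun _ => 1) →
      indFun ((sigmaCore L).subgroupOf L) (θ : ((sigmaCore L).subgroupOf L) → ℂ) ∉ famSet ((sigmaCore L).subgroupOf L) ⊥ (t ^ H) → θ ∈ V := fun θ h1 h => Finset.mem_filter.2
    ⟨Finset.mem_univ _, h1, hker θ, fun hi => h ⟨hi, θ, h1, Or.inr ⟨hker θ, hHb θ⟩, rfl⟩⟩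
  have hθV := hred θ hθ1 hθ
  obtain ⟨θ₁, hθ₁, hmax⟩ := Finset.exists_max_image V (fun θ => deg (θ : ((sigmaCore L).subgroupOf L) → ℂ)) ⟨θ, hθV⟩
  have hVc : Nat.card {θ : IrrCharacter ((sigmaCore L).subgroupOf L) // (θ : ((sigmaCore L).subgroupOf L) → ℂ) ≠ (fun _ => 1) ∧
      ker θ ∧ ¬ IsIrrCharacter L (indFun ((sigmaCore L).subgroupOf L) (θ : ((sigmaCore L).subgroupOf L) → ℂ))} ≤ V.card := by
    rw [Nat.card_eq_fintype_card, Fintype.card_subtype]
  have hVt : V.card ≤ t - 1 := le_trans (by rw [Nat.card_eq_fintype_card, Fintype.card_subtype]) hinv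
  obtain ⟨T, hT, hχT, hw⟩ := F.fam_weight ⊥ hcoh.mem (fun θ _ _ => hHb θ) (D := deg (θ₁ : ((sigmaCore L).subgroupOf L) → ℂ))
    (fun θ hk h1 h2 => hmax θ (Finset.mem_filter.2 ⟨Finset.mem_univ _, h1, hk, h2⟩)) hVc
  rw [hrel, hidx] at hw
  obtain ⟨j, hj, hjd⟩ := c.deg_facts hnil θ₁
  obtain ⟨-, hθ₁1, -, hθ₁r⟩ := Finset.mem_filter.1 hθ₁
  have hj0 : j ≠ 0 := fun h => hθ₁r (F.linear θ₁ hθ₁1 (by rw [hj, h, pow_zero]))
  rw [← hH] at hjd
  have hHle := Nat.le_of_dvd Nat.card_pos hjd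
  rw [← hH, pow_succ', mul_comm 2, pow_mul, ← hj] at hHle
  set D := deg (θ₁ : ((sigmaCore L).subgroupOf L) → ℂ) with hD
  have hdle : deg (θ : ((sigmaCore L).subgroupOf L) → ℂ) ≤ D := hmax θ hθV
  set N := ∑ ψ ∈ T, (deg ψ / e) ^ 2 with hN
  obtain ⟨s, hs⟩ := Nat.exists_eq_add_of_le (show 1 ≤ t by omega)
  have hDt : t ≤ D := hj ▸ Nat.le_self_pow hj0 t
  have hxs : t - 1 = s := by omega
  have hw' : H ≤ e * N + 1 + s * D ^ 2 := by
    refine hw.trans (Nat.add_le_add_left (Nat.mul_le_mul_right _ ?_) _)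
    omega
  have hdirect : 2 * D + e < N → classInner (dadeIsometry ((sigmaCore L : Set G) \ {1}) L (supportR L)
      (indFun ((sigmaCore L).subgroupOf L) (θ : ((sigmaCore L).subgroupOf L) → ℂ) - (deg (θ : ((sigmaCore L).subgroupOf L) → ℂ) : ℂ) • χ)) (ε • μ χ) = -(deg (θ : ((sigmaCore L).subgroupOf L) → ℂ) : ℂ) := fun h =>
    F.rel_not_mem hcoh hχ1 hT hχT θ hθ (by rw [hidx]; omega)
  have he3 : 3 ≤ e := c.three_le
  by_cases hj2 : 2 ≤ j
  · refine hdirect (weight_large (by omega) (hs ▸ hDt) hw' (by omega) (Or.inl ⟨?_, hs ▸ hHle⟩))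
    rw [← hs, hj]; exact Nat.pow_le_pow_right ht.out.pos hj2
  obtain rfl : j = 1 := by omega
  rw [pow_one] at hj
  obtain ⟨q, hq⟩ := hjd
  rcases q with _ | _ | q
  · rw [mul_zero] at hq; exact absurd hq (Nat.card_pos).ne'
  swap
  · refine hdirect (weight_large (by omega) (hs ▸ hDt) hw' (by omega) (Or.inr ⟨hj.trans hs, ?_⟩))
    rw [← hs, hq, mul_comm 2]
    exact Nat.mul_le_mul_left _ (by omega)
  rw [zero_add, mul_one] at hq
  norm_num at hq
  rw [hq, hj] at hw'
  by_cases hm : V.card ≤ e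
  · rw [hq, hj] at hw
    refine hdirect ?_
    rw [hj]
    refine Nat.lt_of_mul_lt_mul_left (a := e) ?_
    have h1 := Nat.mul_le_mul_right (t ^ 2) hm
    have h3 : 2 * (e * (2 * t + e)) ≤ s * (2 * t + e) := by
      rw [← mul_assoc]; exact Nat.mul_le_mul_right _ (by omega)
    have h4 : 2 * e * t ^ 2 ≤ s * t ^ 2 := Nat.mul_le_mul_right _ (by omega)
    have h5 : 2 * e * (2 * e) ≤ s * s := Nat.mul_le_mul (by omega) (by omega)
    have h6 : 3 ≤ s := by omega
    subst hs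
    nlinarith
  have hN' : 2 * t < N ∧ 2 * e < N := by
    constructor <;> refine Nat.lt_of_mul_lt_mul_left (a := e) ?_
    · have h3 : 2 * e * t ≤ s * t := Nat.mul_le_mul_right _ (by omega)
      rw [hs] at hw' h3 ⊢
      nlinarith
    · have h3 : 2 * e * (2 * e) ≤ s * s := Nat.mul_le_mul (by omega) (by omega)
      rw [hs] at hw'
      nlinarith
  have hdegV : ∀ θ' ∈ V, deg (θ' : ((sigmaCore L).subgroupOf L) → ℂ) = t := fun θ' hθ' => by
    obtain ⟨i, hi, -⟩ := c.deg_facts hnil θ'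
    obtain ⟨-, h1, -, h2⟩ := Finset.mem_filter.1 hθ'
    have hi0 : i ≠ 0 := fun h => h2 (F.linear θ' h1 (by rw [hi, h, pow_zero]))
    exact le_antisymm (hj ▸ hmax θ' hθ') (hi ▸ Nat.le_self_pow hi0 t)
  refine c.rel_equal_degree hcoh hχ1 hT hχT V (fun θ' hθ' => ?_) (by omega) (by rw [hidx]; exact hN'.1)
    (by rw [hidx]; exact hN'.2) θ hθV
  obtain ⟨-, h1, h2, h3⟩ := Finset.mem_filter.1 hθ'
  exact ⟨fun hmem => h3 hmem.1, h3, hdegV θ' hθ'⟩

/-- The case of `|K|` dividing `t + 1`. -/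
theorem false_of_dvd_succ (hnd : ¬ Nat.card K ∣ t - 1) (hS3 : Nat.card S = t ^ 3)
    (hdvd : Nat.card K ∣ t + 1) : False := by
  classical
  haveI := c.normal
  have F := c.kernel
  have d := c.stray hnil
  have h2t := ht.out.two_le
  have hna := (c.bound_cases hnil).1
  set M₀ := ⁅S, S⁆ with hM₀
  have hM₀S : M₀ ≤ S := Subgroup.commutator_le_self S
  have hder : ⁅(sigmaCore L), (sigmaCore L)⁆ = M₀ := le_antisymm (c.derived_le hnil) (Subgroup.commutator_mono c.pre.S_core c.pre.S_core)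
  have hZS := Sig.derived_eq_centre hna hS3
  have hcard : Nat.card M₀ = t := by
    obtain ⟨i, hi⟩ := IsPGroup.iff_card.1 (c.pre.syl.isPGroup.to_le hM₀S)
    have hle := Subgroup.card_dvd_of_le hM₀S
    rw [hi, hS3] at hle
    have h3 : i ≤ 3 := (Nat.pow_dvd_pow_iff_le_right ht.out.one_lt).1 hle
    have hge : 1 ≤ i := by
      have h := Subgroup.card_dvd_of_le (c.star_le.trans (c.derived_le hnil))
      rw [c.card_star hnil, hi] at h
      by_contra h0
      rw [show i = 0 by omega, pow_zero, Nat.dvd_one] at h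
      omega
    by_contra hne
    have hi1 : i ≠ 1 := fun h => hne (by rw [hi, h, pow_one])
    set Z := Subgroup.center ↥S
    have hZc : t ^ i ∣ Nat.card Z := by
      rw [← hi]
      have h := Subgroup.card_dvd_of_le (show M₀.subgroupOf S ≤ Z from fun x hx => Subgroup.mem_center_iff.2
        fun g => Subtype.ext (Subgroup.mem_centralizer_iff.1 (hZS.le hx).2 g g.2))
      rwa [Solv.card_subgroupOf hM₀S] at h
    have hidx : Z.index ∣ t ^ (3 - i) := by
      have h := Z.card_mul_index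
      rw [hS3] at h
      obtain ⟨q, hq⟩ := hZc
      rw [hq, mul_assoc, show 3 = i + (3 - i) by omega, pow_add] at h
      exact Dvd.intro_left _ (Nat.eq_of_mul_eq_mul_left (pow_pos ht.out.pos i) h)
    haveI : IsCyclic (↥S ⧸ Subgroup.center ↥S) := by
      obtain ⟨m, hm, hme⟩ := (Nat.dvd_prime_pow ht.out).1 hidx
      rcases (show m = 0 ∨ m = 1 by omega) with h | h
      · haveI := (Nat.card_eq_one_iff_unique.1
          (show Nat.card (↥S ⧸ Subgroup.center ↥S) = 1 by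
            rw [← Subgroup.index_eq_card, hme, h, pow_zero])).1
        infer_instance
      · exact isCyclic_of_prime_card (p := t) (by rw [← Subgroup.index_eq_card, hme, h, pow_one])
    exact hna (isMulCommutative_of_isCyclic_quotient_center_self _)
  have hM₀n : L ≤ Subgroup.normalizer (M₀ : Set G) := fun l hl => Fusion.mem_normalizer_of_cj_le (by
    rw [← hder, cj, Subgroup.map_commutator]
    exact le_of_eq (by rw [show (sigmaCore L).map (MulAut.conj l).toMonoidHom = (sigmaCore L) from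
      Fusion.cj_eq_self (Sig.le_normalizer_piCoreOf hl)]))
  have hcen : ∀ u ∈ M₀, ∀ g ∈ (sigmaCore L), g * u = u * g := fun u hu g hg => by
    obtain ⟨a, ha, y, hy, rfl, hyc⟩ := c.decompose hnil hg
    rw [mul_assoc, hyc u (c.pre.S_core (hM₀S hu)), ← mul_assoc,
      Subgroup.mem_centralizer_iff.1 (hZS.le hu).2 a ha, mul_assoc]
  have hw0 : ∀ l ∈ L, l * w * l⁻¹ ∉ M₀ := fun l hl h => by
    have hw : w ∈ M₀ := (Subgroup.mem_normalizer_iff.1 (hM₀n hl) w).2 h
    exact c.S_not_le hnil fun x hx => c.pre.centralizer_le (Subgroup.mem_centralizer_singleton_iff.2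
      (hcen w hw x (c.pre.S_core hx)))
  have hEH : E ≤ (sigmaCore L) := by
    by_contra hno
    have hEL : E ≤ L := c.pre.E_eq.ge.trans inf_le_left
    obtain ⟨r, hr, hrd, hrσ⟩ : ∃ r : ℕ, r.Prime ∧ r ∣ Nat.card E ∧ r ∉ sigma L := by
      by_contra h
      push Not at h
      exact hno (Sig.le_of_hall (Sig.sigmaCore_hall c.pre.minSimple c.pre.coatomL).1 Sig.le_normalizer_piCoreOf
        hEL fun q hq hd => h q hq hd)
    haveI := Fact.mk hr
    have hre : r ∣ Nat.card K := by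
      have h1 : r ∣ ((sigmaCore L).subgroupOf L).index * Nat.card ↥((sigmaCore L).subgroupOf L) := by
        rw [Subgroup.index_mul_card]; exact hrd.trans (Subgroup.card_dvd_of_le hEL)
      rw [c.index_eq, Solv.card_subgroupOf c.core_le] at h1
      exact (hr.dvd_mul.1 h1).resolve_right fun h =>
        hrσ ((Sig.sigmaCore_hall c.pre.minSimple c.pre.coatomL).1.2.1 r hr h)
    obtain ⟨⟨u, huE⟩, huo⟩ := exists_prime_orderOf_dvd_card' r hrd
    rw [Subgroup.orderOf_mk] at huo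
    by_cases hcw : u * w = w * u
    · obtain ⟨m, hm, hmw⟩ := c.fixed_star hr hre (hEL huE) huo c.w_core hcw
      refine hw0 m⁻¹ (L.inv_mem hm) ?_
      rw [inv_inv]
      exact hder.le (c.star_le hmw)
    have huM : u ∈ M := (c.pre.E_eq.ge huE).2
    have hun : Subgroup.zpowers u ≤ Subgroup.normalizer (Subgroup.zpowers w : Set G) := by
      rw [(c.w_line hnil).1, Subgroup.zpowers_le]
      exact Fusion.mem_normalizer_of_cj_le (by
        rw [Fusion.cj_inf, Fusion.cj_centralizer,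
          Fusion.cj_eq_self ((TauTwo.complement_tau2 c.pre.setup c.pre.complM c.pre.A_le).1.1 huE),
          (show cj (sigmaCore M) u = sigmaCore M from Fusion.cj_eq_self (Sig.le_normalizer_piCoreOf huM))])
    have hd := dvd_pred_of_line (t := t) (W := Subgroup.zpowers u) (X := Subgroup.zpowers w)
      (by rw [Nat.card_zpowers, c.pre.w_order]) hun fun g hg hg1 a ha e => by
        by_contra ha1
        refine hcw ?_
        have hgu : Subgroup.zpowers g = Subgroup.zpowers u := Subgroup.eq_of_le_of_card_ge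
          (Subgroup.zpowers_le.2 hg) (by
            rw [Nat.card_zpowers, Nat.card_zpowers, huo]
            exact le_of_eq ((Nat.dvd_prime hr).1 (huo ▸ Nat.card_zpowers u ▸
              Subgroup.orderOf_dvd_natCard _ hg) |>.resolve_left fun h => hg1 (orderOf_eq_one_iff.1 h)).symm)
        have haw : Subgroup.zpowers a = Subgroup.zpowers w := Subgroup.eq_of_le_of_card_ge
          (Subgroup.zpowers_le.2 ha) (by
            rw [Nat.card_zpowers, Nat.card_zpowers, c.pre.w_order]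
            exact le_of_eq ((Nat.dvd_prime ht.out).1 (c.pre.w_order ▸ Nat.card_zpowers w ▸
              Subgroup.orderOf_dvd_natCard _ ha) |>.resolve_left fun h => ha1 (orderOf_eq_one_iff.1 h)).symm)
        obtain ⟨i, hi⟩ := Subgroup.mem_zpowers_iff.1 (hgu ▸ Subgroup.mem_zpowers u : u ∈ Subgroup.zpowers g)
        obtain ⟨l, hl⟩ := Subgroup.mem_zpowers_iff.1 (haw ▸ Subgroup.mem_zpowers w : w ∈ Subgroup.zpowers a)
        rw [← hi, ← hl]
        exact ((show Commute g a from e).zpow_zpow i l).eq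
    rw [Nat.card_zpowers, huo] at hd
    have h2 : r ∣ 2 := by
      have := Nat.dvd_sub (hre.trans hdvd) hd
      rwa [show t + 1 - (t - 1) = 2 by omega] at this
    have hr2 : r = 2 := (Nat.prime_dvd_prime_iff_eq hr Nat.prime_two).1 h2
    subst hr2
    obtain ⟨k, hk⟩ := c.odd_K
    omega
  obtain ⟨χ, ε, μ, hcoh, hχ1, hχc⟩ := F.exists_base ⊥
  obtain ⟨k, hk⟩ := c.odd_K
  have hbound : 2 * Nat.card K ≤ t + 1 := by
    obtain ⟨q, hq⟩ := hdvd
    rcases q with _ | _ | q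
    · omega
    · have hodd := (Nat.Prime.eq_two_or_odd ht.out).resolve_left c.pre.setup.ne_two
      omega
    · rw [hq, mul_comm 2]; exact Nat.mul_le_mul_left _ (by omega)
  refine (c.config (M₀ := M₀) hbound (hM₀S.trans c.pre.S_core) (c.core_le.trans hM₀n) ?_ ?_ ?_).false
    (c.data_of_coh hcoh hχ1 hχc hder.ge ?_ fun h => absurd (c.w_line hnil).2 h)
  · obtain ⟨h₀, hh₀, hne⟩ := SetLike.not_le_iff_exists.1
      (fun h : S ≤ Subgroup.centralizer ({w} : Set G) => c.S_not_le hnil (h.trans c.pre.centralizer_le))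
    rw [Subgroup.mem_centralizer_singleton_iff] at hne
    have hzM : ⁅w⁻¹, h₀⁆ ∈ M₀ :=
      Subgroup.commutator_mem_commutator (inv_mem (c.pre.A_S c.pre.w_mem)) hh₀
    set z := ⁅w⁻¹, h₀⁆ with hz
    have hstep : h₀ * w * h₀⁻¹ = w * z := by rw [hz, commutatorElement_def]; group
    have hz1 : z ≠ 1 := fun h => hne (by
      rw [h, mul_one, mul_inv_eq_iff_eq_mul] at hstep
      exact hstep)
    have hzc : h₀ * z = z * h₀ := hcen z hzM h₀ (c.pre.S_core hh₀)
    have hpow : ∀ i : ℕ, h₀ ^ i * w * (h₀ ^ i)⁻¹ = w * z ^ i := by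
      intro i
      induction i with
      | zero => simp
      | succ i ih =>
        have hc' : h₀ * z ^ i = z ^ i * h₀ := ((show Commute h₀ z from hzc).pow_right i).eq
        calc h₀ ^ (i + 1) * w * (h₀ ^ (i + 1))⁻¹ = h₀ * (h₀ ^ i * w * (h₀ ^ i)⁻¹) * h₀⁻¹ := by
              rw [pow_succ']; group
          _ = h₀ * w * (z ^ i) * h₀⁻¹ := by rw [ih]; group
          _ = h₀ * w * h₀⁻¹ * z ^ i := by
              rw [show h₀ * w * (z ^ i) * h₀⁻¹ = h₀ * w * (z ^ i * h₀⁻¹) by group,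
                show z ^ i * h₀⁻¹ = h₀⁻¹ * z ^ i from ((show Commute h₀ z from hzc).pow_right i).inv_left.eq.symm]
              group
          _ = w * z ^ (i + 1) := by rw [hstep, pow_succ']; group
    intro u hu
    have hzeq : Subgroup.zpowers z = M₀ := by
      refine Subgroup.eq_of_le_of_card_ge (Subgroup.zpowers_le.2 hzM) ?_
      rw [hcard, Nat.card_zpowers]
      exact le_of_eq ((Nat.dvd_prime ht.out).1 (hcard ▸ Subgroup.orderOf_dvd_natCard _ hzM) |>.resolve_left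
        fun h => hz1 (orderOf_eq_one_iff.1 h)).symm
    obtain ⟨i, hi⟩ := (isOfFinOrder_of_finite z).mem_powers_iff_mem_zpowers.2 (hzeq ▸ hu : u ∈ Subgroup.zpowers z)
    exact ⟨h₀ ^ i, pow_mem (c.pre.S_core hh₀) i, (hpow i).trans (by simp only at hi; rw [hi])⟩
  · rw [hcard, mul_comm]
    obtain ⟨-, -, -, hcount⟩ := c.center_facts hnil
    refine le_trans (Nat.mul_le_mul_left _ ?_) hcount
    exact Nat.card_le_card_of_injective _ (Subgroup.inclusion_injective (le_inf hEH (c.pre.E_eq.ge.trans inf_le_right)))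
  · intro i hi l hl h
    obtain ⟨m, hm⟩ := exists_pow_eq_self_of_coprime (x := w) (n := i) (by
      rw [c.pre.w_order]; exact ((Nat.Prime.coprime_iff_not_dvd ht.out).2 hi).symm)
    refine hw0 l hl ?_
    rw [← hm, ← conj_pow]
    exact pow_mem h m
  intro θ hθ1 hθ0 hθ
  refine absurd (F.indFun_mem_of_linear ⊥ 1 θ hθ1 ?_) hθ
  refine Kernel.deg_one_of_derived (M₀.subgroupOf L) (fun x y => ?_) θ fun x hx => hθ0 x hx
  rw [Subgroup.mem_subgroupOf]
  exact hder.le (Subgroup.commutator_mem_commutator x.2 y.2)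

end L

/-- The nilpotent case is impossible. -/
theorem false_of_nilpotent : False := by
  haveI : Fintype L := Fintype.ofFinite L
  haveI : Fintype ↥((sigmaCore L).subgroupOf L) := Fintype.ofFinite _
  by_cases h : Nat.card K ∣ t - 1
  · exact c.false_of_dvd_pred hnil h
  · obtain ⟨hS, hd⟩ := (c.bound_cases hnil).2.resolve_left h
    exact c.false_of_dvd_succ hnil h hS hd

end KConf

end Cfsg.Agent.OddChar
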