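import Cfsg.Agent.Lib.OddChar.TauTwoSetup
import Cfsg.Agent.Lib.OddChar.TauTwoConf
import Cfsg.Agent.Lib.OddChar.CohChain
import Cfsg.Agent.Lib.OddLocal.KappaTypeV
import Cfsg.Agent.Lib.OddLocal.KappaNonnilpotent
import Cfsg.Agent.Lib.OddLocal.KappaNeighbour
import Cfsg.Agent.Lib.OddLocal.KappaBeta
import Cfsg.Agent.S1513

/-!
The maximal subgroup `L` over a prime of `τ₂(M)` when it has `κ`-primes: `L = K L_σ`.
-/

set_option autoImplicit false
set_option linter.unusedSectionVars false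
set_option linter.style.haveILetI false

open Cfsg Cfsg.Agent.Char
open scoped commutatorElement
open Cfsg.Agent.Fusion (SylIn cj)
open Cfsg.Agent.OddLocal

namespace Cfsg.Agent.OddChar

universe u

variable {G : Type u} [Group G] [Finite G]

/-- The setting with `κ`-primes in `L`. -/
structure KConf (t : ℕ) (M L A E S : Subgroup G) (w : G) (K : Subgroup G) : Prop where
  pre : Pre t M L A E S w
  decomp : IsSigmaDecomposition L K ⊥
  K_ne : K ≠ ⊥

variable {t : ℕ} [ht : Fact t.Prime] {M L A E S K : Subgroup G} {w : G}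

/-- `U = 1` when `L` has `κ`-primes. -/
theorem exists_kconf (d : Pre t M L A E S w) (hκ : (kappa L).Nonempty) :
    ∃ K : Subgroup G, KConf t M L A E S w K := by
  obtain ⟨K, U, hKU⟩ := Kappa.exists_full_decomp d.minSimple d.coatomL
  obtain ⟨q, hq⟩ := hκ
  have hK1 : K ≠ ⊥ := fun h => by
    refine hKU.hall.2.2 q hq.1 hq ?_
    rw [h, Subgroup.relIndex_bot_left]
    exact hq.2.1
  have hU : U = ⊥ := by
    by_contra hU
    exact Kappa.not_ideal_of_tau2 d.minSimple d.coatomM d.tau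
      (Kappa.sigma_subset_beta d.minSimple d.coatomL hKU hK1 hU t d.sigmaL).2
  exact ⟨K, d, hU ▸ hKU, hK1⟩

namespace KConf

variable (c : KConf t M L A E S w K)
include c

theorem core_le : sigmaCore L ≤ L := Subgroup.map_subtype_le _

theorem K_le : K ≤ L := c.decomp.hall.1

theorem K_inf : K ⊓ sigmaCore L = ⊥ :=
  Decomp.K_inf_sigmaCore c.pre.minSimple c.pre.coatomL c.decomp

theorem mul {x : G} (hx : x ∈ L) : ∃ k ∈ K, ∃ h ∈ sigmaCore L, x = k * h := by
  obtain ⟨u, hu, y, hy, rfl⟩ := c.decomp.compl.2.2.2 x hx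
  rw [Subgroup.mem_bot] at hu
  rw [← SetLike.mem_coe, Decomp.coe_sup c.decomp] at hy
  obtain ⟨k, hk, s, hs, rfl⟩ := hy
  exact ⟨k, hk, s, hs, by rw [hu, one_mul]⟩

theorem compl : IsComplIn K (sigmaCore L) L :=
  ⟨c.K_le, c.core_le, c.K_inf, fun _ hx => c.mul hx⟩

theorem coprime : (Nat.card K).Coprime (Nat.card (sigmaCore L)) :=
  Nat.coprime_of_dvd fun q hq h1 h2 =>
    Sig.compl_pi c.pre.minSimple c.pre.coatomL c.compl hq h1
      ((Sig.sigmaCore_hall c.pre.minSimple c.pre.coatomL).1.2.1 q hq h2)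

theorem index_eq : ((sigmaCore L).subgroupOf L).index = Nat.card K := (Sig.compl_card c.compl).1.symm

theorem coreIndex_eq : coreIndex L = Nat.card K := c.index_eq

theorem odd_K : Odd (Nat.card K) := c.pre.minSimple.1.of_dvd_nat (Subgroup.card_subgroup_dvd_card K)

theorem three_le : 3 ≤ Nat.card K := by
  obtain ⟨j, hj⟩ := c.odd_K
  have h1 : Nat.card K ≠ 1 := fun h => c.K_ne (Subgroup.card_eq_one.1 h)
  omega

theorem derived : ⁅L, L⁆ = sigmaCore L := by
  rw [Kappa.derived_eq c.pre.minSimple c.pre.coatomL c.decomp c.K_ne, bot_sup_eq]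

theorem star_prime : (Nat.card ↥(sigmaCore L ⊓ Subgroup.centralizer (K : Set G))).Prime :=
  Kappa.star_prime c.pre.minSimple c.pre.coatomL c.decomp c.K_ne rfl

theorem star_le : sigmaCore L ⊓ Subgroup.centralizer (K : Set G) ≤ ⁅sigmaCore L, sigmaCore L⁆ := by
  have h := Kappa.star_le_second c.pre.minSimple c.pre.coatomL c.decomp c.K_ne
  rwa [c.derived] at h

theorem prime_action {k : G} (hk : k ∈ K) (hk1 : k ≠ 1) :
    sigmaCore L ⊓ Subgroup.centralizer ({k} : Set G) = sigmaCore L ⊓ Subgroup.centralizer (K : Set G) :=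
  Kappa.prime_action c.pre.minSimple c.pre.coatomL c.decomp.hall hk hk1

theorem t_not_K : ¬ t ∣ Nat.card K := fun h =>
  Sig.compl_pi c.pre.minSimple c.pre.coatomL c.compl ht.out h c.pre.sigmaL

theorem w_core : w ∈ sigmaCore L := c.pre.S_core (c.pre.A_S c.pre.w_mem)

theorem w_ne : w ≠ 1 := fun h => ht.out.ne_one (by rw [← c.pre.w_order, h, orderOf_one])

/-- An element of `L` of prime order dividing `|K|` is conjugate into `K`. -/
theorem conj_into_K {q : ℕ} (hq : q.Prime) (hqK : q ∣ Nat.card K) {u : G} (hu : u ∈ L) (huo : orderOf u = q) :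
    ∃ m ∈ L, m⁻¹ * u * m ∈ K := by
  obtain ⟨m, hm, h⟩ := Kappa.hall_conj_le c.pre.minSimple c.pre.coatomL c.decomp.hall
    (Y := Subgroup.zpowers u) (Subgroup.zpowers_le.2 hu) fun s hs hd => by
      rw [Nat.card_zpowers, huo] at hd
      rw [(Nat.prime_dvd_prime_iff_eq hs hq).1 hd]
      exact c.decomp.hall.2.1 q hq hqK
  exact ⟨m, hm, h u (Subgroup.mem_zpowers u)⟩

/-- A point of `L_σ` fixed by an element of prime order outside `L_σ` is conjugate into `K^*`. -/
theorem fixed_star {q : ℕ} (hq : q.Prime) (hqK : q ∣ Nat.card K) {u : G} (hu : u ∈ L) (huo : orderOf u = q)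
    {a : G} (ha : a ∈ sigmaCore L) (e : u * a = a * u) :
    ∃ m ∈ L, m⁻¹ * a * m ∈ sigmaCore L ⊓ Subgroup.centralizer (K : Set G) := by
  obtain ⟨m, hm, hmK⟩ := c.conj_into_K hq hqK hu huo
  refine ⟨m, hm, ?_⟩
  have h1 : m⁻¹ * u * m ≠ 1 := fun h => hq.ne_one (by
    have : u = 1 := by
      calc u = m * (m⁻¹ * u * m) * m⁻¹ := by group
        _ = 1 := by rw [h]; group
    rw [← huo, this, orderOf_one])
  rw [← c.prime_action hmK h1]
  refine ⟨?_, Subgroup.mem_centralizer_singleton_iff.2 ?_⟩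
  · have := (Subgroup.mem_normalizer_iff.1 (Sig.le_normalizer_piCoreOf (L.inv_mem hm)) a).1 ha
    rwa [inv_inv] at this
  · calc m⁻¹ * a * m * (m⁻¹ * u * m) = m⁻¹ * (a * u) * m := by group
      _ = m⁻¹ * (u * a) * m := by rw [e]
      _ = _ := by group

theorem dade : DadeHypothesis ((sigmaCore L : Set G) \ {1}) L (supportR L) := by
  rw [← Kappa.typeA1_eq c.pre.minSimple c.pre.coatomL]
  exact (S1537.result c.pre.minSimple L c.pre.coatomL _ (Or.inl rfl)).2

section L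

variable [Fintype L]

theorem typeP :
    ((sigmaCore L).subgroupOf L ⊓ K.subgroupOf L = ⊥) ∧ ((sigmaCore L).subgroupOf L ⊔ K.subgroupOf L = ⊤) ∧
      K.subgroupOf L ≠ ⊥ ∧ IsCyclic ↥(K.subgroupOf L) ∧
      Nat.Coprime (Nat.card ↥(K.subgroupOf L)) (K.subgroupOf L).index ∧
      IsCyclic ↥((sigmaCore L ⊓ Subgroup.centralizer (K : Set G)).subgroupOf L) ∧
      ∀ x ∈ K.subgroupOf L, x ≠ 1 → (sigmaCore L).subgroupOf L ⊓ Subgroup.centralizer ({x} : Set L) =
        (sigmaCore L ⊓ Subgroup.centralizer (K : Set G)).subgroupOf L := by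
  refine ⟨?_, ?_, ?_, ?_, ?_, ?_, fun x hx hx1 => ?_⟩
  · rw [Subgroup.subgroupOf, Subgroup.subgroupOf, ← Subgroup.comap_inf, inf_comm, c.K_inf]
    exact Subgroup.bot_subgroupOf L
  · rw [eq_top_iff]
    intro x _
    obtain ⟨k, hk, h, hh, e⟩ := c.mul x.2
    rw [show x = (⟨k, c.K_le hk⟩ : L) * ⟨h, c.core_le hh⟩ from Subtype.ext e]
    exact Subgroup.mul_mem _ (Subgroup.mem_sup_right hk) (Subgroup.mem_sup_left hh)
  · rw [Ne, Subgroup.subgroupOf_eq_bot, disjoint_iff, inf_eq_left.2 c.K_le]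
    exact c.K_ne
  · haveI := c.decomp.cyclic
    exact isCyclic_of_surjective (Subgroup.subgroupOfEquivOfLe c.K_le).symm (MulEquiv.surjective _)
  · rw [Solv.card_subgroupOf c.K_le]
    refine c.coprime.coprime_dvd_right (dvd_of_eq ?_)
    refine Nat.eq_of_mul_eq_mul_left (Nat.card_pos (α := K)) ?_
    rw [← Solv.card_subgroupOf c.K_le, Subgroup.card_mul_index, (Sig.compl_card c.compl).2.symm,
      Solv.card_subgroupOf c.K_le]
  · have hle : sigmaCore L ⊓ Subgroup.centralizer (K : Set G) ≤ L := inf_le_left.trans c.core_le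
    haveI : Fact (Nat.card ↥(sigmaCore L ⊓ Subgroup.centralizer (K : Set G))).Prime := ⟨c.star_prime⟩
    exact isCyclic_of_prime_card (Solv.card_subgroupOf hle)
  · ext y
    have hk : (x : G) ≠ 1 := fun h => hx1 (Subtype.ext h)
    simp only [Subgroup.mem_inf, Subgroup.mem_subgroupOf]
    rw [← Subgroup.mem_inf, ← c.prime_action (Subgroup.mem_subgroupOf.1 hx) hk, Subgroup.mem_inf,
      Subgroup.mem_centralizer_singleton_iff, Subgroup.mem_centralizer_singleton_iff]
    refine and_congr_right fun _ => ⟨fun h => congrArg Subtype.val h, fun h => Subtype.ext h⟩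

/-- The nontrivial characters with reducible induced function are at most `|K^*| - 1`. -/
theorem card_reducible [Fintype ↥((sigmaCore L).subgroupOf L)] :
    Nat.card {θ : IrrCharacter ↥((sigmaCore L).subgroupOf L) //
      (θ : ↥((sigmaCore L).subgroupOf L) → ℂ) ≠ (fun _ => 1) ∧
      ¬ IsIrrCharacter L (indFun ((sigmaCore L).subgroupOf L) (θ : ↥((sigmaCore L).subgroupOf L) → ℂ))} ≤
      Nat.card ↥(sigmaCore L ⊓ Subgroup.centralizer (K : Set G)) - 1 := by
  classical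
  set H' := (sigmaCore L).subgroupOf L with hH'
  haveI : H'.Normal := Subgroup.normal_subgroupOf_of_le_normalizer Sig.le_normalizer_piCoreOf
  obtain ⟨h1, h2, h3, h4, h5, h6, h7⟩ := c.typeP
  have hctx := typeP_ctx h1 h2 h3 h4 h5 h7
  set P : IrrCharacter H' → Prop := fun θ => ∀ x ∈ K.subgroupOf L,
    (fun k : H' => (θ : H' → ℂ) ⟨x * k * x⁻¹, (inferInstance : H'.Normal).conj_mem (k : L) k.2 x⟩) = θ with hP
  have hcard : Nat.card {θ : IrrCharacter H' // P θ} =
      Nat.card ↥(sigmaCore L ⊓ Subgroup.centralizer (K : Set G)) := by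
    rw [← Solv.card_subgroupOf (inf_le_left.trans c.core_le :
      sigmaCore L ⊓ Subgroup.centralizer (K : Set G) ≤ L)]
    exact typeP_card_invariant hctx h6
  rw [← hcard, Nat.card_eq_fintype_card, Nat.card_eq_fintype_card, Fintype.card_subtype, Fintype.card_subtype]
  have hone : (⟨fun _ => 1, isIrrCharacter_one⟩ : IrrCharacter H') ∈ Finset.univ.filter P :=
    Finset.mem_filter.2 ⟨Finset.mem_univ _, fun x _ => rfl⟩
  rw [← Finset.card_erase_of_mem hone]
  refine Finset.card_le_card fun θ hθ => ?_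
  obtain ⟨hθ1, hθ2⟩ := (Finset.mem_filter.1 hθ).2
  refine Finset.mem_erase.2 ⟨fun e => hθ1 (congrArg Subtype.val e), Finset.mem_filter.2 ⟨Finset.mem_univ _, ?_⟩⟩
  by_contra hno
  simp only [hP] at hno
  push Not at hno
  exact hθ2 (typeP_irr_indFun hctx h6 h7 θ hno)

/-- A linear character fixed by `K` is trivial. -/
theorem kernel [Fintype ↥((sigmaCore L).subgroupOf L)] :
    Kernel ((sigmaCore L : Set G) \ {1}) L (supportR L) ((sigmaCore L).subgroupOf L) := by
  classical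
  haveI := Fintype.ofFinite G
  haveI hHn : ((sigmaCore L).subgroupOf L).Normal := Subgroup.normal_subgroupOf_of_le_normalizer Sig.le_normalizer_piCoreOf
  obtain ⟨h1, h2, h3, h4, h5, h6, h7⟩ := c.typeP
  refine ⟨c.dade, ?_, fun x hx hx1 => ⟨Subgroup.mem_subgroupOf.1 hx, fun e => hx1 (Subtype.ext e)⟩,
    c.pre.minSimple.1.of_dvd_nat (Subgroup.card_subgroup_dvd_card L), ?_, ?_, ?_, ?_⟩
  · rintro a ⟨haH, ha1⟩ k hk
    have hko := hk.coprime_dvd_right (orderOf_dvd_natCard a)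
    refine ⟨⟨(sigmaCore L).pow_mem haH k, fun e => ha1 ?_⟩, supportR_congr (centralizer_pow_eq hko)⟩
    rw [Set.mem_singleton_iff]
    obtain ⟨j, hj⟩ := exists_pow_eq_self_of_coprime hko
    rw [Set.mem_singleton_iff] at e
    rw [← hj, e, one_pow]
  · haveI := c.pre.minSimple.2.2.2 L c.pre.coatomL.1
    infer_instance
  · intro h
    have hm : (⟨w, c.core_le c.w_core⟩ : L) ∈ (sigmaCore L).subgroupOf L := Subgroup.mem_subgroupOf.2 c.w_core
    rw [h, Subgroup.mem_bot] at hm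
    exact c.w_ne (congrArg (fun x : L => (x : G)) hm)
  · rw [c.index_eq]; exact c.three_le
  · intro θ hθ1 hθd
    by_contra hred
    have hfix : ∀ x ∈ K.subgroupOf L,
        (fun k : ↥((sigmaCore L).subgroupOf L) => (θ : ↥((sigmaCore L).subgroupOf L) → ℂ) ⟨x * k * x⁻¹, hHn.conj_mem (k : L) k.2 x⟩) = θ := by
      by_contra hno
      push Not at hno
      exact hred (typeP_irr_indFun (typeP_ctx h1 h2 h3 h4 h5 h7) h6 h7 θ hno)
    obtain ⟨l, hl⟩ := exists_hom_of_degree_one (irr_isCharacter θ.2)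
      (by rw [char_one_eq_deg (irr_isCharacter θ.2), hθd, Nat.cast_one])
    have hl' : ∀ x : ↥((sigmaCore L).subgroupOf L), (θ : ↥((sigmaCore L).subgroupOf L) → ℂ) x = (l x : ℂ) := fun x => by rw [hl]
    set R : Subgroup G := l.ker.map (L.subtype.comp ((sigmaCore L).subgroupOf L).subtype) with hR
    have hmem : ∀ (x : G) (hx : x ∈ (sigmaCore L)), (θ : ↥((sigmaCore L).subgroupOf L) → ℂ) ⟨⟨x, c.core_le hx⟩, hx⟩ = 1 → x ∈ R := fun x hx e => by
      refine ⟨⟨⟨x, c.core_le hx⟩, hx⟩, Units.ext ?_, rfl⟩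
      rw [← hl' _, e, Units.val_one]
    have hRH : R ≤ (sigmaCore L) := by
      rintro _ ⟨x, -, rfl⟩
      exact x.2
    have hconj : ∀ (k : G) (hk : k ∈ K) (x : ↥((sigmaCore L).subgroupOf L)),
        (θ : ↥((sigmaCore L).subgroupOf L) → ℂ) ⟨⟨k, c.K_le hk⟩ * x * (⟨k, c.K_le hk⟩ : L)⁻¹, hHn.conj_mem (x : L) x.2 _⟩ =
          (θ : ↥((sigmaCore L).subgroupOf L) → ℂ) x := fun k hk x => congrFun (hfix ⟨k, c.K_le hk⟩ hk) x
    have hRn : L ≤ Subgroup.normalizer (R : Set G) := by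
      intro m hm
      refine Fusion.mem_normalizer_of_cj_le ?_
      rintro _ ⟨_, ⟨x, hx, rfl⟩, rfl⟩
      obtain ⟨k, hk, h, hh, rfl⟩ := c.mul hm
      refine ⟨⟨⟨k, c.K_le hk⟩ * ((⟨⟨h, c.core_le hh⟩, hh⟩ : ↥((sigmaCore L).subgroupOf L)) * x * (⟨⟨h, c.core_le hh⟩, hh⟩ : ↥((sigmaCore L).subgroupOf L))⁻¹ : ↥((sigmaCore L).subgroupOf L)) *
        (⟨k, c.K_le hk⟩ : L)⁻¹, hHn.conj_mem _ (((⟨⟨h, c.core_le hh⟩, hh⟩ : ↥((sigmaCore L).subgroupOf L)) * x *
          (⟨⟨h, c.core_le hh⟩, hh⟩ : ↥((sigmaCore L).subgroupOf L))⁻¹ : ↥((sigmaCore L).subgroupOf L))).2 _⟩, Units.ext ?_, ?_⟩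
      · rw [← hl', hconj k hk, hl', map_mul, map_mul, map_inv, MonoidHom.mem_ker.1 hx]
        simp
      · show k * (h * ((x : L) : G) * h⁻¹) * k⁻¹ = k * h * ((x : L) : G) * (k * h)⁻¹
        group
    have hHR : (sigmaCore L) ≤ R := by
      conv_lhs => rw [← c.derived]
      
      refine Kappa.derived_le_of_mul (D := (sigmaCore L)) (K := K) hRn (hRH.trans c.core_le) c.core_le c.K_le (fun m hm => ?_)
        (fun a ha b hb => ?_) (fun a ha b hb => ?_) fun a ha b hb => ?_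
      · obtain ⟨k, hk, h, hh, rfl⟩ := c.mul hm
        exact ⟨k * h * k⁻¹, (Subgroup.mem_normalizer_iff.1 (Sig.le_normalizer_piCoreOf (c.K_le hk)) h).1 hh, k, hk,
          by group⟩
      · refine ⟨⁅(⟨⟨a, c.core_le ha⟩, ha⟩ : ↥((sigmaCore L).subgroupOf L)), (⟨⟨b, c.core_le hb⟩, hb⟩ : ↥((sigmaCore L).subgroupOf L))⁆, ?_, rfl⟩
        rw [SetLike.mem_coe, MonoidHom.mem_ker, map_commutatorElement]
        exact commutatorElement_eq_one_iff_commute.2 (Commute.all _ _)
      · rw [commutatorElement_eq_one_iff_commute.2 (Kappa.comm_of_cyclic c.decomp.cyclic a ha b hb)]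
        exact one_mem _
      · set x : ↥((sigmaCore L).subgroupOf L) := ⟨⟨a, c.core_le ha⟩, ha⟩
        set y : ↥((sigmaCore L).subgroupOf L) := ⟨⟨b, c.K_le hb⟩ * (x⁻¹ : ↥((sigmaCore L).subgroupOf L)) * (⟨b, c.K_le hb⟩ : L)⁻¹, hHn.conj_mem _ (x⁻¹).2 _⟩ with hy
        refine ⟨x * y, ?_, ?_⟩
        · rw [SetLike.mem_coe, MonoidHom.mem_ker, map_mul]
          refine Units.ext ?_
          rw [Units.val_mul, ← hl' y, hy, hconj b hb, hl', ← Units.val_mul, map_inv, mul_inv_cancel]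
        · show a * (b * a⁻¹ * b⁻¹) = ⁅a, b⁆
          rw [commutatorElement_def]; group
    refine hθ1 (funext fun x => ?_)
    obtain ⟨z, hz, e⟩ := hHR (Subgroup.mem_subgroupOf.1 x.2)
    obtain rfl : z = x := Subtype.ext (Subtype.ext e)
    rw [hl', MonoidHom.mem_ker.1 hz, Units.val_one]

end L

end KConf

end Cfsg.Agent.OddChar
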