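import Cfsg.Agent.Lib.OddChar.KappaConf
import Cfsg.Agent.Lib.OddLocal.KappaNonnilpotent
import Cfsg.Agent.Lib.OddLocal.KappaSignalizer
import Cfsg.Agent.Lib.OddLocal.SylowStructure
import Cfsg.Agent.Lib.Solv.Extraspecial
import Cfsg.Agent.Lib.Char.PPartElem
import Cfsg.Agent.Lib.Fusion.AlperinOmega

/-!
The setting with `κ`-primes in `L` and `L_σ = Q D` not nilpotent: the group theory.
-/

set_option autoImplicit false
set_option linter.unusedSectionVars false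
set_option linter.style.haveILetI false

open Cfsg
open scoped commutatorElement
open Cfsg.Agent.Fusion (SylIn cj cj_eq_self cj_mono card_cj)
open Cfsg.Agent.OddLocal
open Cfsg.Agent.OddLocal.RankTwo (omz)

namespace Cfsg.Agent.OddChar

universe u

variable {G : Type u} [Group G] [Finite G]

/-- The order of `K^*`. -/
noncomputable abbrev starCard (L K : Subgroup G) : ℕ := Nat.card ↥(sigmaCore L ⊓ Subgroup.centralizer (K : Set G))

/-- The setting with a splitting `L_σ = Q D` and `S ≤ D`. -/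
structure SConf (t : ℕ) (M L A E S : Subgroup G) (w : G) (K Q D H₁ : Subgroup G) : Prop where
  conf : KConf t M L A E S w K
  spl : Kappa.Split L K Q D H₁
  ne : fittingHallOf L ≠ sigmaCore L
  S_D : S ≤ D

variable {t : ℕ} [ht : Fact t.Prime] {M L A E S K Q D H₁ : Subgroup G} {w : G}

theorem not_dvd_card_Q (c : KConf t M L A E S w K) (hS : Kappa.Split L K Q D H₁) (hne : fittingHallOf L ≠ sigmaCore L) :
    ¬ t ∣ Nat.card Q := by
  intro htd
  have hG := c.pre.minSimple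
  have hL := c.pre.coatomL
  haveI : Fact (starCard L K).Prime := ⟨c.star_prime⟩
  obtain ⟨i, hi⟩ := IsPGroup.iff_card.1 hS.syl.isPGroup
  have htq : t = starCard L K :=
    (Nat.prime_dvd_prime_iff_eq ht.out c.star_prime).1 (ht.out.dvd_of_dvd_pow (hi ▸ htd))
  have hwp : IsPGroup (starCard L K) ↥(Subgroup.zpowers w) :=
    IsPGroup.of_card (n := 1) (by rw [Nat.card_zpowers, c.pre.w_order, pow_one, htq])
  obtain ⟨m, hm, hle⟩ := hS.syl.conj_le hwp (Subgroup.zpowers_le.2 (c.core_le c.w_core))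
  rw [Fusion.cj_le_iff, cj_eq_self (hS.norm (L.inv_mem hm))] at hle
  have hwQ : w ∈ Q := hle (Subgroup.mem_zpowers w)
  have hwF : w ∈ fittingOf L :=
    Subgroup.map_mono TypePBasic.fittingHall_le_fitting (hS.fitting hwQ)
  refine c.pre.w_not fun g hg => ?_
  have hgN : g ∈ Subgroup.normalizer (fittingOf L : Set G) := by
    by_contra hgn
    refine c.w_ne (Kappa.Split.ti hG hL c.decomp c.K_ne hS hne g hgn w hwF ?_)
    have e : g * w = w * g := Subgroup.mem_centralizer_singleton_iff.1 hg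
    rw [e, mul_inv_cancel_right]
    exact hwF
  have hF1 : fittingOf L ≠ ⊥ := fun h => c.w_ne (Subgroup.mem_bot.1 (h ▸ hwF))
  have hN : Subgroup.normalizer (fittingOf L : Set G) = L :=
    RankTwo.normalizer_eq_coatom hG hL hF1 (Subgroup.map_subtype_le _) Kappa.le_normalizer_fittingOf
  rwa [hN] at hgN

/-- The splitting exists and may be moved so that `S ≤ D`. -/
theorem exists_sconf (c : KConf t M L A E S w K) (hnil : ¬ Group.IsNilpotent ↥(sigmaCore L)) :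
    ∃ K' Q D H₁ : Subgroup G, SConf t M L A E S w K' Q D H₁ := by
  have hG := c.pre.minSimple
  have hL := c.pre.coatomL
  have hne : fittingHallOf L ≠ sigmaCore L := fun h => hnil (by
    exact h ▸ Solv.isNilpotent_of_le (Subgroup.map_mono TypePBasic.fittingHall_le_fitting :
      fittingHallOf L ≤ fittingOf L) (TypePBasic.fittingOf_nilpotent L))
  obtain ⟨-, -, Q, D, H₁, hS⟩ := Kappa.exists_split hG hL c.decomp hne
  have hQH : Q ≤ sigmaCore L := hS.compl.1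
  have hDH : D ≤ sigmaCore L := hS.compl.2.1
  have hQn : sigmaCore L ≤ Subgroup.normalizer (Q : Set G) := c.core_le.trans hS.norm
  have htQ := not_dvd_card_Q c hS hne
  obtain ⟨T, hT⟩ := Fusion.exists_sylIn (p := t) D
  have hTH : SylIn t T (sigmaCore L) := ⟨hT.le.trans hDH, hT.isPGroup, by
    rw [← Subgroup.relIndex_mul_relIndex T D (sigmaCore L) hT.le hDH]
    refine ht.out.prime.not_dvd_mul hT.not_dvd fun hd => htQ (hd.trans (dvd_of_eq ?_))
    have h := Solv.card_sup_mul_card_inf' Q D (hDH.trans hQn)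
    have e : Q ⊔ D = sigmaCore L := le_antisymm (sup_le hQH hDH) fun x hx => by
      obtain ⟨y, hy, d, hd, rfl⟩ := hS.compl.2.2.2 x hx
      exact Subgroup.mul_mem_sup hy hd
    rw [e, hS.compl.2.2.1, Subgroup.card_bot, mul_one, ← (D.subgroupOf (sigmaCore L)).card_mul_index,
      Solv.card_subgroupOf hDH, mul_comm (Nat.card Q)] at h
    exact Nat.eq_of_mul_eq_mul_left Nat.card_pos h⟩
  obtain ⟨g, hg, hgT⟩ := hTH.conj_eq (c.pre.syl.mono c.pre.S_core le_top)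
  have hgL : g ∈ L := c.core_le hg
  have hdec : IsSigmaDecomposition L (cj K g) ⊥ := by
    have h := Kappa.decomp_cj c.decomp hgL
    rwa [show cj (⊥ : Subgroup G) g = ⊥ from Subgroup.map_bot _] at h
  have hcσ : cj (sigmaCore L) g = sigmaCore L := cj_eq_self (Sig.le_normalizer_piCoreOf hgL)
  have hstar : sigmaCore L ⊓ Subgroup.centralizer (cj K g : Set G) =
      cj (sigmaCore L ⊓ Subgroup.centralizer (K : Set G)) g := by
    rw [Fusion.cj_inf, hcσ, Fusion.cj_centralizer]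
  have hQg : cj Q g = Q := cj_eq_self (hS.norm hgL)
  have hKg : cj K g ≠ ⊥ := fun h => c.K_ne (Subgroup.card_eq_one.1 (by
    rw [← card_cj K g, h, Subgroup.card_bot]))
  have hcard : Nat.card ↥(sigmaCore L ⊓ Subgroup.centralizer (cj K g : Set G)) = starCard L K := by
    rw [hstar, card_cj]
  refine ⟨cj K g, Q, cj D g, cj H₁ g, ⟨c.pre, hdec, hKg⟩, ?_, hne, hgT ▸ cj_mono hT.le g⟩
  refine ⟨?_, hS.norm, hS.fitting, ?_, ?_, ?_, ?_, cj_mono hS.hallK g, cj_mono hS.hallD g, ?_, ?_⟩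
  · rw [hcard]; exact hS.syl
  · rw [hstar, ← hQg]; exact cj_mono hS.star g
  · refine ⟨hQH, (cj_mono hDH g).trans hcσ.le, ?_, fun x hx => ?_⟩
    · rw [← hQg, ← Fusion.cj_inf, hS.compl.2.2.1]; exact Subgroup.map_bot _
    · have hH := (sigmaCore L).mul_mem ((sigmaCore L).mul_mem ((sigmaCore L).inv_mem hg) hx) hg
      obtain ⟨a, ha, b, hb, e⟩ := hS.compl.2.2.2 _ hH
      refine ⟨g * a * g⁻¹, (Subgroup.mem_normalizer_iff.1 (hS.norm hgL) a).1 ha, g * b * g⁻¹,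
        Fusion.conj_mem_cj hb, ?_⟩
      calc x = g * (g⁻¹ * x * g) * g⁻¹ := by group
        _ = _ := by rw [e]; group
  · haveI := hS.nilpotent
    exact Group.nilpotent_of_mulEquiv (D.equivMapOfInjective (MulAut.conj g).toMonoidHom (MulAut.conj g).injective)
  · rw [← Fusion.cj_normalizer]; exact cj_mono hS.invariant g
  · exact (cj_mono hS.hall_le g).trans (cj_eq_self (Subgroup.le_normalizer hgL)).le
  · rw [hcard, card_cj]; exact hS.coprime

namespace SConf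

variable (c : SConf t M L A E S w K Q D H₁)
include c

theorem Q_le : Q ≤ sigmaCore L := c.spl.compl.1

theorem D_le : D ≤ sigmaCore L := c.spl.compl.2.1

theorem Q_D : Q ⊓ D = ⊥ := c.spl.compl.2.2.1

theorem Q_norm : sigmaCore L ≤ Subgroup.normalizer (Q : Set G) := c.conf.core_le.trans c.spl.norm

theorem eq_one {x : G} (h1 : x ∈ Q) (h2 : x ∈ D) : x = 1 :=
  Subgroup.mem_bot.1 (c.Q_D ▸ Subgroup.mem_inf.2 ⟨h1, h2⟩)

theorem mul {x : G} (hx : x ∈ sigmaCore L) : ∃ y ∈ Q, ∃ d ∈ D, x = y * d := c.spl.compl.2.2.2 x hx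

theorem card_mul : Nat.card Q * Nat.card D = Nat.card (sigmaCore L) := by
  have h := Solv.card_sup_mul_card_inf' Q D (c.D_le.trans c.Q_norm)
  have e : Q ⊔ D = sigmaCore L := le_antisymm (sup_le c.Q_le c.D_le) fun x hx => by
    obtain ⟨y, hy, d, hd, rfl⟩ := c.mul hx
    exact Subgroup.mul_mem_sup hy hd
  rw [e, c.Q_D, Subgroup.card_bot, mul_one] at h
  exact h.symm

theorem facts : (Nat.card K).Prime ∧ Q ⊓ Subgroup.centralizer (D : Set G) < Q ∧
    (sigmaCore L ⊓ Subgroup.centralizer (K : Set G)) ⊓ Subgroup.centralizer (D : Set G) = ⊥ ∧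
    Nat.card Q = Nat.card ↥(Q ⊓ Subgroup.centralizer (D : Set G)) * starCard L K ^ Nat.card K :=
  c.spl.facts c.conf.pre.minSimple c.conf.pre.coatomL c.conf.decomp c.conf.K_ne c.ne

theorem q_prime : (starCard L K).Prime := c.conf.star_prime

theorem not_dvd : ¬ t ∣ Nat.card Q := not_dvd_card_Q c.conf c.spl c.ne

theorem star_le : sigmaCore L ⊓ Subgroup.centralizer (K : Set G) ≤ Q := c.spl.star

theorem Q_tgroup {x : G} (hx : x ∈ Q) (hxt : x ^ t = 1) : x = 1 := orderOf_eq_one_iff.1 (by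
  rcases (Nat.dvd_prime ht.out).1 (orderOf_dvd_of_pow_eq_one hxt) with h | h
  · exact h
  · exact absurd (h ▸ Subgroup.orderOf_dvd_natCard Q hx) c.not_dvd)

theorem D_derived : ⁅D, D⁆ ≤ Subgroup.centralizer (Q : Set G) :=
  Kappa.Q_compl_derived c.conf.pre.minSimple c.conf.pre.coatomL c.conf.decomp c.conf.K_ne rfl c.spl.syl c.spl.norm
    c.spl.star c.spl.compl c.spl.nilpotent c.spl.invariant c.spl.hallK c.spl.hallD c.spl.hall_le c.spl.coprime

theorem DK_norm_D : D ⊔ K ≤ Subgroup.normalizer (D : Set G) := sup_le Subgroup.le_normalizer c.spl.invariant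

theorem S_sylD : SylIn t S D := c.conf.pre.syl.mono c.S_D le_top

theorem DK_norm_S : D ⊔ K ≤ Subgroup.normalizer (S : Set G) :=
  SigmaSubgroups.sylow_of_nilpotent_normal c.spl.nilpotent c.DK_norm_D c.S_sylD

theorem DK_le : D ⊔ K ≤ L := sup_le (c.D_le.trans c.conf.core_le) c.conf.K_le

/-- `K` acts on `D` without fixed points. -/
theorem free {k : G} (hk : k ∈ K) (hk1 : k ≠ 1) {d : G} (hd : d ∈ D) (e : k * d = d * k) : d = 1 := by
  refine c.eq_one (c.star_le ?_) hd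
  rw [← c.conf.prime_action hk hk1]
  exact ⟨c.D_le hd, Subgroup.mem_centralizer_singleton_iff.2 e.symm⟩

theorem K_free {X : Subgroup G} (hX : X ≤ D) : ∀ g ∈ K, g ≠ 1 → ∀ a ∈ X, g * a = a * g → a = 1 :=
  fun _ hg hg1 _ ha e => c.free hg hg1 (hX ha) e

theorem bound_line (hna : ¬ IsMulCommutative ↥S) : Nat.card K ∣ t - 1 := by
  have d := c.conf.pre
  have hSM : ¬ S ≤ M := fun h => hna (TauTwo.pgroup_abelian d.minSimple d.coatomM d.setup.not_sigma d.syl.isPGroup h)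
  obtain ⟨-, hc⟩ := TauTwo.central_line d.setup d.syl d.A_S hSM
  exact dvd_pred_of_line hc ((le_sup_right.trans c.DK_norm_S).trans (RankTwo.normalizer_le_omz S))
    (c.K_free ((RankTwo.omz_le S).trans c.S_D))

theorem A_normal_of_abelian (hab : IsMulCommutative ↥S) : S ≤ M ∧ D ⊔ K ≤ Subgroup.normalizer (A : Set G) := by
  have d := c.conf.pre
  have hSC : S ≤ Subgroup.centralizer (A : Set G) := fun x hx => Subgroup.mem_centralizer_iff.2 fun a ha =>
    congrArg Subtype.val (hab.is_comm.comm (⟨a, d.A_S ha⟩ : S) ⟨x, hx⟩)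
  refine ⟨hSC.trans d.setup.centralizer_le, fun g hg => Fusion.mem_normalizer_of_cj_le ?_⟩
  rintro _ ⟨a, ha, rfl⟩
  have h1 : g * a * g⁻¹ ∈ S := (Subgroup.mem_normalizer_iff.1 (c.DK_norm_S hg) a).1 (d.A_S ha)
  exact d.setup.full _ (hSC h1) (by
    show (g * a * g⁻¹) ^ t = 1
    rw [conj_pow, d.setup.elem.2 a ha, mul_one, mul_inv_cancel])

/-- `2 |K| ≤ t + 1`. -/
theorem bound : 2 * Nat.card K ≤ t + 1 := by
  have d := c.conf.pre
  obtain ⟨k, hk⟩ := c.conf.odd_K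
  have h3 := c.conf.three_le
  have h2 := ht.out.two_le
  have hodd := (Nat.Prime.eq_two_or_odd ht.out).resolve_left d.setup.ne_two
  by_cases hab : IsMulCommutative ↥S
  swap
  · obtain ⟨q, hq⟩ := c.bound_line hab
    rcases q with _ | _ | q
    · omega
    · omega
    · have := Nat.mul_le_mul_left (Nat.card K) (show 2 ≤ q + 1 + 1 by omega)
      omega
  have hKA : K ≤ Subgroup.normalizer (A : Set G) := le_sup_right.trans (c.A_normal_of_abelian hab).2
  have hKp : IsPGroup (Nat.card K) ↥K := IsPGroup.of_card (n := 1) (pow_one _).symm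
  haveI : Fact (Nat.card K).Prime := ⟨c.facts.1⟩
  let ρ : ↥K →* MulAut A := A.normalizerMonoidHom.comp (Subgroup.inclusion hKA)
  letI : MulAction K A := MulAction.compHom A ρ
  obtain ⟨k₀, hk₀, hk₁⟩ := K.bot_or_exists_ne_one.resolve_left c.conf.K_ne
  have hfix : MulAction.fixedPoints K A = {1} := by
    refine Set.eq_singleton_iff_unique_mem.2 ⟨fun x => map_one (ρ x), fun a ha => Subtype.ext ?_⟩
    refine c.free hk₀ hk₁ (c.S_D (d.A_S a.2)) ?_
    have h := congrArg Subtype.val (ha ⟨k₀, hk₀⟩)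
    change k₀ * (a : G) * k₀⁻¹ = a at h
    exact mul_inv_eq_iff_eq_mul.1 h
  have hmod := hKp.card_modEq_card_fixedPoints (α := A)
  rw [hfix, Nat.card_coe_set_eq, Set.ncard_singleton, d.setup.card] at hmod
  have hdvd := (Nat.modEq_iff_dvd' (Nat.one_le_pow _ _ ht.out.pos)).1 hmod.symm
  rw [show t ^ 2 - 1 = (t + 1) * (t - 1) by rw [← Nat.sq_sub_sq, one_pow]] at hdvd
  rcases c.facts.1.dvd_mul.1 hdvd with ⟨q, hq⟩ | ⟨q, hq⟩
  · rcases q with _ | _ | q
    · omega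
    · omega
    · have := Nat.mul_le_mul_left (Nat.card K) (show 2 ≤ q + 1 + 1 by omega)
      omega
  · rcases q with _ | _ | q
    · omega
    · omega
    · have := Nat.mul_le_mul_left (Nat.card K) (show 2 ≤ q + 1 + 1 by omega)
      omega

theorem E_le : E ≤ sigmaCore L := by
  have d := c.conf.pre
  have hEL : E ≤ L := d.E_eq.ge.trans inf_le_left
  by_contra hno
  obtain ⟨r, hr, hrd, hrσ⟩ : ∃ r : ℕ, r.Prime ∧ r ∣ Nat.card E ∧ r ∉ sigma L := by
    by_contra h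
    push Not at h
    exact hno (Sig.le_of_hall (Sig.sigmaCore_hall d.minSimple d.coatomL).1 Sig.le_normalizer_piCoreOf hEL
      fun q hq hd => h q hq hd)
  haveI := Fact.mk hr
  have hre : r = Nat.card K := by
    have h1 : r ∣ ((sigmaCore L).subgroupOf L).index * Nat.card ↥((sigmaCore L).subgroupOf L) := by
      rw [Subgroup.index_mul_card]; exact hrd.trans (Subgroup.card_dvd_of_le hEL)
    rw [c.conf.index_eq, Solv.card_subgroupOf c.conf.core_le] at h1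
    exact (Nat.prime_dvd_prime_iff_eq hr c.facts.1).1 ((hr.dvd_mul.1 h1).resolve_right fun h =>
      hrσ ((Sig.sigmaCore_hall d.minSimple d.coatomL).1.2.1 r hr h))
  obtain ⟨⟨u, huE⟩, huo⟩ := exists_prime_orderOf_dvd_card' r hrd
  rw [Subgroup.orderOf_mk] at huo
  refine d.no_free huE huo (by have := c.bound; have := c.conf.three_le; omega) fun a ha e => ?_
  obtain ⟨m, hm, hma⟩ := c.conf.fixed_star hr hre.dvd (hEL huE) huo (d.S_core (d.A_S ha)) e
  have h1 : m⁻¹ * a * m = 1 := c.Q_tgroup (c.star_le hma) (by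
    rw [show m⁻¹ * a * m = m⁻¹ * a * m⁻¹⁻¹ by rw [inv_inv], conj_pow, d.setup.elem.2 a ha, mul_one, mul_inv_cancel])
  calc a = m * (m⁻¹ * a * m) * m⁻¹ := by group
    _ = 1 := by rw [h1]; group

omit c in
theorem mul_pow_mem {Y : Subgroup G} {d : G} (hd : d ∈ Subgroup.normalizer (Y : Set G)) {y : G} (hy : y ∈ Y) :
    ∀ n : ℕ, (y * d) ^ n * (d ^ n)⁻¹ ∈ Y := by
  intro n
  induction n with
  | zero => simp
  | succ n ih =>
    rw [show (y * d) ^ (n + 1) * (d ^ (n + 1))⁻¹ = y * (d * ((y * d) ^ n * (d ^ n)⁻¹) * d⁻¹) by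
      rw [pow_succ', pow_succ']; group]
    exact Y.mul_mem hy ((Subgroup.mem_normalizer_iff.1 hd _).1 ih)

/-- `L ∩ M` centralises `A`. -/
theorem E_cent : E ≤ Subgroup.centralizer (A : Set G) := by
  have d := c.conf.pre
  intro x hx
  refine Subgroup.mem_centralizer_iff.2 fun a ha => ?_
  have hxA : ∀ z ∈ E, z ∈ Subgroup.normalizer (A : Set G) := fun z hz =>
    (TauTwo.complement_tau2 d.setup d.complM d.A_le).1.1 hz
  have hEM : E ≤ M := d.E_eq.ge.trans inf_le_right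
  -- elements of `t`-power order
  have h1 : ∀ z ∈ E, (∃ k : ℕ, orderOf z = t ^ k) → Commute z a := by
    rintro z hz ⟨k, hk⟩
    have hzp : IsPGroup t ↥(Subgroup.zpowers z) := IsPGroup.of_card (n := k) (by rw [Nat.card_zpowers, hk])
    have hp : IsPGroup t ↥(Subgroup.zpowers z ⊔ A) :=
      hzp.to_sup_of_normal_right' (Fusion.elab_isPGroup d.setup.elem) (Subgroup.zpowers_le.2 (hxA z hz))
    have hab := TauTwo.pgroup_abelian d.minSimple d.coatomM d.setup.not_sigma hp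
      (sup_le (Subgroup.zpowers_le.2 (hEM hz)) d.setup.le)
    exact congrArg Subtype.val (hab.is_comm.comm
      (⟨z, Subgroup.mem_sup_left (Subgroup.mem_zpowers z)⟩ : ↥(Subgroup.zpowers z ⊔ A)) ⟨a, Subgroup.mem_sup_right ha⟩)
  -- elements of order prime to `t`
  have h2 : ∀ z ∈ E, ¬ t ∣ orderOf z → Commute z a := by
    intro z hz hzt
    obtain ⟨y, hy, e, he, rfl⟩ := c.mul (c.E_le hz)
    have hen : e ^ orderOf (y * e) = 1 := c.eq_one (by
      have h := mul_pow_mem (c.Q_norm (c.D_le he)) hy (orderOf (y * e))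
      rw [pow_orderOf_eq_one, one_mul] at h
      exact Q.inv_mem_iff.1 h) (D.pow_mem he _)
    have hcom : e * a = a * e := by
      haveI := c.spl.nilpotent
      have hcp := TypePBasic.nilpotent_coprime_commute (F := D)
        (Subgroup.zpowers_le.2 (c.S_D (d.A_S ha))) (Subgroup.zpowers_le.2 he) (by
          rw [Nat.card_zpowers, Nat.card_zpowers]
          refine Nat.Coprime.coprime_dvd_left (orderOf_dvd_of_pow_eq_one (d.setup.elem.2 a ha)) ?_
          exact (Nat.Prime.coprime_iff_not_dvd ht.out).2 fun h => hzt (h.trans (orderOf_dvd_of_pow_eq_one hen)))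
      exact (Subgroup.mem_centralizer_iff.1 (hcp (Subgroup.mem_zpowers e)) a (Subgroup.mem_zpowers a)).symm
    have hc : y * e * a * (y * e)⁻¹ * a⁻¹ ∈ A :=
      A.mul_mem ((Subgroup.mem_normalizer_iff.1 (hxA _ hz) a).1 ha) (A.inv_mem ha)
    have hQ : y * e * a * (y * e)⁻¹ * a⁻¹ ∈ Q := by
      rw [show y * e * a * (y * e)⁻¹ * a⁻¹ = y * (e * a * e⁻¹ * y⁻¹ * a⁻¹) by group, hcom, mul_inv_cancel_right]
      exact Q.mul_mem hy ((Subgroup.mem_normalizer_iff.1 (c.Q_norm (d.S_core (d.A_S ha))) _).1 (Q.inv_mem hy))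
    have h := c.eq_one hQ (c.S_D (d.A_S hc))
    exact mul_inv_eq_iff_eq_mul.1 (mul_inv_eq_one.1 h)
  obtain ⟨y, hy, -, hk, hr⟩ := Char.isPPart_ppt ht.out (⟨x, hx⟩ : E)
  have hA := h1 _ (Char.ppt t (⟨x, hx⟩ : E)).2 (by simpa only [Subgroup.orderOf_coe] using hk)
  have hB := h2 _ y.2 (by rwa [Subgroup.orderOf_coe])
  have e : x = ((Char.ppt t (⟨x, hx⟩ : ↥E) : ↥E) : G) * (y : G) := (congrArg Subtype.val hy).symm
  rw [e]
  exact (hA.mul_left hB).symm

theorem mem_E {x : G} : x ∈ E ↔ x ∈ sigmaCore L ∧ x * w = w * x := by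
  refine ⟨fun hx => ⟨c.E_le hx, (Subgroup.mem_centralizer_iff.1 (c.E_cent hx) w c.conf.pre.w_mem).symm⟩,
    fun h => c.conf.pre.E_eq.le ⟨c.conf.core_le h.1, c.conf.pre.centralizer_le
      (Subgroup.mem_centralizer_singleton_iff.2 h.2)⟩⟩

theorem w_D : w ∈ D := c.S_D (c.conf.pre.A_S c.conf.pre.w_mem)

theorem D_mem_E {d : G} (hd : d ∈ D) (e : d * w = w * d) : d ∈ E := c.mem_E.2 ⟨c.D_le hd, e⟩

theorem QE_disjoint {y : G} (hy : y ∈ sigmaCore M) {x : G} (hx : x ∈ Q) (hx1 : x ≠ 1) (e : x * y = y * x) :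
    y = 1 := by
  have d := c.conf.pre
  have hG := d.minSimple
  have hL := d.coatomL
  have hxF : x ∈ fittingOf L := Subgroup.map_mono TypePBasic.fittingHall_le_fitting (c.spl.fitting hx)
  have hN : Subgroup.normalizer (fittingOf L : Set G) = L :=
    RankTwo.normalizer_eq_coatom hG hL (fun h => hx1 (Subgroup.mem_bot.1 (h ▸ hxF))) (Subgroup.map_subtype_le _)
      Kappa.le_normalizer_fittingOf
  have hyL : y ∈ L := by
    rw [← hN]
    by_contra hyn
    refine hx1 (c.spl.ti hG hL c.conf.decomp c.conf.K_ne c.ne y hyn x hxF ?_)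
    rw [← e, mul_inv_cancel_right]
    exact hxF
  have hyE : y ∈ E := d.E_eq.le ⟨hyL, (Subgroup.map_subtype_le _ : sigmaCore M ≤ M) hy⟩
  exact Subgroup.mem_bot.1 (d.complM.2.2.1 ▸ Subgroup.mem_inf.2 ⟨hyE, hy⟩)

theorem C_abelian : IsMulCommutative ↥(Q ⊓ E) := by
  have d := c.conf.pre
  haveI : Fact (starCard L K).Prime := ⟨c.q_prime⟩
  exact TauTwo.nilpotent_abelian d.minSimple d.coatomM (inf_le_right.trans (d.E_eq.ge.trans inf_le_right))
    (c.spl.syl.isPGroup.to_le inf_le_left).isNilpotent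
    fun q hq hd => Sig.compl_pi d.minSimple d.coatomM d.complM hq (hd.trans (Subgroup.card_dvd_of_le inf_le_right))

theorem C_cyclic : IsCyclic ↥(Q ⊓ E) := by
  have d := c.conf.pre
  set C := Q ⊓ E with hC
  by_contra hnc
  have hall := (Sig.sigmaCore_hall d.minSimple d.coatomM).1
  have hco : (Nat.card C).Coprime (Nat.card (sigmaCore M)) := Nat.coprime_of_dvd fun r hr h1 h2 =>
    Sig.compl_pi d.minSimple d.coatomM d.complM hr (h1.trans (Subgroup.card_dvd_of_le inf_le_right))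
      (hall.2.1 r hr h2)
  have hCn : C ≤ Subgroup.normalizer (sigmaCore M : Set G) :=
    (inf_le_right.trans (d.E_eq.ge.trans inf_le_right)).trans Sig.le_normalizer_piCoreOf
  refine FitParts.sigmaCore_ne_bot d.minSimple d.coatomM (le_bot_iff.1 ?_)
  refine (Solv.gen_eq C (sigmaCore M) c.C_abelian hCn hco).ge.trans (iSup₂_le fun B hB => ?_)
  obtain ⟨hBC, a, ha, hBa⟩ := hB
  obtain ⟨x, hx, hx1⟩ : ∃ x ∈ B, x ≠ 1 := B.bot_or_exists_ne_one.resolve_left fun h => hnc (by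
    rw [h, bot_sup_eq] at hBa
    rw [← hBa]
    infer_instance)
  intro y hy
  exact Subgroup.mem_bot.2 (c.QE_disjoint hy.1 (hBC hx).1 hx1 (Subgroup.mem_centralizer_iff.1 hy.2 x hx))

theorem Q0_le : Q ⊓ Subgroup.centralizer (D : Set G) ≤ Q ⊓ E := fun _ hx =>
  ⟨hx.1, c.mem_E.2 ⟨c.Q_le hx.1, (Subgroup.mem_centralizer_iff.1 hx.2 w c.w_D).symm⟩⟩

/-- `Q_0` is central in `L_σ`. -/
theorem Q0_central : sigmaCore L ≤ Subgroup.centralizer ((Q ⊓ Subgroup.centralizer (D : Set G) : Subgroup G) : Set G) := by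
  set Q0 := Q ⊓ Subgroup.centralizer (D : Set G) with hQ0
  have hn : L ≤ Subgroup.normalizer (Q0 : Set G) :=
    (c.spl.frattini_le c.conf.pre.minSimple c.conf.pre.coatomL c.conf.decomp c.conf.K_ne c.ne).2
  haveI := c.C_cyclic
  haveI : IsCyclic ↥Q0 := isCyclic_of_injective (Subgroup.inclusion c.Q0_le) (Subgroup.inclusion_injective _)
  obtain ⟨g, hg⟩ := IsCyclic.exists_generator (α := ↥Q0)
  have hpow : ∀ z ∈ Q0, ∃ i : ℤ, z = (g : G) ^ i := fun z hz => by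
    obtain ⟨i, hi⟩ := Subgroup.mem_zpowers_iff.1 (hg ⟨z, hz⟩)
    exact ⟨i, by rw [← SubgroupClass.coe_zpow, hi]⟩
  rw [← c.conf.derived, Subgroup.commutator_le]
  intro a ha b hb
  refine Subgroup.mem_centralizer_iff.2 fun z hz => ?_
  have hconj : ∀ m ∈ L, ∃ i : ℤ, ∀ j : ℤ, m * (g : G) ^ j * m⁻¹ = (g : G) ^ (i * j) := fun m hm => by
    obtain ⟨i, hi⟩ := hpow _ ((Subgroup.mem_normalizer_iff.1 (hn hm) (g : G)).1 g.2)
    exact ⟨i, fun j => by rw [← conj_zpow, hi, ← zpow_mul]⟩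
  obtain ⟨i, hi⟩ := hpow z hz
  obtain ⟨p, hp⟩ := hconj a ha
  obtain ⟨q, hq⟩ := hconj b hb
  have hab : ∀ j : ℤ, a * b * (g : G) ^ j * (a * b)⁻¹ = b * a * (g : G) ^ j * (b * a)⁻¹ := fun j => by
    calc a * b * (g : G) ^ j * (a * b)⁻¹ = a * (b * (g : G) ^ j * b⁻¹) * a⁻¹ := by group
      _ = (g : G) ^ (p * (q * j)) := by rw [hq, hp]
      _ = b * (a * (g : G) ^ j * a⁻¹) * b⁻¹ := by rw [hp, hq, mul_left_comm]
      _ = _ := by group
  obtain ⟨k, hk⟩ := hpow _ ((Subgroup.mem_normalizer_iff.1 (hn (L.inv_mem (L.mul_mem hb ha))) z).1 hz)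
  have h := hab k
  rw [← hk, inv_inv] at h
  have h2 : ⁅a, b⁆ * z * ⁅a, b⁆⁻¹ = z := by
    calc ⁅a, b⁆ * z * ⁅a, b⁆⁻¹ = a * b * ((b * a)⁻¹ * z * (b * a)) * (a * b)⁻¹ := by
          rw [commutatorElement_def]; group
      _ = b * a * ((b * a)⁻¹ * z * (b * a)) * (b * a)⁻¹ := h
      _ = z := by group
  exact (mul_inv_eq_iff_eq_mul.1 h2).symm

/-- `Q` is abelian. -/
theorem Q_comm : ∀ x ∈ Q, ∀ y ∈ Q, x * y = y * x := by
  have hG := c.conf.pre.minSimple
  have hL := c.conf.pre.coatomL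
  set q := starCard L K with hq
  haveI : Fact q.Prime := ⟨c.q_prime⟩
  set Q0 := Q ⊓ Subgroup.centralizer (D : Set G) with hQ0
  obtain ⟨he, hlt, -, hQc⟩ := c.facts
  obtain ⟨hΦ, hn0⟩ := c.spl.frattini_le hG hL c.conf.decomp c.conf.K_ne c.ne
  have hc0 : ∀ z ∈ Q0, ∀ x ∈ sigmaCore L, x * z = z * x := fun z hz x hx =>
    (Subgroup.mem_centralizer_iff.1 (c.Q0_central hx) z hz).symm
  have hcomm : ∀ x ∈ Q, ∀ y ∈ Q, ⁅x, y⁆ ∈ Q0 := fun x hx y hy =>
    hΦ ⟨_, Solv.commutatorElement_mem_frattini c.spl.syl.isPGroup ⟨x, hx⟩ ⟨y, hy⟩, rfl⟩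
  have hqpow : ∀ x ∈ Q, x ^ q ∈ Q0 := fun x hx =>
    hΦ ⟨_, Solv.pow_mem_frattini c.spl.syl.isPGroup ⟨x, hx⟩, rfl⟩
  have hQL : Q ≤ L := c.Q_le.trans c.conf.core_le
  by_contra hna
  push Not at hna
  obtain ⟨x₀, hx₀, y₀, hy₀, hne⟩ := hna
  have hq1 : ∀ x ∈ Q, ∀ y ∈ Q, ⁅x, y⁆ ^ q = 1 := fun x hx y hy =>
    Fusion.commutatorElement_pow_eq_one (hc0 _ (hcomm x hx y hy) x (c.Q_le hx)).symm
      (hc0 _ (hqpow x hx) y (c.Q_le hy)).symm
  obtain ⟨m, hm⟩ : q ∣ q.choose 2 := by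
    refine c.q_prime.dvd_choose_self two_ne_zero (lt_of_le_of_ne c.q_prime.two_le ?_)
    intro h2
    have hd : q ∣ Nat.card G := Subgroup.card_subgroup_dvd_card _
    obtain ⟨j, hj⟩ := hG.1.of_dvd_nat hd
    omega
  have hmul : ∀ x ∈ Q, ∀ y ∈ Q, (x * y) ^ q = x ^ q * y ^ q := fun x hx y hy => by
    rw [Fusion.mul_pow_of_central (hc0 _ (hcomm y hy x hx) x (c.Q_le hx)).symm
      (hc0 _ (hcomm y hy x hx) y (c.Q_le hy)).symm, hm, pow_mul, hq1 y hy x hx, one_pow, mul_one]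
  let f : ↥Q →* ↥Q0 :=
    { toFun := fun x => ⟨(x : G) ^ q, hqpow x x.2⟩
      map_one' := Subtype.ext (one_pow q)
      map_mul' := fun x y => Subtype.ext (hmul x x.2 y y.2) }
  set Q1 : Subgroup G := f.ker.map Q.subtype with hQ1
  have hmem1 : ∀ {x : G}, x ∈ Q1 ↔ x ∈ Q ∧ x ^ q = 1 := fun {x} => by
    constructor
    · rintro ⟨y, hy, rfl⟩; exact ⟨y.2, congrArg Subtype.val hy⟩
    · exact fun h => ⟨⟨x, h.1⟩, Subtype.ext h.2, rfl⟩
  have hQ1Q : Q1 ≤ Q := fun x hx => (hmem1.1 hx).1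
  have hn1 : L ≤ Subgroup.normalizer (Q1 : Set G) := fun g hg => Fusion.mem_normalizer_of_cj_le (by
    rintro _ ⟨y, hy, rfl⟩
    obtain ⟨h1, h2⟩ := hmem1.1 hy
    exact hmem1.2 ⟨(Subgroup.mem_normalizer_iff.1 (c.spl.norm hg) y).1 h1, by
      show (g * y * g⁻¹) ^ q = 1
      rw [conj_pow, h2, mul_one, mul_inv_cancel]⟩)
  -- the part of order `q` of `Q_0`
  have hint : Nat.card ↥(Q1 ⊓ Q0) = q := by
    haveI := c.C_cyclic
    haveI : IsCyclic ↥Q0 := isCyclic_of_injective (Subgroup.inclusion c.Q0_le) (Subgroup.inclusion_injective _)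
    haveI : IsCyclic ↥(Q1 ⊓ Q0) :=
      isCyclic_of_injective (Subgroup.inclusion inf_le_right) (Subgroup.inclusion_injective _)
    obtain ⟨g, hg⟩ := IsCyclic.exists_generator (α := ↥(Q1 ⊓ Q0))
    have hgo : orderOf g ∣ q := orderOf_dvd_of_pow_eq_one (Subtype.ext (hmem1.1 g.2.1).2)
    rw [← orderOf_eq_card_of_forall_mem_zpowers hg]
    refine ((Nat.dvd_prime c.q_prime).1 hgo).resolve_left fun h => hne ?_
    have hmem : ⁅x₀, y₀⁆ ∈ Q1 ⊓ Q0 :=
      ⟨hmem1.2 ⟨(hcomm x₀ hx₀ y₀ hy₀).1, hq1 x₀ hx₀ y₀ hy₀⟩, hcomm x₀ hx₀ y₀ hy₀⟩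
    have h1 := hg ⟨_, hmem⟩
    rw [orderOf_eq_one_iff.1 h, Subgroup.zpowers_one_eq_bot, Subgroup.mem_bot] at h1
    exact commutatorElement_eq_one_iff_mul_comm.1 (congrArg Subtype.val h1)
  have hsup : Q1 ⊔ Q0 = Q := by
    by_contra hsn
    have h10 : Q1 ≤ Q0 := by
      by_contra h
      refine c.spl.chief hG hL c.conf.decomp c.conf.K_ne c.ne (N := Q1 ⊔ Q0) ?_
        (lt_of_le_of_ne (sup_le hQ1Q inf_le_left) hsn) ?_
      · exact lt_of_le_of_ne le_sup_right fun e => h (le_sup_left.trans e.ge)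
      · exact fun g hg => Fusion.mem_normalizer_of_cj_le (by
          rw [Fusion.cj_sup, cj_eq_self (hn1 hg), cj_eq_self (hn0 hg)])
    rw [inf_eq_left.2 h10] at hint
    have hker : Nat.card f.ker = q := by
      rw [← hint, hQ1, Subgroup.card_map_of_injective Q.subtype_injective]
    have h1 : Nat.card Q ≤ q * Nat.card Q0 := by
      rw [← f.ker.card_mul_index, hker, Subgroup.index_ker]
      exact Nat.mul_le_mul_left _ (Subgroup.card_le_card_group _)
    rw [hQc, mul_comm q] at h1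
    have h2 := Nat.le_of_mul_le_mul_left h1 Nat.card_pos
    exact absurd h2 (not_le.2 (lt_of_eq_of_lt (pow_one q).symm (Nat.pow_lt_pow_right c.q_prime.one_lt he.one_lt)))
  have hcard : Nat.card Q1 = q ^ (Nat.card K + 1) := by
    have h := Solv.card_sup_mul_card_inf' Q1 Q0 (inf_le_left.trans (hQL.trans hn1))
    rw [hsup, hint, hQc] at h
    refine (Nat.eq_of_mul_eq_mul_right (Nat.card_pos (α := Q0)) ?_).symm
    rw [← h, hQ0]; ring
  have hcen : Subgroup.center ↥Q1 = (Q1 ⊓ Q0).subgroupOf Q1 := by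
    refine le_antisymm (fun z hz => ⟨z.2, ?_⟩) fun z hz => Subgroup.mem_center_iff.2 fun g =>
      Subtype.ext (hc0 _ hz.2 g (c.Q_le (hQ1Q g.2)))
    by_contra hz0
    set Zc : Subgroup G := Q ⊓ Subgroup.centralizer (Q : Set G) with hZc
    have hzc : ∀ x ∈ Q, x * (z : G) = z * x := fun x hx => by
      rw [← hsup, ← SetLike.mem_coe,
        Subgroup.coe_mul_of_right_le_normalizer_left _ _ (inf_le_left.trans (hQL.trans hn1))] at hx
      obtain ⟨a, ha, b, hb, rfl⟩ := hx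
      have h1 : a * (z : G) = z * a := congrArg Subtype.val (Subgroup.mem_center_iff.1 hz ⟨a, ha⟩)
      have h2 : b * (z : G) = z * b := (hc0 b hb z (c.Q_le (hQ1Q z.2))).symm
      show a * b * (z : G) = z * (a * b)
      rw [mul_assoc, h2, ← mul_assoc, h1, mul_assoc]
    have hzZ : (z : G) ∈ Zc := ⟨hQ1Q z.2, Subgroup.mem_centralizer_iff.2 hzc⟩
    refine c.spl.chief hG hL c.conf.decomp c.conf.K_ne c.ne (N := Zc) ?_ ?_ fun g hg => ?_
    · refine lt_of_le_of_ne (fun x hx => ⟨hx.1, Subgroup.mem_centralizer_iff.2 fun y hy =>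
        hc0 x hx y (c.Q_le hy)⟩) fun e => hz0 (by
          show (z : G) ∈ Q0
          rw [hQ0, e]; exact hzZ)
    · exact lt_of_le_of_ne inf_le_left fun e => hne (Subgroup.mem_centralizer_iff.1
        (inf_eq_left.1 e hy₀) x₀ hx₀)
    · exact Fusion.mem_normalizer_of_cj_le (by
        rw [hZc, Fusion.cj_inf, Fusion.cj_centralizer, cj_eq_self (c.spl.norm hg)])
  obtain ⟨j, hj, -⟩ := Solv.card_eq_odd_pow (E := ↥Q1) (p := q)
    (by rw [hcen, Solv.card_subgroupOf inf_le_left, hint]) (by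
      rw [hcen, commutator_def, Subgroup.commutator_le]
      exact fun a _ b _ => ⟨(⁅a, b⁆ : ↥Q1).2, hcomm a (hQ1Q a.2) b (hQ1Q b.2)⟩)
  rw [hcard] at hj
  have h := Nat.pow_right_injective c.q_prime.two_le hj
  obtain ⟨k, hk⟩ := c.conf.odd_K
  omega

/-- The commutators `w⁻¹ x w x⁻¹` with `x ∈ Q`. -/
noncomputable def commHom : ↥Q →* ↥Q where
  toFun x := ⟨w⁻¹ * x * w * (x : G)⁻¹, Q.mul_mem
    (by simpa using (Subgroup.mem_normalizer_iff.1 (c.Q_norm (inv_mem c.conf.w_core)) (x : G)).1 x.2) (Q.inv_mem x.2)⟩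
  map_one' := Subtype.ext (by simp)
  map_mul' x y := Subtype.ext (by
    have h1 : w⁻¹ * (y : G) * w ∈ Q := by
      simpa using (Subgroup.mem_normalizer_iff.1 (c.Q_norm (inv_mem c.conf.w_core)) (y : G)).1 y.2
    show w⁻¹ * ((x : G) * y) * w * ((x : G) * y)⁻¹ = w⁻¹ * x * w * (x : G)⁻¹ * (w⁻¹ * y * w * (y : G)⁻¹)
    calc w⁻¹ * ((x : G) * y) * w * ((x : G) * y)⁻¹
        = w⁻¹ * x * w * ((w⁻¹ * y * w * (y : G)⁻¹) * (x : G)⁻¹) := by group
      _ = _ := by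
          rw [c.Q_comm _ (Q.mul_mem h1 (Q.inv_mem y.2)) _ (Q.inv_mem x.2)]
          group)

end SConf

/-- The subgroup `[w, Q]`. -/
noncomputable def SConf.wQ (c : SConf t M L A E S w K Q D H₁) : Subgroup G := c.commHom.range.map Q.subtype

namespace SConf

variable (c : SConf t M L A E S w K Q D H₁)
include c

theorem mem_wQ {u : G} : u ∈ c.wQ ↔ ∃ x ∈ Q, w⁻¹ * x * w * x⁻¹ = u := by
  constructor
  · rintro ⟨_, ⟨x, rfl⟩, rfl⟩; exact ⟨x, x.2, rfl⟩
  · rintro ⟨x, hx, rfl⟩; exact ⟨_, ⟨⟨x, hx⟩, rfl⟩, rfl⟩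

theorem wQ_le : c.wQ ≤ Q := Subgroup.map_subtype_le _

theorem wQ_le_derived : c.wQ ≤ ⁅sigmaCore L, sigmaCore L⁆ := fun u hu => by
  obtain ⟨x, hx, rfl⟩ := c.mem_wQ.1 hu
  have h := Subgroup.commutator_mem_commutator ((sigmaCore L).inv_mem c.conf.w_core) (c.Q_le hx)
  rwa [commutatorElement_def, inv_inv] at h

theorem wQ_class : ∀ u ∈ c.wQ, ∃ h ∈ sigmaCore L, h * w * h⁻¹ = w * u := fun u hu => by
  obtain ⟨x, hx, rfl⟩ := c.mem_wQ.1 hu
  exact ⟨x, c.Q_le hx, by group⟩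

theorem wQ_norm : sigmaCore L ≤ Subgroup.normalizer (c.wQ : Set G) := fun g hg => by
  obtain ⟨y, hy, d, hd, rfl⟩ := c.mul hg
  refine Fusion.mem_normalizer_of_cj_le ?_
  rintro _ ⟨u, hu, rfl⟩
  obtain ⟨x, hx, rfl⟩ := c.mem_wQ.1 hu
  have hdx : d * x * d⁻¹ ∈ Q := (Subgroup.mem_normalizer_iff.1 (c.Q_norm (c.D_le hd)) x).1 hx
  set z := ⁅w⁻¹, d⁆ with hz
  have hzc : z ∈ Subgroup.centralizer (Q : Set G) :=
    c.D_derived (Subgroup.commutator_mem_commutator (D.inv_mem c.w_D) hd)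
  have e1 : d * w * d⁻¹ = w * z := by rw [hz, commutatorElement_def]; group
  have e2 : d * (w⁻¹ * x * w * x⁻¹) * d⁻¹ = w⁻¹ * (d * x * d⁻¹) * w * (d * x * d⁻¹)⁻¹ := by
    have h1 : w⁻¹ * (d * x * d⁻¹) * w ∈ Q := by
      simpa using (Subgroup.mem_normalizer_iff.1 (c.Q_norm (inv_mem c.conf.w_core)) _).1 hdx
    have e3 := Subgroup.mem_centralizer_iff.1 (Subgroup.inv_mem _ hzc) _ h1
    calc d * (w⁻¹ * x * w * x⁻¹) * d⁻¹ = (d * w * d⁻¹)⁻¹ * (d * x * d⁻¹) * (d * w * d⁻¹) * (d * x * d⁻¹)⁻¹ := by group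
      _ = z⁻¹ * (w⁻¹ * (d * x * d⁻¹) * w) * z * (d * x * d⁻¹)⁻¹ := by rw [e1]; group
      _ = w⁻¹ * (d * x * d⁻¹) * w * z⁻¹ * z * (d * x * d⁻¹)⁻¹ := by rw [← e3]
      _ = _ := by group
  show y * d * (w⁻¹ * x * w * x⁻¹) * (y * d)⁻¹ ∈ c.wQ
  have h2 : d * (w⁻¹ * x * w * x⁻¹) * d⁻¹ ∈ c.wQ := c.mem_wQ.2 ⟨_, hdx, e2.symm⟩
  have h3 := c.Q_comm y hy _ (c.wQ_le h2)
  rw [show y * d * (w⁻¹ * x * w * x⁻¹) * (y * d)⁻¹ = y * (d * (w⁻¹ * x * w * x⁻¹) * d⁻¹) * y⁻¹ by group, h3,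
    mul_inv_cancel_right]
  exact h2

theorem card_wQ : Nat.card c.wQ * Nat.card ↥(Q ⊓ E) = Nat.card Q := by
  have hker : c.commHom.ker = (Q ⊓ E).subgroupOf Q := by
    ext x
    rw [MonoidHom.mem_ker, Subgroup.mem_subgroupOf, Subgroup.mem_inf, c.mem_E]
    refine ⟨fun h => ⟨x.2, c.Q_le x.2, ?_⟩, fun h => Subtype.ext ?_⟩
    · have h1 : w⁻¹ * (x : G) * w * (x : G)⁻¹ = 1 := congrArg Subtype.val h
      rw [mul_inv_eq_one, mul_assoc, inv_mul_eq_iff_eq_mul] at h1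
      exact h1
    · show w⁻¹ * (x : G) * w * (x : G)⁻¹ = 1
      rw [mul_assoc w⁻¹, h.2.2]; group
  rw [wQ, Subgroup.card_map_of_injective Q.subtype_injective, ← Subgroup.index_ker, hker,
    ← Solv.card_subgroupOf (inf_le_left : Q ⊓ E ≤ Q), Subgroup.index_mul_card]

theorem wQ_inf : c.wQ ⊓ E = ⊥ := eq_bot_iff.2 fun u ⟨hu, huE⟩ => by
  obtain ⟨x, hx, rfl⟩ := c.mem_wQ.1 hu
  refine Subgroup.mem_bot.2 (c.Q_tgroup (c.wQ_le hu) ?_)
  have hc : Commute (w⁻¹ * x * w * x⁻¹) w := (c.mem_E.1 huE).2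
  have e : (w * (w⁻¹ * x * w * x⁻¹)) ^ t = 1 := by
    rw [show w * (w⁻¹ * x * w * x⁻¹) = x * w * x⁻¹ by group, conj_pow, ← c.conf.pre.w_order, pow_orderOf_eq_one,
      mul_one, mul_inv_cancel]
  have hw : w ^ t = 1 := by rw [← c.conf.pre.w_order, pow_orderOf_eq_one]
  rwa [hc.symm.mul_pow, hw, one_mul] at e

/-- `Q = [w, Q] C_Q(w)`. -/
theorem Q_split {x : G} (hx : x ∈ Q) : ∃ u ∈ c.wQ, ∃ v ∈ Q ⊓ E, x = u * v := by
  have hn : Q ⊓ E ≤ Subgroup.normalizer (c.wQ : Set G) := (inf_le_left.trans c.Q_le).trans c.wQ_norm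
  have h := Solv.card_sup_mul_card_inf' c.wQ (Q ⊓ E) hn
  have hi : c.wQ ⊓ (Q ⊓ E) = ⊥ := le_bot_iff.1 ((inf_le_inf_left _ inf_le_right).trans c.wQ_inf.le)
  rw [hi, Subgroup.card_bot, mul_one, c.card_wQ] at h
  have e : c.wQ ⊔ (Q ⊓ E) = Q := Subgroup.eq_of_le_of_card_ge (sup_le c.wQ_le inf_le_left) h.ge
  have hx' : x ∈ c.wQ ⊔ (Q ⊓ E) := e.symm ▸ hx
  rw [← SetLike.mem_coe, Subgroup.coe_mul_of_right_le_normalizer_left _ _ hn] at hx'
  obtain ⟨u, hu, v, hv, rfl⟩ := hx'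
  exact ⟨u, hu, v, hv, rfl⟩

theorem count : Nat.card E * Nat.card c.wQ ≤ Nat.card (sigmaCore L) := by
  have h1 : Nat.card ↥(Q ⊓ E) * Q.relIndex E = Nat.card E := by
    rw [← Subgroup.inf_relIndex_right, ← Solv.card_subgroupOf (inf_le_right : Q ⊓ E ≤ E), Subgroup.relIndex,
      Subgroup.card_mul_index]
  have h2 : Q.relIndex E ≤ Nat.card D := by
    refine (Subgroup.relIndex_le_of_le_right c.E_le Subgroup.index_ne_zero_of_finite).trans (le_of_eq ?_)
    have h := (Q.subgroupOf (sigmaCore L)).card_mul_index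
    rw [Solv.card_subgroupOf c.Q_le, ← c.card_mul] at h
    exact Nat.eq_of_mul_eq_mul_left Nat.card_pos h
  calc Nat.card E * Nat.card c.wQ = Nat.card c.wQ * Nat.card ↥(Q ⊓ E) * Q.relIndex E := by rw [← h1]; ring
    _ ≤ Nat.card Q * Nat.card D := by rw [c.card_wQ]; exact Nat.mul_le_mul_left _ h2
    _ = _ := c.card_mul

theorem w_sep : ∀ i : ℕ, ¬ t ∣ i → ∀ l ∈ L, l * w ^ i * l⁻¹ ∉ c.wQ := fun i hi l _ h => by
  have h1 : (l * w ^ i * l⁻¹) ^ t = 1 := by
    rw [conj_pow, ← pow_mul, mul_comm i, pow_mul, ← c.conf.pre.w_order, pow_orderOf_eq_one, one_pow, mul_one,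
      mul_inv_cancel]
  exact hi (c.conf.pre.w_order ▸ orderOf_dvd_of_pow_eq_one (conj_eq_one_iff.1 (c.Q_tgroup (c.wQ_le h) h1)))

end SConf

end Cfsg.Agent.OddChar
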