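import Cfsg.Agent.Lib.OddChar.Supporting
import Cfsg.Agent.Lib.OddLocal.KappaCover

/-!
Which maximal subgroups support which, in terms of the sets `A₁` and `A`.
-/

set_option autoImplicit false
set_option linter.style.haveILetI false

namespace Cfsg.Agent.OddLocal.Kappa

open scoped Pointwise commutatorElement
open Cfsg
open Cfsg.Agent.Fusion (SylIn cj cj_eq_self cj_mono card_cj)
open Cfsg.Agent.OddLocal.Uniq
open Cfsg.Agent.OddLocal.Sig
open Cfsg.Agent.OddLocal.RankTwo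
open Cfsg.Agent.OddLocal.TauTwo
open Cfsg.Agent.OddLocal.Prime
open Cfsg.Agent.OddLocal.Disjoint (mem_centralizer_zpowers zpowers_card conjugate_of_sigma)

universe u

variable {G : Type u} [Group G] [Finite G] {S T : Subgroup G}

omit [Finite G] in
/-- Nontrivial powers of elements of `A(T)` lie in `A(T)`. -/
theorem typeA_zpow {b : G} (hb : b ∈ typeA T) (i : ℤ) (h1 : b ^ i ≠ 1) : b ^ i ∈ typeA T := by
  have key : ∀ {x : G}, b * x = x * b → b ^ i * x = x * b ^ i := fun {x} h => ((show Commute b x from h).zpow_left i).eq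
  by_cases hI : IsOfTypeI T
  · rw [typeA, if_pos hI] at hb ⊢
    obtain ⟨hbT, -, x, hx, hx1, hbx⟩ := hb
    exact ⟨T.zpow_mem hbT i, h1, x, hx, hx1, key hbx⟩
  · rw [typeA, if_neg hI] at hb ⊢
    obtain ⟨hbT, -, x, hx, hx1, hbx⟩ := hb
    exact ⟨Subgroup.zpow_mem _ hbT i, h1, x, hx, hx1, key hbx⟩

/-- A common point of `S_σ` and `A(T)` has its centralizer in `T` and not in `S`. -/
theorem meet_facts (hG : IsMinSimpleOddOrder G) (hS : IsCoatom S) (hT : IsCoatom T) (hne : ∀ g : G, cj T g ≠ S)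
    {x : G} (hx : x ∈ sigmaCore S) (hx1 : x ≠ 1) (hxT : x ∈ typeA T) :
    ¬ Subgroup.centralizer ({x} : Set G) ≤ S ∧ Subgroup.centralizer ({x} : Set G) ≤ T := by
  obtain ⟨hxM, -, y, hy, hy1, hxy⟩ := typeA_fixed hG hT hxT
  obtain ⟨K, U, hKU⟩ := exists_full_decomp hG hT
  obtain ⟨L, d, hL⟩ := exists_upper hG hT hKU
  have hσ : ∀ t : ℕ, t.Prime → t ∣ orderOf x → t ∉ sigma T := fun t ht htd htσ => by
    haveI := Fact.mk ht
    obtain ⟨g, hg⟩ := conjugate_of_sigma hG hT hS htσ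
      ((sigmaCore_hall hG hS).1.2.1 t ht (htd.trans (Subgroup.orderOf_dvd_natCard _ hx)))
    exact hne g hg.symm
  obtain ⟨E, hE⟩ := exists_compl hG hT
  obtain ⟨h1, h2⟩ := element_unique hG hT hE hxM hx1 (d.tau hG (hL x hxT) hσ hy hy1 hxy) hy hy1 hxy
  exact ⟨fun h => hne 1 (by rw [Fusion.cj_one]; exact (h2 S hS h).symm), h1⟩

/-- A common point gives support. -/
theorem supports_of_meet (hG : IsMinSimpleOddOrder G) (hS : IsCoatom S) (hT : IsCoatom T)
    (hne : ∀ g : G, cj T g ≠ S) {x : G} (hx : x ∈ typeA1 S ∩ typeA T) : Supports T S := by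
  have h := hx.1
  rw [typeA1_eq hG hS] at h
  exact ⟨hT, x, Or.inl (typeA1_subset_typeA hG hS hx.1), meet_facts hG hS hT hne h.1 h.2 hx.2⟩

/-- Support gives a point of `S_σ` with centralizer in `T`. -/
theorem point_of_supports (hG : IsMinSimpleOddOrder G) (hS : IsCoatom S) (h : Supports T S) :
    ∃ x : G, x ∈ sigmaCore S ∧ x ≠ 1 ∧ ¬ Subgroup.centralizer ({x} : Set G) ≤ S ∧
      Subgroup.centralizer ({x} : Set G) ≤ T ∧ Over S T x := by
  obtain ⟨hT, x, hx, hc, hcT⟩ := h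
  have hxσ : x ∈ sigmaCore S := by_contra fun h => hc (centralizer_le_of_not_core hG hS hx h)
  have hx1 := (typeA0_mem hG hS hx).2
  obtain ⟨L, o⟩ := exists_over_facts hG hS hxσ hx1 hc
  exact ⟨x, hxσ, hx1, hc, hcT, o.unique T hT hcT ▸ o⟩

/-- Support gives a common point. -/
theorem meet_of_supports (hG : IsMinSimpleOddOrder G) (hS : IsCoatom S) (h : Supports T S) :
    (typeA1 S ∩ typeA T).Nonempty := by
  obtain ⟨x, hxσ, hx1, -, -, o⟩ := point_of_supports hG hS h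
  exact ⟨x, (typeA1_eq hG hS).ge ⟨hxσ, hx1⟩, o.memA⟩

/-- A supporting conjugate gives a common point of the two thickened sets. -/
theorem tilde_meet_of_supports (hG : IsMinSimpleOddOrder G) (hS : IsCoatom S) (hT : IsCoatom T) {g : G}
    (h : Supports (cj T g) S) : (tildeOf S (typeA1 S) ∩ tildeOf T (typeA T)).Nonempty := by
  obtain ⟨x, hxσ, hx1, hc, hcT, -⟩ := point_of_supports hG hS h
  have hS' : IsCoatom (cj S g⁻¹) := isCoatom_cj hS _
  have hx'σ : g⁻¹ * x * g⁻¹⁻¹ ∈ sigmaCore (cj S g⁻¹) := by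
    rw [Support.sigmaCore_cj hG hS]
    exact Fusion.conj_mem_cj hxσ
  have hx'1 : g⁻¹ * x * g⁻¹⁻¹ ≠ 1 := fun h => hx1 (conj_eq_one_iff.1 h)
  have hc' : ¬ Subgroup.centralizer ({g⁻¹ * x * g⁻¹⁻¹} : Set G) ≤ cj S g⁻¹ := by
    rw [Support.centralizer_cj, Fusion.cj_le_cj]
    exact hc
  obtain ⟨L, o⟩ := exists_over_facts hG hS' hx'σ hx'1 hc'
  have hTL : T = L := o.unique T hT (by
    rw [Support.centralizer_cj]
    exact (cj_mono hcT g⁻¹).trans (by rw [Fusion.cj_cj_inv]))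
  refine ⟨x, ⟨x, (typeA1_eq hG hS).ge ⟨hxσ, hx1⟩, 1, one_mem _, 1, by group⟩,
    ⟨g⁻¹ * x * g⁻¹⁻¹, hTL ▸ o.memA, 1, one_mem _, g, by group⟩⟩

/-- A common point of the two thickened sets gives a supporting conjugate. -/
theorem supports_of_tilde_meet (hG : IsMinSimpleOddOrder G) (hS : IsCoatom S) (hT : IsCoatom T)
    (hne : ∀ g : G, cj T g ≠ S) (h : (tildeOf S (typeA1 S) ∩ tildeOf T (typeA T)).Nonempty) :
    ∃ g : G, Supports (cj T g) S := by
  obtain ⟨z, hzS, b, hb, s, hs, y', he⟩ := h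
  have hbσ : b ∉ sigmaCore T := fun hbσ => by
    refine Set.eq_empty_iff_forall_notMem.1 (tilde_disjoint' hG hS hT fun g hg => hne g⁻¹ ?_) z
      ⟨?_, b, ⟨hbσ, (typeA_fixed hG hT hb).2.1⟩, s, hs, y', he⟩
    · rw [hg, Fusion.cj_cj_inv]
    · rw [typeA1_eq hG hS] at hzS
      exact hzS
  rw [Support.supportR_bot (centralizer_le_of_not_core hG hT (Or.inl hb) hbσ), Subgroup.mem_bot] at hs
  rw [hs, mul_one] at he
  obtain ⟨a, ha, r, hr, y, hz⟩ := hzS
  rw [typeA1_eq hG hS] at ha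
  obtain ⟨haσ, ha1 : a ≠ 1⟩ := ha
  -- `b` is conjugate to `a r` and `a` is a power of `a r`
  set k := y⁻¹ * y' with hk
  have har : a * r = k * b * k⁻¹ := by
    have h1 : y * (a * r) * y⁻¹ = y' * b * y'⁻¹ := hz.symm.trans he
    calc a * r = y⁻¹ * (y * (a * r) * y⁻¹) * y := by group
      _ = y⁻¹ * (y' * b * y'⁻¹) * y := by rw [h1]
      _ = _ := by rw [hk]; group
  have hcomm : Commute a r := (Support.supportR_mem hG hS haσ ha1 hr).1.symm
  have hco : (orderOf r).Coprime (orderOf a) := Nat.coprime_of_dvd fun t ht h1 h2 =>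
    Support.supportR_pi hG hS haσ ha1 hr t ht h1 (Support.mem_pi hG hS haσ t ht h2)
  obtain ⟨j, hj⟩ := exists_pow_eq_self_of_coprime (x := a) hco
  have hpow : a = k * b ^ ((orderOf r * j : ℕ) : ℤ) * k⁻¹ := by
    rw [← conj_zpow, ← har, zpow_natCast, hcomm.mul_pow, pow_mul r, pow_orderOf_eq_one, one_pow, mul_one, pow_mul, hj]
  set a' := b ^ ((orderOf r * j : ℕ) : ℤ) with ha'
  have ha'1 : a' ≠ 1 := fun h => ha1 (by rw [hpow, h, mul_one, mul_inv_cancel])
  have ha'σ : a' ∈ sigmaCore (cj S k⁻¹) := by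
    rw [Support.sigmaCore_cj hG hS]
    have h2 := Fusion.conj_mem_cj (g := k⁻¹) haσ
    rwa [hpow, show k⁻¹ * (k * a' * k⁻¹) * k⁻¹⁻¹ = a' by group] at h2
  obtain ⟨h1, h2⟩ := meet_facts hG (isCoatom_cj hS k⁻¹) hT (fun g hg => hne (k * g) (by
    rw [← Fusion.cj_cj, hg, Fusion.cj_inv_cj])) ha'σ ha'1 (typeA_zpow hb _ ha'1)
  refine ⟨k, isCoatom_cj hT k, a, Or.inl (typeA1_subset_typeA hG hS ((typeA1_eq hG hS).ge ⟨haσ, ha1⟩)), ?_, ?_⟩
  · intro hle
    refine h1 ?_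
    have h3 : Subgroup.centralizer ({a'} : Set G) = cj (Subgroup.centralizer ({a} : Set G)) k⁻¹ := by
      rw [← Support.centralizer_cj, hpow, show k⁻¹ * (k * a' * k⁻¹) * k⁻¹⁻¹ = a' by group]
    rw [h3]
    exact cj_mono hle k⁻¹
  · rw [hpow, Support.centralizer_cj]
    exact cj_mono h2 k

/-- Two maximal subgroups do not support each other up to conjugacy. -/
theorem not_mutual (hG : IsMinSimpleOddOrder G) (hS : IsCoatom S) (hT : IsCoatom T) {g h : G}
    (h1 : Supports (cj T g) S) (h2 : Supports (cj S h) T) : False := by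
  obtain ⟨x, -, -, -, -, o⟩ := point_of_supports hG hS h1
  obtain ⟨y, -, -, -, -, o'⟩ := point_of_supports hG hT h2
  refine o.notI (typeI_of_empty hG o.coatom (Set.eq_empty_iff_forall_notMem.2 fun q hq => ?_))
  refine Set.eq_empty_iff_forall_notMem.1 o'.kappa q ?_
  have h3 := kappa_cj hG o.coatom (g := g⁻¹) hq
  rwa [Fusion.cj_cj_inv] at h3

end Cfsg.Agent.OddLocal.Kappa
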