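import Cfsg.Agent.Lib.OddChar.TauTwoConst

/-!
The norm inequality of the coherent family at the classes of the powers of `w` and at the core of `M`.
-/

set_option autoImplicit false
set_option linter.unusedSectionVars false
set_option linter.style.haveILetI false

open Cfsg Cfsg.Agent.Char
open scoped ComplexConjugate Pointwise
open Cfsg.Agent.Fusion (cj)
open Cfsg.Agent.OddLocal

namespace Cfsg.Agent.OddChar

universe u

variable {G : Type u} [Group G] [Fintype G] {t : ℕ} [ht : Fact t.Prime] {M L A E M₀ : Subgroup G} {w : G}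

open Classical in
/-- A lower bound for a sum of squares over cosets. -/
theorem coset_sq_bound (C0 : Subgroup G) (D : Finset G) (hD : ∀ y ∈ D, ∀ u ∈ C0, y * u ∈ D) (F : G → ℝ) {b : ℝ}
    (hb : ∀ y ∈ D, (Nat.card C0 : ℝ) ^ 2 * b ≤ (∑ u : G with u ∈ C0, F (y * u)) ^ 2) :
    (D.card : ℝ) * b ≤ ∑ y ∈ D, F y ^ 2 := by
  set s : Finset G := Finset.univ.filter fun u => u ∈ C0 with hs
  have hc : (s.card : ℝ) = Nat.card C0 := by rw [Nat.card_eq_fintype_card, Fintype.card_subtype]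
  have hpos : (0 : ℝ) < Nat.card C0 := Nat.cast_pos.2 Nat.card_pos
  have h1 : ∀ u ∈ s, ∑ y ∈ D, F (y * u) ^ 2 = ∑ y ∈ D, F y ^ 2 := fun u hu => by
    have hu' : u ∈ C0 := (Finset.mem_filter.1 hu).2
    refine Finset.sum_equiv (Equiv.mulRight u) (fun y => ?_) fun _ _ => rfl
    exact ⟨fun h => hD y h u hu', fun h => by simpa using hD _ h _ (C0.inv_mem hu')⟩
  have h2 : (Nat.card C0 : ℝ) * ∑ y ∈ D, F y ^ 2 = ∑ y ∈ D, ∑ u ∈ s, F (y * u) ^ 2 := by
    rw [Finset.sum_comm, Finset.sum_congr rfl h1, Finset.sum_const, nsmul_eq_mul, hc]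
  refine le_of_mul_le_mul_left ?_ hpos
  rw [h2, mul_left_comm, ← nsmul_eq_mul, ← Finset.sum_const]
  refine Finset.sum_le_sum fun y hy => ?_
  have h3 := (hb y hy).trans (sq_sum_le_card_mul_sum_sq (s := s) (f := fun u => F (y * u)))
  rw [hc, sq, mul_assoc] at h3
  exact le_of_mul_le_mul_left h3 hpos
open Classical in
theorem card_filter_sdiff {C C0 : Subgroup G} (hle : C0 ≤ C) :
    ((Finset.univ.filter fun y : G => y ∈ C ∧ y ∉ C0).card : ℝ) = (Nat.card C : ℝ) - Nat.card C0 := by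
  have h := Finset.card_filter_add_card_filter_not (s := Finset.univ.filter fun y : G => y ∈ C) (fun y => y ∈ C0)
  rw [Finset.filter_filter, Finset.filter_filter] at h
  have h0 : (Finset.univ.filter fun y : G => y ∈ C ∧ y ∈ C0) = Finset.univ.filter fun y : G => y ∈ C0 :=
    Finset.filter_congr fun y _ => and_iff_right_of_imp fun hy => hle hy
  rw [h0] at h
  rw [Nat.card_eq_fintype_card, Nat.card_eq_fintype_card, Fintype.card_subtype, Fintype.card_subtype,
    eq_sub_iff_add_eq, add_comm]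
  exact_mod_cast h
open Classical in
/-- Averaging a sum over a union of cosets. -/
theorem coset_sum_avg (C0 : Subgroup G) (D : Finset G) (hD : ∀ y ∈ D, ∀ u ∈ C0, y * u ∈ D) (F : G → ℝ) :
    (Nat.card C0 : ℝ) * ∑ y ∈ D, F y = ∑ y ∈ D, ∑ u : G with u ∈ C0, F (y * u) := by
  have h1 : ∀ u ∈ (Finset.univ.filter fun u : G => u ∈ C0), ∑ y ∈ D, F (y * u) = ∑ y ∈ D, F y := fun u hu => by
    have hu' : u ∈ C0 := (Finset.mem_filter.1 hu).2
    refine Finset.sum_equiv (Equiv.mulRight u) (fun y => ?_) fun _ _ => rfl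
    exact ⟨fun h => hD y h u hu', fun h => by simpa using hD _ h _ (C0.inv_mem hu')⟩
  rw [Finset.sum_comm, Finset.sum_congr rfl h1, Finset.sum_const, nsmul_eq_mul, Nat.card_eq_fintype_card,
    Fintype.card_subtype]

namespace Config

variable (c : Config t M L A E M₀ w)
include c

/-- The powers of `w` lie in distinct classes of `L`, with centralisers inside `E`. -/
theorem fuse {i j : ℕ} (hi : i ∈ Finset.Icc 1 (t - 1)) (hj : j ∈ Finset.Icc 1 (t - 1)) {l : G} (hl : l ∈ L)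
    (h : l * w ^ i * l⁻¹ = w ^ j) : l ∈ E := by
  rw [Finset.mem_Icc] at hi hj
  have ht2 := ht.out.two_le
  have hcop : ∀ k : ℕ, 1 ≤ k → k ≤ t - 1 → k.Coprime (orderOf w) := fun k h1 h2 => by
    rw [c.w_order]
    exact (Nat.coprime_of_lt_prime (by omega) (by omega) ht.out).symm
  have hCj : Subgroup.centralizer ({w} : Set G) ≤ cj M l := by
    intro g hg
    have hg' : g ∈ Subgroup.centralizer ({w ^ j} : Set G) := by
      rw [centralizer_pow_eq (hcop j hj.1 hj.2)]; exact hg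
    rw [Fusion.mem_cj]
    have h1 : l⁻¹ * g * l ∈ Subgroup.centralizer ({w ^ i} : Set G) := by
      rw [Subgroup.mem_centralizer_singleton_iff] at hg' ⊢
      have e : w ^ i = l⁻¹ * w ^ j * l := by rw [← h]; group
      rw [e]
      calc l⁻¹ * g * l * (l⁻¹ * w ^ j * l) = l⁻¹ * (g * w ^ j) * l := by group
        _ = _ := by rw [hg']; group
    rw [centralizer_pow_eq (hcop i hi.1 hi.2)] at h1
    exact (TauTwo.centralizer_unique_of_fixed c.setup (Subgroup.zpowers_le.2 c.w_mem)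
      (by rw [Nat.card_zpowers, c.w_order]) (fun hb => c.w_fix (by
        rw [Sig.centralizer_zpowers] at hb; rw [hb]; exact bot_le))).1 (by
          rw [Sig.centralizer_zpowers]; exact h1)
  have hlM : l ∈ M := by
    rw [← Sig.normalizer_coatom c.minSimple c.coatomM]
    exact Fusion.mem_normalizer_iff_cj.2 (c.unique _ (Prime.isCoatom_cj c.coatomM l) hCj)
  exact c.E_eq ▸ ⟨hl, hlM⟩

variable [Fintype L] {S : Set (L → ℂ)} {χ : L → ℂ} {ε : ℂ} {μ : (L → ℂ) → (G → ℂ)}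

open Classical in
/-- The norm inequality. -/
theorem local_bound (d : Data M L E M₀ w S χ ε μ) :
    ∑ i ∈ Finset.Icc 1 (t - 1), (Nat.card ↥(sigmaCore M ⊓ Subgroup.centralizer ({w} : Set G)) : ℝ)⁻¹ *
        ∑ u : G with u ∈ sigmaCore M ⊓ Subgroup.centralizer ({w} : Set G),
          ‖ε * μ χ (w ^ i * u) - extendByZero L χ (w ^ i)‖ ^ 2 +
      (Nat.card (sigmaCore M) : ℝ)⁻¹ *
        ∑ y : G with y ∈ (sigmaCore M : Set G) \ {1}, avgSq (supportR M) (μ χ) y ≤ (coreIndex L : ℝ) := by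
  obtain ⟨β, hβ⟩ := c.exists_const d
  have k := d.coh
  have hχ1 := d.deg_one
  set H := sigmaCore L with hH
  set A₁ : Set G := (H : Set G) \ {1} with hA₁
  set χe : G → ℂ := extendByZero L χ with hχe
  set R := supportR L with hR
  set Q : G → ℝ := fun a => (Nat.card (R a) : ℝ)⁻¹ * ∑ u : G with u ∈ R a, ‖ε * μ χ (a * u) - χe a‖ ^ 2 with hQ
  set e : ℕ := coreIndex L with he
  set m : ℕ := Nat.card H with hm
  have hHL : H ≤ L := c.core_le
  have hD := k.dade
  have hεn : ‖ε‖ = 1 := by rcases k.sign with h | h <;> rw [h] <;> norm_num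
  -- sums over the kernel
  have hconv : ∀ {β' : Type} [AddCommMonoid β'] (Φ : G → β'),
      ∑ a : G with a ∈ A₁, Φ a = ∑ x ∈ Finset.univ.filter (fun x : L => (x : G) ∈ A₁), Φ x := by
    intro β' _ Φ
    refine Finset.sum_bij (fun a ha => (⟨a, hHL (Finset.mem_filter.1 ha).2.1⟩ : L))
      (fun a ha => Finset.mem_filter.2 ⟨Finset.mem_univ _, (Finset.mem_filter.1 ha).2⟩)
      (fun a _ b _ h => Subtype.mk.inj h) (fun x hx => ⟨x, Finset.mem_filter.2 ⟨Finset.mem_univ _,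
        (Finset.mem_filter.1 hx).2⟩, rfl⟩) fun _ _ => rfl
  have hχval : ∀ x : L, χe x = χ x := fun x => extendByZero_mem L χ x.2
  have hvan : ∀ x : L, x ≠ 1 → (x : G) ∉ A₁ → χ x = 0 := fun x hx1 hxA =>
    d.vanish χ k.mem x fun h => hxA ⟨h, fun e' => hx1 (Subtype.ext e')⟩
  have hsum : ∀ {β' : Type} [AddCommGroup β'] (Φ : L → β'), (∀ x : L, x ≠ 1 → χ x = 0 → Φ x = 0) →
      ∑ x ∈ Finset.univ.filter (fun x : L => (x : G) ∈ A₁), Φ x = ∑ a, Φ a - Φ 1 := by
    intro β' _ Φ hΦ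
    rw [← Finset.sum_erase_eq_sub (Finset.mem_univ (1 : L))]
    refine Finset.sum_subset (fun x hx => Finset.mem_erase.2
      ⟨fun e' => (Finset.mem_filter.1 hx).2.2 (by rw [e']; rfl), Finset.mem_univ _⟩) fun x hx hx' => ?_
    have hx1 := (Finset.mem_erase.1 hx).1
    exact hΦ x hx1 (hvan x hx1 fun h => hx' (Finset.mem_filter.2 ⟨Finset.mem_univ _, h⟩))
  have hS1 : (∑ a : G with a ∈ A₁, ‖χe a‖ ^ 2) = (Nat.card L : ℝ) - (e : ℝ) ^ 2 := by
    rw [hconv, hsum (fun x : L => ‖χe x‖ ^ 2) fun x _ h0 => by simp [hχval, h0]]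
    simp only [hχval, hχ1, Complex.norm_natCast]
    have h := irr_self (k.irr χ k.mem)
    rw [classInner_self_re] at h
    have h' : ((Nat.card L : ℝ))⁻¹ * ∑ g, ‖χ g‖ ^ 2 = 1 := by exact_mod_cast h
    rw [inv_mul_eq_one₀ (Nat.cast_ne_zero.2 Nat.card_pos.ne')] at h'
    rw [← h']
  have he1 : (e : ℂ) ≠ 1 := by
    have := c.three_le
    rw [Nat.cast_ne_one]
    omega
  have hS2 : (∑ a : G with a ∈ A₁, (χe a).re) = -(e : ℝ) := by
    rw [hconv, hsum (fun x : L => (χe x).re) fun x _ h0 => by simp [hχval, h0]]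
    simp only [hχval, hχ1, Complex.natCast_re]
    have h1 : IsIrrCharacter L (fun _ : L => (1 : ℂ)) := by simpa using isIrrCharacter_linear (1 : L →* ℂˣ)
    have h := irr_orth (k.irr χ k.mem) h1
    rw [if_neg fun e' => he1 (by rw [← hχ1, e']), classInner] at h
    have h' : ∑ g : L, χ g = 0 := by
      have h'' := (mul_eq_zero.1 h).resolve_left (inv_ne_zero (Nat.cast_ne_zero.2 Nat.card_pos.ne'))
      simpa using h''
    rw [← Complex.re_sum, h', Complex.zero_re, zero_sub]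
  -- the part outside `M₀`
  set A₀ : Finset G := Finset.univ.filter fun a => a ∈ H ∧ a ∉ M₀ with hA₀
  have hA₀mem : ∀ a ∈ A₀, a ∈ A₁ := fun a ha => by
    obtain ⟨h1, h2⟩ := (Finset.mem_filter.1 ha).2
    exact ⟨h1, fun e' => h2 (Set.mem_singleton_iff.1 e' ▸ M₀.one_mem)⟩
  have hA₀stab : ∀ y ∈ A₀, ∀ v ∈ M₀, y * v ∈ A₀ := fun y hy v hv => by
    obtain ⟨h1, h2⟩ := (Finset.mem_filter.1 hy).2
    exact Finset.mem_filter.2 ⟨Finset.mem_univ _, H.mul_mem h1 (c.M₀_le hv),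
      fun h => h2 (by simpa using M₀.mul_mem h (M₀.inv_mem hv))⟩
  set Z₀ : Finset G := Finset.univ.filter fun a => a ∈ M₀ ∧ a ≠ 1 with hZ₀
  have hsplit : ∀ {β' : Type} [AddCommMonoid β'] (Φ : G → β'),
      ∑ a : G with a ∈ A₁, Φ a = ∑ a ∈ A₀, Φ a + ∑ a ∈ Z₀, Φ a := by
    intro β' _ Φ
    rw [← Finset.sum_union (Finset.disjoint_left.2 fun a ha ha' =>
      (Finset.mem_filter.1 ha).2.2 (Finset.mem_filter.1 ha').2.1)]
    refine Finset.sum_congr ?_ fun _ _ => rfl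
    ext a
    simp only [hA₀, hZ₀, hA₁, Finset.mem_union, Finset.mem_filter, Finset.mem_univ, true_and, Set.mem_sdiff,
      Set.mem_singleton_iff, SetLike.mem_coe]
    refine ⟨fun h => ?_, fun h => ?_⟩
    · by_cases h2 : a ∈ M₀
      · exact Or.inr ⟨h2, h.2⟩
      · exact Or.inl ⟨h.1, h2⟩
    · rcases h with h | h
      · exact ⟨h.1, fun e' => h.2 (e' ▸ M₀.one_mem)⟩
      · exact ⟨c.M₀_le h.1, h.2⟩
  have hχM₀ : ∀ v ∈ M₀, χe v = (e : ℂ) := fun v hv => by
    rw [← hχ1, ← d.on_M₀ ⟨v, hHL (c.M₀_le hv)⟩ hv]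
    exact hχval ⟨v, hHL (c.M₀_le hv)⟩
  have hχmul : ∀ a ∈ H, ∀ v ∈ M₀, χe (a * v) = χe a := fun a ha v hv => by
    have h1 := c.χ_coset d (x := (⟨a, hHL ha⟩ : L)) (y := ⟨v, hHL (c.M₀_le hv)⟩) hv
    rw [← hχval, ← hχval] at h1
    exact h1
  have hcardZ : (Z₀.card : ℝ) = (Nat.card M₀ : ℝ) - 1 := by
    have h1 : Z₀ = (Finset.univ.filter fun a : G => a ∈ M₀).erase 1 := by
      ext a
      simp [hZ₀, and_comm]
    rw [h1, Finset.card_erase_of_mem (Finset.mem_filter.2 ⟨Finset.mem_univ _, M₀.one_mem⟩), Nat.cast_sub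
      (Finset.card_pos.2 ⟨1, Finset.mem_filter.2 ⟨Finset.mem_univ _, M₀.one_mem⟩⟩), Nat.cast_one,
      Nat.card_eq_fintype_card, Fintype.card_subtype]
  have hT1 : ∑ a ∈ A₀, ‖χe a‖ ^ 2 = (Nat.card L : ℝ) - (e : ℝ) ^ 2 * Nat.card M₀ := by
    have h := hsplit fun a => ‖χe a‖ ^ 2
    rw [hS1, Finset.sum_congr (s₁ := Z₀) rfl (g := fun _ => (e : ℝ) ^ 2) fun a ha => by
      rw [hχM₀ a (Finset.mem_filter.1 ha).2.1, Complex.norm_natCast], Finset.sum_const, nsmul_eq_mul, hcardZ] at h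
    linarith
  have hT2 : ∑ a ∈ A₀, (χe a).re = -(e : ℝ) * Nat.card M₀ := by
    have h := hsplit fun a => (χe a).re
    rw [hS2, Finset.sum_congr (s₁ := Z₀) rfl (g := fun _ => (e : ℝ)) fun a ha => by
      rw [hχM₀ a (Finset.mem_filter.1 ha).2.1, Complex.natCast_re], Finset.sum_const, nsmul_eq_mul, hcardZ] at h
    linarith
  -- pointwise
  have hcardR : ∀ a, ((Finset.univ.filter fun u : G => u ∈ R a).card : ℝ) = Nat.card (R a) := fun a => by
    rw [Nat.card_eq_fintype_card, Fintype.card_subtype]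
  have hex : ∀ a u : G, ∃ n : ℤ, a ∈ A₁ → u ∈ R a → ε * μ χ (a * u) - χe a = n := fun a u => by
    by_cases ha : a ∈ A₁ ∧ u ∈ R a
    · obtain ⟨n, hn⟩ := k.int_on (a := ⟨a, hHL ha.1.1⟩) ha.1 ha.2
      exact ⟨n, fun _ _ => by rw [← hn, ← hχval ⟨a, hHL ha.1.1⟩]⟩
    · exact ⟨0, fun h1 h2 => absurd ⟨h1, h2⟩ ha⟩
  choose n hn using hex
  set Fr : G → ℝ := fun a => (Nat.card (R a) : ℝ)⁻¹ * ∑ u : G with u ∈ R a, (n a u : ℝ) with hFr
  have hpt : ∀ a ∈ A₁, avgSq R (μ χ) a = ‖χe a‖ ^ 2 + 2 * Fr a * (χe a).re + Q a ∧ Fr a ^ 2 ≤ Q a := by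
    intro a ha
    have hN : (Nat.card (R a) : ℝ) ≠ 0 := Nat.cast_ne_zero.2 Nat.card_pos.ne'
    have hQa : Q a = (Nat.card (R a) : ℝ)⁻¹ * ∑ u : G with u ∈ R a, (n a u : ℝ) ^ 2 := by
      simp only [hQ]
      refine congrArg _ (Finset.sum_congr rfl fun u hu => ?_)
      rw [hn a u ha (Finset.mem_filter.1 hu).2, Complex.norm_intCast, sq_abs]
    refine ⟨?_, ?_⟩
    · rw [avgSq, Finset.sum_congr rfl (g := fun u => ‖χe a‖ ^ 2 + 2 * (χe a).re * (n a u : ℝ) + (n a u : ℝ) ^ 2)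
        fun u hu => ?_]
      · rw [Finset.sum_add_distrib, Finset.sum_add_distrib, Finset.sum_const, nsmul_eq_mul, hcardR, ← Finset.mul_sum,
          hQa]
        simp only [hFr]
        field_simp
      · have h := hn a u ha (Finset.mem_filter.1 hu).2
        have h' : ε * μ χ (a * u) = χe a + (n a u : ℤ) := by rw [← h]; ring
        have h'' : ‖μ χ (a * u)‖ = ‖χe a + (n a u : ℤ)‖ := by rw [← h', norm_mul, hεn, one_mul]
        rw [h'', Complex.sq_norm, Complex.sq_norm, Complex.normSq_apply, Complex.normSq_apply]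
        simp only [Complex.add_re, Complex.add_im, Complex.intCast_re, Complex.intCast_im]
        ring
    · rw [hQa, le_inv_mul_iff₀ (by positivity)]
      have h := sq_sum_le_card_mul_sum_sq (s := Finset.univ.filter fun u : G => u ∈ R a) (f := fun u => (n a u : ℝ))
      rw [hcardR] at h
      calc (Nat.card (R a) : ℝ) * Fr a ^ 2 = (Nat.card (R a) : ℝ)⁻¹ * (∑ u : G with u ∈ R a, (n a u : ℝ)) ^ 2 := by
            simp only [hFr]; field_simp
        _ ≤ (Nat.card (R a) : ℝ)⁻¹ * ((Nat.card (R a) : ℝ) * ∑ u : G with u ∈ R a, (n a u : ℝ) ^ 2) :=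
          mul_le_mul_of_nonneg_left h (by positivity)
        _ = _ := by field_simp
  have hFsum : ∀ a ∈ A₀, ∑ v : G with v ∈ M₀, Fr (a * v) = (Nat.card M₀ : ℝ) * β := by
    intro a ha
    obtain ⟨h1, h2⟩ := (Finset.mem_filter.1 ha).2
    have h := hβ a h1 h2
    apply Complex.ofReal_injective
    rw [Complex.ofReal_mul, Complex.ofReal_natCast, Complex.ofReal_intCast, ← h, Complex.ofReal_sum]
    refine Finset.sum_congr rfl fun v hv => ?_
    have hmem := hA₀mem _ (hA₀stab a ha v (Finset.mem_filter.1 hv).2)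
    have hNC : (Nat.card (R (a * v)) : ℂ) ≠ 0 := Nat.cast_ne_zero.2 Nat.card_pos.ne'
    have hcC : ((Finset.univ.filter fun u : G => u ∈ R (a * v)).card : ℂ) = Nat.card (R (a * v)) := by
      rw [Nat.card_eq_fintype_card, Fintype.card_subtype]
    simp only [hFr, Complex.ofReal_mul, Complex.ofReal_inv, Complex.ofReal_natCast, Complex.ofReal_sum,
      Complex.ofReal_intCast]
    rw [Finset.sum_congr rfl fun u hu => (hn _ u hmem (Finset.mem_filter.1 hu).2).symm, Finset.sum_sub_distrib,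
      Finset.sum_const, nsmul_eq_mul, hcC, mul_sub, ← mul_assoc _ _ (χe (a * v)), inv_mul_cancel₀ hNC, one_mul]
  -- the norm
  have hη : IsClassFunction G (μ χ) := fun g x => isClassFunction_character (irr_isCharacter (k.irrμ χ k.mem)) g x
  have hnorm := norm_two hD c.dade_M (fun g hg => c.dade_disjoint hg) hη (irr_self (k.irrμ χ k.mem))
  set SM : ℝ := ∑ y : G with y ∈ (sigmaCore M : Set G) \ {1}, avgSq (supportR M) (μ χ) y with hSM
  have hCpos : (0 : ℝ) < Nat.card M₀ := Nat.cast_pos.2 Nat.card_pos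
  have hcross : ∑ a ∈ A₀, Fr a * (χe a).re = -(β : ℝ) * e * Nat.card M₀ := by
    refine mul_left_cancel₀ hCpos.ne' ?_
    rw [coset_sum_avg M₀ A₀ hA₀stab, Finset.sum_congr rfl (g := fun a => (Nat.card M₀ : ℝ) * β * (χe a).re)
      fun a ha => ?_, ← Finset.mul_sum, hT2]
    · ring
    · rw [← hFsum a ha, Finset.sum_mul]
      exact Finset.sum_congr rfl fun v hv => by
        rw [hχmul a (Finset.mem_filter.1 ha).2.1 v (Finset.mem_filter.1 hv).2]
  have hnormA : (Nat.card L : ℝ)⁻¹ * (∑ a : G with a ∈ A₁, avgSq R (μ χ) a) + (Nat.card M : ℝ)⁻¹ * SM ≤ 1 := by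
    convert hnorm
  rw [hsplit, Finset.sum_congr rfl fun a ha => (hpt a (hA₀mem a ha)).1, Finset.sum_add_distrib,
    Finset.sum_add_distrib, hT1, Finset.sum_congr rfl (g := fun a => 2 * (Fr a * (χe a).re)) fun a _ => mul_assoc _ _ _,
    ← Finset.mul_sum, hcross] at hnormA
  have hLc : (Nat.card L : ℝ) = e * m := by rw [c.card_L]; push_cast; rfl
  have hLpos : (0 : ℝ) < Nat.card L := Nat.cast_pos.2 Nat.card_pos
  have hMpos : (0 : ℝ) < Nat.card M := Nat.cast_pos.2 Nat.card_pos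
  have hSM0 : 0 ≤ SM := Finset.sum_nonneg fun y _ => avgSq_nonneg _ _ _
  set SQ : ℝ := ∑ a ∈ A₀, Q a with hSQ
  set SZ : ℝ := ∑ a ∈ Z₀, avgSq R (μ χ) a with hSZ
  have hSZ0 : 0 ≤ SZ := Finset.sum_nonneg fun a _ => avgSq_nonneg _ _ _
  set mz : ℕ := Nat.card M₀ with hmz
  have hmain : SQ + (Nat.card L : ℝ) * ((Nat.card M : ℝ)⁻¹ * SM) ≤ ((e : ℝ) ^ 2 + 2 * β * e) * mz := by
    have h := mul_le_mul_of_nonneg_left hnormA hLpos.le
    rw [mul_add, ← mul_assoc, mul_inv_cancel₀ hLpos.ne', one_mul, mul_one] at h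
    linarith
  -- the correction vanishes
  have hA0card : (A₀.card : ℝ) = (m : ℝ) - mz := card_filter_sdiff c.M₀_le
  have hβ0 : β = 0 := by
    by_contra hne
    have h1 : ((m : ℝ) - mz) * (β : ℝ) ^ 2 ≤ SQ := by
      rw [← hA0card]
      refine (coset_sq_bound M₀ A₀ hA₀stab Fr (b := (β : ℝ) ^ 2) fun y hy => ?_).trans
        (Finset.sum_le_sum fun a ha => (hpt a (hA₀mem a ha)).2)
      rw [hFsum y hy, mul_pow]
    have hb : (1 : ℝ) ≤ (β : ℝ) ^ 2 := by
      have : (1 : ℤ) ≤ β ^ 2 := by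
        rcases lt_or_gt_of_ne hne with h | h <;> nlinarith
      exact_mod_cast this
    have hb2 : 2 * (β : ℝ) * e ≤ 2 * (β : ℝ) ^ 2 * e := by
      have : (β : ℤ) ≤ β ^ 2 := Int.le_self_sq β
      have h' : (β : ℝ) ≤ (β : ℝ) ^ 2 := by exact_mod_cast this
      have := mul_le_mul_of_nonneg_right h' (Nat.cast_nonneg (α := ℝ) e)
      linarith
    have hnn : 0 ≤ (Nat.card L : ℝ) * ((Nat.card M : ℝ)⁻¹ * SM) := by positivity
    have hme : ((e + 1) ^ 2 + 1) * mz ≤ m := by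
      refine le_trans (Nat.mul_le_mul_right mz (le_trans ?_ c.sq_le_E)) c.count
      have := c.bound
      have := c.three_le
      exact Nat.pow_lt_pow_left (show e + 1 < t by omega) two_ne_zero
    have hme' : (((e : ℝ) + 1) ^ 2 + 1) * mz ≤ m := by exact_mod_cast hme
    have hb3 := mul_le_mul_of_nonneg_right hb2 (Nat.cast_nonneg (α := ℝ) mz)
    have hb4 := mul_le_mul_of_nonneg_left hb (show (0 : ℝ) ≤ (e : ℝ) ^ 2 * mz by positivity)
    have hb5 := mul_le_mul_of_nonneg_right hme' (sq_nonneg (β : ℝ))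
    nlinarith [mul_pos hCpos (lt_of_lt_of_le one_pos hb)]
  rw [hβ0, Int.cast_zero, mul_zero, zero_mul, add_zero] at hmain
  -- invariance and counting
  have hQconj : ∀ a ∈ A₁, ∀ l ∈ L, Q (l * a * l⁻¹) = Q a := by
    intro a ha l hl
    simp only [hQ]
    rw [dade_card_conj hD ha hl, coset_sum_conj hD ha hl]
    refine congrArg _ (Finset.sum_congr rfl fun u _ => ?_)
    have haL : a ∈ L := hHL ha.1
    have e1 : χe (l * a * l⁻¹) = χe a := by
      have h1 := hχval ((⟨l, hl⟩ : L) * ⟨a, haL⟩ * (⟨l, hl⟩ : L)⁻¹)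
      have h2 := hχval ⟨a, haL⟩
      simp only [Subgroup.coe_mul, Subgroup.coe_inv] at h1
      rw [h1, h2, isClassFunction_character (irr_isCharacter (k.irr χ k.mem))]
    rw [conj_mul, hη, e1]
  set C := sigmaCore M ⊓ Subgroup.centralizer ({w} : Set G) with hCdef
  set X : ℕ → ℝ := fun i => (Nat.card C : ℝ)⁻¹ * ∑ u : G with u ∈ C, ‖ε * μ χ (w ^ i * u) - χe (w ^ i)‖ ^ 2 with hX
  have hcop : ∀ i ∈ Finset.Icc 1 (t - 1), i.Coprime (orderOf w) := fun i hi => by
    rw [Finset.mem_Icc] at hi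
    rw [c.w_order]
    exact (Nat.coprime_of_lt_prime (by omega) (by omega) ht.out).symm
  have hwA : ∀ i ∈ Finset.Icc 1 (t - 1), w ^ i ∈ A₁ := fun i hi => by
    refine ⟨H.pow_mem c.w_core i, fun e' => c.w_ne ?_⟩
    rw [Set.mem_singleton_iff] at e'
    obtain ⟨j, hj⟩ := exists_pow_eq_self_of_coprime (hcop i hi)
    rw [← hj, e', one_pow]
  have hXQ : ∀ i ∈ Finset.Icc 1 (t - 1), Q (w ^ i) = X i := fun i hi => by
    have hRi : R (w ^ i) = C := by
      rw [hR, supportR_congr (centralizer_pow_eq (hcop i hi)), c.supportR_w]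
    simp only [hQ, hX, hRi]
  haveI hKn : ((sigmaCore L).subgroupOf L).Normal :=
    Subgroup.normal_subgroupOf_of_le_normalizer Sig.le_normalizer_piCoreOf
  have hwM₀ : ∀ i ∈ Finset.Icc 1 (t - 1), ∀ l : G, l ∈ L → l * w ^ i * l⁻¹ ∉ M₀ := fun i hi l hl => by
    rw [Finset.mem_Icc] at hi
    exact c.w_sep i (fun hd => absurd (Nat.le_of_dvd (by omega) hd) (by omega)) l hl
  have hQnn : ∀ a, 0 ≤ Q a := fun a => mul_nonneg (inv_nonneg.2 (Nat.cast_nonneg _))
    (Finset.sum_nonneg fun _ _ => sq_nonneg _)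
  have hcount : (Nat.card L : ℝ) * ∑ i ∈ Finset.Icc 1 (t - 1), X i ≤ (Nat.card E : ℝ) * SQ := by
    set s : Finset (ℕ × L) := (Finset.Icc 1 (t - 1)) ×ˢ (Finset.univ : Finset L) with hs
    set φ : ℕ × L → G := fun p => (p.2 : G) * w ^ p.1 * (p.2 : G)⁻¹ with hφ
    have hmem : ∀ p ∈ s, φ p ∈ A₀ := fun p hp => by
      have h1 := hD.conj_mem _ p.2.2 _ (hwA _ (Finset.mem_product.1 hp).1)
      exact Finset.mem_filter.2 ⟨Finset.mem_univ _, h1.1, hwM₀ _ (Finset.mem_product.1 hp).1 _ p.2.2⟩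
    have e1 : (Nat.card L : ℝ) * ∑ i ∈ Finset.Icc 1 (t - 1), X i = ∑ p ∈ s, Q (φ p) := by
      rw [hs, Finset.sum_product, Finset.mul_sum]
      refine Finset.sum_congr rfl fun i hi => ?_
      rw [Finset.sum_congr rfl (g := fun _ => X i) fun l _ => by
        show Q ((l : G) * w ^ i * (l : G)⁻¹) = X i
        rw [hQconj _ (hwA i hi) _ l.2, hXQ i hi], Finset.sum_const, nsmul_eq_mul, Finset.card_univ,
        Nat.card_eq_fintype_card]
    rw [e1, hSQ, Finset.mul_sum, ← Finset.sum_fiberwise_of_maps_to (g := φ)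
      (t := A₀) hmem]
    refine Finset.sum_le_sum fun a _ => ?_
    rw [Finset.sum_congr rfl fun p hp => by rw [(Finset.mem_filter.1 hp).2], Finset.sum_const, nsmul_eq_mul]
    refine mul_le_mul_of_nonneg_right (Nat.cast_le.2 ?_) (hQnn a)
    rcases Finset.eq_empty_or_nonempty (s.filter fun p => φ p = a) with h | ⟨p₀, hp₀⟩
    · rw [h, Finset.card_empty]; exact Nat.zero_le _
    have key : ∀ p ∈ s.filter (fun p => φ p = a), (p₀.2 : G)⁻¹ * p.2 ∈ E := by
      intro p hp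
      obtain ⟨hp1, hp2⟩ := Finset.mem_filter.1 hp
      obtain ⟨hq1, hq2⟩ := Finset.mem_filter.1 hp₀
      refine c.fuse (Finset.mem_product.1 hp1).1 (Finset.mem_product.1 hq1).1
        (L.mul_mem (L.inv_mem p₀.2.2) p.2.2) ?_
      have e2 : (p.2 : G) * w ^ p.1 * (p.2 : G)⁻¹ = (p₀.2 : G) * w ^ p₀.1 * (p₀.2 : G)⁻¹ := hp2.trans hq2.symm
      calc (p₀.2 : G)⁻¹ * p.2 * w ^ p.1 * ((p₀.2 : G)⁻¹ * p.2)⁻¹
          = (p₀.2 : G)⁻¹ * ((p.2 : G) * w ^ p.1 * (p.2 : G)⁻¹) * p₀.2 := by group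
        _ = w ^ p₀.1 := by rw [e2]; group
    rw [Nat.card_eq_fintype_card, ← Finset.card_univ (α := E)]
    refine Finset.card_le_card_of_injOn (fun p => if hp : (p₀.2 : G)⁻¹ * p.2 ∈ E then (⟨_, hp⟩ : E) else 1)
      (fun _ _ => Finset.mem_coe.2 (Finset.mem_univ _)) ?_
    intro p hp q hq e2
    simp only [dif_pos (key p hp), dif_pos (key q hq), Subtype.mk.injEq, mul_right_inj] at e2
    refine Prod.ext ?_ (Subtype.ext e2)
    obtain ⟨hp1, hp2⟩ := Finset.mem_filter.1 hp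
    obtain ⟨hq1, hq2⟩ := Finset.mem_filter.1 hq
    have e3 := hp2.trans hq2.symm
    simp only [hφ, e2, mul_left_inj, mul_right_inj] at e3
    have hp' := Finset.mem_Icc.1 (Finset.mem_product.1 hp1).1
    have hq' := Finset.mem_Icc.1 (Finset.mem_product.1 hq1).1
    exact pow_injOn_Iio_orderOf (by show p.1 < orderOf w; rw [c.w_order]; omega)
      (by show q.1 < orderOf w; rw [c.w_order]; omega) e3
  have hn : (Nat.card M : ℝ) = (Nat.card E : ℝ) * Nat.card (sigmaCore M) := by rw [c.card_M]; push_cast; rfl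
  have hEpos : (0 : ℝ) < Nat.card E := Nat.cast_pos.2 Nat.card_pos
  have hYpos : (0 : ℝ) < Nat.card (sigmaCore M) := Nat.cast_pos.2 Nat.card_pos
  have hEm : (Nat.card E : ℝ) * mz ≤ m := by exact_mod_cast c.count
  have hfin : (Nat.card L : ℝ) * (∑ i ∈ Finset.Icc 1 (t - 1), X i + (Nat.card (sigmaCore M) : ℝ)⁻¹ * SM) ≤
      (Nat.card E : ℝ) * ((e : ℝ) ^ 2 * mz) := by
    have h := mul_le_mul_of_nonneg_left hmain hEpos.le
    have e2 : (Nat.card E : ℝ) * ((Nat.card L : ℝ) * ((Nat.card M : ℝ)⁻¹ * SM)) =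
        (Nat.card L : ℝ) * ((Nat.card (sigmaCore M) : ℝ)⁻¹ * SM) := by
      rw [hn]
      field_simp
    rw [mul_add, e2] at h
    rw [mul_add]
    linarith
  have hle : (Nat.card E : ℝ) * ((e : ℝ) ^ 2 * mz) ≤ (Nat.card L : ℝ) * e := by
    rw [hLc]
    have := mul_le_mul_of_nonneg_right hEm (sq_nonneg (e : ℝ))
    linarith
  exact le_of_mul_le_mul_left (hfin.trans hle) hLpos

end Config

end Cfsg.Agent.OddChar
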