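import Cfsg.Agent.Lib.OddChar.TauTwoSetup
import Cfsg.Agent.Lib.OddChar.TauTwoFree
import Cfsg.Agent.Lib.OddChar.RationalExtension
import Cfsg.Agent.Lib.OddChar.FrobeniusCoherent
import Cfsg.Agent.S1521
import Cfsg.Agent.S1529
import Cfsg.Agent.S1537
import Cfsg.Agent.Lib.OddLocal.TypeSets
import Cfsg.Agent.Lib.OddLocal.KappaCover

/-!
The Frobenius case of the configuration, and the resulting emptiness of `τ₂`.
-/

set_option autoImplicit false
set_option linter.unusedSectionVars false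
set_option linter.style.haveILetI false

open Cfsg Cfsg.Agent.Char
open scoped ComplexConjugate commutatorElement
open Cfsg.Agent.Fusion (cj)
open Cfsg.Agent.OddLocal

namespace Cfsg.Agent.OddChar

universe u

variable {G : Type u} [Group G] [Fintype G] {t : ℕ} [ht : Fact t.Prime] {M L A E W : Subgroup G} {w : G}

namespace FrobConfig

variable (c : FrobConfig t M L A E W w)
include c

theorem core_le : sigmaCore L ≤ L := Subgroup.map_subtype_le _

theorem w_core : w ∈ sigmaCore L := c.E_le (c.A_le c.w_mem)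

theorem w_ne : w ≠ 1 := fun h => ht.out.ne_one (by rw [← c.w_order, h, orderOf_one])

theorem dade_L : DadeHypothesis ((sigmaCore L : Set G) \ {1}) L (supportR L) := by
  rw [← Kappa.typeA1_eq c.minSimple c.coatomL]
  exact (S1537.result c.minSimple L c.coatomL _ (Or.inl rfl)).2

theorem kernel_frob : ∀ h ∈ (sigmaCore L).subgroupOf L, h ≠ 1 →
    Subgroup.centralizer ({h} : Set L) ≤ (sigmaCore L).subgroupOf L := fun h hh hh1 z hz =>
  Subgroup.mem_subgroupOf.2 (c.frob h hh (fun e => hh1 (Subtype.ext e)) ⟨z.2,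
    Subgroup.mem_centralizer_singleton_iff.2 (congrArg Subtype.val (Subgroup.mem_centralizer_singleton_iff.1 hz) :)⟩)

theorem kernel_index : ((sigmaCore L).subgroupOf L).index = Nat.card W := by
  exact (Sig.compl_card c.complL).1.symm

theorem coreIndex_eq : coreIndex L = Nat.card W := c.kernel_index

omit [Fintype G] in
theorem three_le_card : 3 ≤ Nat.card W := by
  obtain ⟨k, hk⟩ := (c.minSimple.1.of_dvd_nat (Subgroup.card_subgroup_dvd_card W) : Odd (Nat.card W))
  have h1 : Nat.card W ≠ 1 := fun h => c.W_ne (Subgroup.card_eq_one.1 h)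
  omega

theorem toConfig : Config t M L A E ⊥ w where
  minSimple := c.minSimple
  coatomM := c.coatomM
  coatomL := c.coatomL
  setup := c.setup
  complM := c.complM
  E_eq := c.E_eq
  A_le := c.A_le
  not_conj := c.not_conj
  three_le := c.coreIndex_eq ▸ c.three_le_card
  bound := c.coreIndex_eq ▸ c.bound
  M₀_le := bot_le
  M₀_norm := fun g _ => Subgroup.mem_normalizer_iff.2 fun h => by simp
  M₀_class := fun u hu => ⟨1, one_mem _, by rw [Subgroup.mem_bot.1 hu]; group⟩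
  count := by
    rw [Subgroup.card_bot, mul_one]
    exact Nat.le_of_dvd Nat.card_pos (Subgroup.card_dvd_of_le c.E_le)
  w_mem := c.w_mem
  w_core := c.w_core
  w_order := c.w_order
  w_fix := c.w_fix
  unique := c.unique
  w_not := c.w_not
  w_sep := fun i hi l _ h => hi (c.w_order ▸ orderOf_dvd_of_pow_eq_one (conj_eq_one_iff.1 (Subgroup.mem_bot.1 h)))

/-- The coherent family exists. -/
theorem exists_coh [Fintype L] : ∃ (χ : L → ℂ) (ε : ℂ) (μ : (L → ℂ) → (G → ℂ)),
    Coh ((sigmaCore L : Set G) \ {1}) L (supportR L) (inducedIrrAbove ((sigmaCore L).subgroupOf L) ⊥) χ ε μ ∧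
      χ 1 = (Nat.card W : ℂ) := by
  classical
  have hG := c.minSimple
  set H := sigmaCore L with hH
  set K : Subgroup L := H.subgroupOf L with hK
  set S := inducedIrrAbove K ⊥ with hS
  set A₁ : Set G := (H : Set G) \ {1} with hA₁
  haveI hKn : K.Normal := Subgroup.normal_subgroupOf_of_le_normalizer Sig.le_normalizer_piCoreOf
  haveI : Fintype K := Fintype.ofFinite K
  have hC := c.kernel_frob
  have hodd : Odd (Nat.card L) := hG.1.of_dvd_nat (Subgroup.card_subgroup_dvd_card L)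
  have hKne : K ≠ ⊥ := by
    intro h
    have hm : (⟨w, c.core_le c.w_core⟩ : L) ∈ K := Subgroup.mem_subgroupOf.2 c.w_core
    rw [h, Subgroup.mem_bot] at hm
    exact c.w_ne (congrArg (fun x : L => (x : G)) hm)
  have hKtop : K ≠ ⊤ := fun h => c.W_ne (Subgroup.card_eq_one.1 (by
    have h2 : K.index = Nat.card W := c.kernel_index
    have h3 : K.index = 1 := by rw [h]; exact Subgroup.index_top
    exact h2.symm.trans h3))
  haveI hnil : Group.IsNilpotent K := Char.frobKernel_nilpotent K hKtop hC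
  have hsolv : Group.IsSolvable K := inferInstance
  have hset : S = Char.chSet K ⊥ := Char.inducedIrrAbove_eq_chSet K hC
  have hirr : ∀ χ ∈ S, IsIrrCharacter L χ := fun χ hχ => (hset ▸ hχ : χ ∈ Char.chSet K ⊥).1
  have hconj : ∀ χ ∈ S, conjFun χ ∈ S ∧ conjFun χ ≠ χ := by
    rw [hset]
    exact fun χ hχ => ⟨Char.conjFun_mem_chSet K hχ, Char.conjFun_ne_self K hodd hχ⟩
  have hsupp : ∀ χ ∈ S, ∀ x : L, x ≠ 1 → (x : G) ∉ A₁ → χ x = 0 := by
    rintro χ ⟨θ, -, -, -, rfl⟩ x hx1 hxA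
    have hxK : x ∉ K := fun h => hxA ⟨Subgroup.mem_subgroupOf.1 h, fun e => hx1 (Subtype.ext e)⟩
    rw [indFun, Finset.sum_eq_zero, mul_zero]
    intro y _
    refine Function.extend_apply' _ _ _ ?_
    rintro ⟨k, hk⟩
    refine hxK ?_
    have h := hKn.conj_mem _ k.2 y
    rw [show (k : L) = y⁻¹ * x * y from hk, show y * (y⁻¹ * x * y) * y⁻¹ = x by group] at h
    exact h
  have hD := c.dade_L
  have hchar : ∀ χ ∈ S, IsCharacter L χ := fun χ hχ => Char.irr_isCharacter (hirr χ hχ)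
  obtain ⟨hiso, hone⟩ := dade_isometryOn hD S hchar hsupp
  obtain ⟨χ, hχ, hχ1⟩ := Char.iia_exists_linear K hsolv (A := ⊥) (bot_lt_iff_ne_bot.2 hKne)
  obtain ⟨R, hR⟩ := Char.exists_coherenceSystem S ⟨χ, hχ⟩ hirr hconj _ hiso hone
  have hHlt : ⁅K, K⁆ < K := by
    haveI : Nontrivial K := (Subgroup.nontrivial_iff_ne_bot K).2 hKne
    refine lt_of_le_of_ne (Subgroup.commutator_le_self K) fun h => ?_
    refine (Group.IsSolvable.commutator_lt_top_of_nontrivial K).ne ?_
    refine Subgroup.map_injective K.subtype_injective ?_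
    rw [K.map_subtype_commutator, ← MonoidHom.range_eq_map, Subgroup.range_subtype, h]
  haveI : ((⊥ : Subgroup L).subgroupOf K).Normal := by rw [Subgroup.bot_subgroupOf]; infer_instance
  have hcardK : Nat.card K = Nat.card H := Solv.card_subgroupOf c.core_le
  have hco : IsCoherent S {1}ᶜ (dadeIsometry A₁ L (supportR L)) := by
    refine S1521.result K hsolv _ R hR hodd ⊥ bot_le (Group.nilpotent_quotient_of_nilpotent _) ⁅K, K⁆
      (sup_bot_eq _).symm hHlt (lt_top_iff_ne_top.2 hKtop) (frob_mod_derived K hC) ?_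
    rw [Subgroup.relIndex_bot_left, hcardK]
    rcases c.good with h | h | h
    · exact Or.inr (Or.inr (Or.inl h))
    · refine Or.inr (Or.inr (Or.inr (Or.inl (Subgroup.commutator_le.2 fun a ha b hb => ?_))))
      exact Subgroup.mem_bot.2 (commutatorElement_eq_one_iff_mul_comm.2 (Subtype.ext (congrArg Subtype.val
        (h.is_comm.comm (⟨_, Subgroup.mem_subgroupOf.1 ha⟩ : H) ⟨_, Subgroup.mem_subgroupOf.1 hb⟩) :)))
    · by_cases hpp : ∃ p m : ℕ, p.Prime ∧ Nat.card H = p ^ m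
      swap
      · exact Or.inr (Or.inr (Or.inl hpp))
      obtain ⟨p, m, hp, hm⟩ := hpp
      refine Or.inr (Or.inr (Or.inr (Or.inr ⟨p, m, hp, hm, ?_⟩)))
      have hd : t ∣ p ^ m := hm ▸ (c.w_order ▸ Subgroup.orderOf_dvd_natCard _ c.w_core)
      have hpt : t = p := (Nat.prime_dvd_prime_iff_eq ht.out hp).1 (ht.out.dvd_of_dvd_pow hd)
      rw [← hpt, c.kernel_index]
      exact h
  obtain ⟨-, τ₁, hτ₁, hext⟩ := hco
  have htwo : ∃ ψ ∈ S, ψ ≠ χ := ⟨conjFun χ, (hconj χ hχ).1, (hconj χ hχ).2⟩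
  have h0 : ∀ α ∈ zspan S, α 1 = 0 → τ₁ α 1 = 0 := fun α hα hα1 => by
    have hmem : α ∈ zspanOn S {1}ᶜ := ⟨hα, fun x hx => by
      rw [show x = 1 by simpa using hx]; exact hα1⟩
    rw [hext α hmem]
    exact hone α hmem
  obtain ⟨ε, hε, hμ, hinj⟩ := Char.coherent_extension_sign S hirr ⟨χ, hχ, conjFun χ, (hconj χ hχ).1,
    (hconj χ hχ).2.symm⟩ τ₁ hτ₁ h0
  have hεε : ε * ε = 1 := by rcases hε with h | h <;> rw [h] <;> norm_num
  refine ⟨χ, ε, fun ψ => ε • τ₁ ψ, ⟨hD, ?_, hχ, htwo, hirr, ?_, ?_, hε, hμ, ?_, ?_⟩, ?_⟩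
  · rintro a ⟨haH, ha1⟩ k hk
    have hko := hk.coprime_dvd_right (orderOf_dvd_natCard a)
    refine ⟨⟨H.pow_mem haH k, fun e => ha1 ?_⟩, supportR_congr (centralizer_pow_eq hko)⟩
    rw [Set.mem_singleton_iff]
    obtain ⟨j, hj⟩ := exists_pow_eq_self_of_coprime hko
    rw [Set.mem_singleton_iff] at e
    rw [← hj, e, one_pow]
  · intro ψ hψ k hk
    rw [hset] at hψ ⊢
    obtain ⟨hψi, ⟨h, hh, hhne⟩, -⟩ := hψ
    have hkL : k.Coprime (Nat.card L) := hk.coprime_dvd_right (Subgroup.card_subgroup_dvd_card L)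
    refine ⟨isIrrCharacter_pow hψi hkL, ?_, fun d hd => by rw [Subgroup.mem_bot.1 hd]⟩
    obtain ⟨h', hh'⟩ := (powCoprime_bijective
      (hkL.coprime_dvd_right (Subgroup.card_subgroup_dvd_card K))).2 ⟨h, hh⟩
    refine ⟨h', h'.2, fun e => hhne ?_⟩
    have e' : (h' : L) ^ k = h := congrArg Subtype.val hh'
    rw [← e']
    simpa using e
  · rintro ψ ⟨θ, hθ, -, -, rfl⟩
    refine ⟨deg θ, deg_pos hθ, ?_⟩
    rw [indFun_one, hχ1, char_one_eq_deg (irr_isCharacter hθ), mul_comm]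
  · intro ψ hψ φ hφ e
    refine hinj ψ hψ φ hφ ?_
    have h := congrArg (ε • ·) e
    simpa only [smul_smul, hεε, one_smul] using h
  · intro ψ hψ d hd g
    have hmem : ψ - (d : ℤ) • χ ∈ zspanOn S {1}ᶜ :=
      ⟨Submodule.sub_mem _ (Submodule.subset_span hψ) (Submodule.smul_mem _ _ (Submodule.subset_span hχ)),
        fun x hx => by
          rw [show x = 1 by simpa using hx]
          simp [hd]⟩
    have h := congrFun (hext _ hmem) g
    rw [isometryOn_sub hτ₁ (mem_zspan_of_mem hψ) (Submodule.smul_mem _ _ (mem_zspan_of_mem hχ)),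
      hτ₁.2.1 χ (mem_zspan_of_mem hχ)] at h
    rw [show ψ - (d : ℂ) • χ = ψ - (d : ℤ) • χ by funext x; simp, ← h]
    simp only [Pi.sub_apply, Pi.smul_apply, smul_eq_mul, zsmul_eq_mul, Int.cast_natCast, Pi.mul_apply, Pi.natCast_apply]
    linear_combination -((τ₁ ψ g) - (d : ℂ) * τ₁ χ g) * hεε
  · rw [hχ1, c.kernel_index]

/-- The family of all characters induced from the kernel is as required. -/
theorem exists_data [Fintype L] : ∃ (χ : L → ℂ) (ε : ℂ) (μ : (L → ℂ) → (G → ℂ)),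
    Data M L E ⊥ w (inducedIrrAbove ((sigmaCore L).subgroupOf L) ⊥) χ ε μ := by
  classical
  obtain ⟨χ, ε, μ, k, hχ1⟩ := c.exists_coh
  refine ⟨χ, ε, μ, ?_⟩
  set K : Subgroup L := (sigmaCore L).subgroupOf L with hK
  haveI hKn : K.Normal := Subgroup.normal_subgroupOf_of_le_normalizer Sig.le_normalizer_piCoreOf
  haveI : Fintype K := Fintype.ofFinite K
  have hχe : χ 1 = (coreIndex L : ℂ) := by rw [c.coreIndex_eq, hχ1]
  refine ⟨k, hχe, fun x hx => ?_, ?_, ?_, fun _ => ?_⟩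
  · rw [show x = 1 from Subtype.ext (Subgroup.mem_bot.1 hx)]
  · rintro ψ ⟨θ, -, -, -, rfl⟩ x hx
    rw [indFun, Finset.sum_eq_zero, mul_zero]
    intro y _
    refine Function.extend_apply' _ _ _ ?_
    rintro ⟨z, hz⟩
    refine hx (Subgroup.mem_subgroupOf.1 (?_ : x ∈ K))
    have h := hKn.conj_mem _ z.2 y
    rw [show (z : L) = y⁻¹ * x * y from hz, show y * (y⁻¹ * x * y) * y⁻¹ = x by group] at h
    exact h
  · intro θ hθ hθ1 _ hne
    have hψS : indFun K θ ∈ inducedIrrAbove K ⊥ :=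
      ⟨θ, hθ, hθ1, fun a ha => by rw [show a = 1 from Subtype.ext (Subgroup.mem_bot.1 ha)], rfl⟩
    have hψ1 : indFun K θ 1 = (deg θ : ℕ) * χ 1 := by
      rw [indFun_one, hχe, char_one_eq_deg (irr_isCharacter hθ), mul_comm]; rfl
    refine ⟨by rw [irr_orth (k.irr _ hψS) (k.irr χ k.mem), if_neg hne], ?_⟩
    have h2 : dadeIsometry ((sigmaCore L : Set G) \ {1}) L (supportR L) (indFun K θ - (deg θ : ℂ) • χ) =
        ε • (μ (indFun K θ) - (deg θ : ℂ) • μ χ) := funext fun g => by rw [k.ext _ hψS _ hψ1 g]; rfl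
    have hne' : μ (indFun K θ) ≠ μ χ := fun e => hne (k.inj _ hψS χ k.mem e)
    have hεc : ε * conj ε = 1 := by rcases k.sign with h | h <;> rw [h] <;> norm_num
    rw [h2, classInner_smul_left, classInner_smul_right, ← mul_assoc, hεc, classInner_sub_left, classInner_smul_left,
      irr_orth (k.irrμ _ hψS) (k.irrμ χ k.mem), if_neg hne', irr_self (k.irrμ χ k.mem)]
    ring
  · obtain ⟨kk, hkk, hdeg⟩ := chFin_sum_sq K c.kernel_frob ⊥ bot_le
    rw [Subgroup.relIndex_bot_left, Solv.card_subgroupOf c.core_le, c.kernel_index] at hkk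
    rw [c.kernel_index] at hdeg
    have hS : inducedIrrAbove K ⊥ = chSet K ⊥ := inducedIrrAbove_eq_chSet K c.kernel_frob
    have hmemS : ∀ ψ ∈ chFin K ⊥, ψ ∈ inducedIrrAbove K ⊥ := fun ψ hψ => hS ▸ mem_chFin.1 hψ
    have hd : ∀ ψ ∈ chFin K ⊥, ∃ d : ℕ, ψ 1 = d * χ 1 ∧ deg ψ = Nat.card W * d := by
      intro ψ hψ
      obtain ⟨d, -, hd⟩ := k.deg ψ (hmemS ψ hψ)
      refine ⟨d, hd, ?_⟩
      have h1 := char_one_eq_deg (irr_isCharacter (k.irr ψ (hmemS ψ hψ)))
      rw [hd, hχ1] at h1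
      have h2 : d * Nat.card W = deg ψ := by exact_mod_cast h1
      rw [← h2, mul_comm]
    choose! d hd1 hd2 using hd
    refine ⟨chFin K ⊥, d, fun ψ hψ => hmemS ψ (Finset.mem_coe.1 hψ), hd1, ?_⟩
    rw [Finset.sum_congr rfl fun ψ hψ => by rw [hd2 ψ hψ, mul_pow], ← Finset.mul_sum] at hdeg
    rw [Nat.eq_of_mul_eq_mul_left (pow_pos Nat.card_pos 2) hdeg, c.coreIndex_eq, ← hkk]
    exact Nat.le_of_dvd Nat.card_pos (Subgroup.card_dvd_of_le c.E_le)

end FrobConfig

/-- If no maximal subgroup has a `κ`-prime then none has a `τ₂`-prime. -/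
theorem tau2_empty_of_kappa_empty (hG : IsMinSimpleOddOrder G)
    (hκ : ∀ N : Subgroup G, IsCoatom N → kappa N = ∅) {M : Subgroup G} (hM : IsCoatom M) : tau2 M = ∅ := by
  classical
  by_contra hne
  obtain ⟨s, hs⟩ := Set.nonempty_iff_ne_empty.2 hne
  have hex : ∃ t, ∃ N : Subgroup G, IsCoatom N ∧ t ∈ tau2 N := ⟨s, M, hM, hs⟩
  obtain ⟨N, hN, htN⟩ := Nat.find_spec hex
  haveI := Fact.mk htN.1
  obtain ⟨L, A, E, W, w, hc⟩ := exists_config hG hN (hκ N hN) htN
    (fun N' hN' _ q hq => Nat.find_min' hex ⟨N', hN', hq⟩) fun L hL _ => hκ L hL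
  haveI : Fintype L := Fintype.ofFinite L
  obtain ⟨χ, ε, μ, hd⟩ := hc.exists_data
  exact hc.toConfig.false hd

end Cfsg.Agent.OddChar
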