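import Cfsg.Agent.Lib.OddChar.TauTwoConf
import Cfsg.Agent.Lib.Char.PrincipalBlock
import Cfsg.Agent.Lib.Char.Inflate

/-!
The average of the correction over the cosets of `M₀` is a fixed integer.
-/

set_option autoImplicit false
set_option linter.unusedSectionVars false
set_option linter.style.haveILetI false

open Cfsg Cfsg.Agent.Char
open scoped ComplexConjugate
open Cfsg.Agent.OddLocal

namespace Cfsg.Agent.OddChar

universe u

variable {G : Type u} [Group G] [Fintype G] {t : ℕ} [ht : Fact t.Prime] {M L A E M₀ : Subgroup G} {w : G}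

namespace Config

variable (c : Config t M L A E M₀ w)
include c

variable [Fintype L] {S : Set (L → ℂ)} {χ : L → ℂ} {ε : ℂ} {μ : (L → ℂ) → (G → ℂ)}

theorem index_ne_zero : (coreIndex L : ℂ) ≠ 0 :=
  Nat.cast_ne_zero.2 (by have := c.three_le; omega)

/-- The characters of the family are constant on the cosets of `M₀`. -/
theorem χ_coset (d : Data M L E M₀ w S χ ε μ) {x y : L} (hy : (y : G) ∈ M₀) : χ (x * y) = χ x :=
  ((isClassFunction_character (irr_isCharacter (d.coh.irr χ d.coh.mem)) (x * y) y).symm.trans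
    (by rw [show y * (x * y) * y⁻¹ = y * x by group])).trans
    (char_mul_of_ker (irr_isCharacter (d.coh.irr χ d.coh.mem)) (d.on_M₀ y hy) x)

open Classical in
/-- The correction has constant averages over the cosets of `M₀`. -/
theorem exists_const (d : Data M L E M₀ w S χ ε μ) :
    ∃ β : ℤ, ∀ a ∈ sigmaCore L, a ∉ M₀ →
      ∑ v : G with v ∈ M₀, ((Nat.card (supportR L (a * v)) : ℂ)⁻¹ *
          ∑ u : G with u ∈ supportR L (a * v), ε * μ χ (a * v * u) - extendByZero L χ (a * v)) =
        (Nat.card M₀ : ℂ) * β := by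
  have k := d.coh
  set H := sigmaCore L with hH
  set K : Subgroup L := H.subgroupOf L with hK
  set A₁ : Set G := (H : Set G) \ {1} with hA₁
  haveI hKn : K.Normal := Subgroup.normal_subgroupOf_of_le_normalizer Sig.le_normalizer_piCoreOf
  haveI : Fintype K := Fintype.ofFinite K
  have hHL : H ≤ L := c.core_le
  have hD := k.dade
  have hη : IsClassFunction G (ε • μ χ) := fun g x => by
    simp only [Pi.smul_apply, isClassFunction_character (irr_isCharacter (k.irrμ χ k.mem)) g x]
  set χe : G → ℂ := extendByZero L χ with hχe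
  set P : G → ℂ := fun a => (Nat.card (supportR L a) : ℂ)⁻¹ *
    ∑ u : G with u ∈ supportR L a, ε * μ χ (a * u) with hP
  set F : G → ℂ := fun a => if a ∈ A₁ then P a - χe a else 0 with hF
  have hiff : ∀ a l : G, l ∈ L → (l * a * l⁻¹ ∈ A₁ ↔ a ∈ A₁) := fun a l hl => by
    refine ⟨fun h => ?_, fun h => hD.conj_mem _ hl _ h⟩
    have h2 := hD.conj_mem _ (L.inv_mem hl) _ h
    rwa [show l⁻¹ * (l * a * l⁻¹) * l⁻¹⁻¹ = a by group] at h2
  have hPcl : ∀ a l : G, a ∈ A₁ → l ∈ L → P (l * a * l⁻¹) = P a := fun a l ha hl => by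
    have h := coset_avg_conj hD ha hl hη
    simpa only [hP, Pi.smul_apply, smul_eq_mul] using h
  have hFcl : ∀ a l : G, l ∈ L → F (l * a * l⁻¹) = F a := fun a l hl => by
    simp only [hF, hiff a l hl]
    split_ifs with h
    · rw [hPcl a l h hl]
      congr 1
      have haL : a ∈ L := hHL h.1
      have h1 := extendByZero_mem L χ (g := l * a * l⁻¹) (L.mul_mem (L.mul_mem hl haL) (L.inv_mem hl))
      rw [hχe, h1, extendByZero_mem L χ haL,
        ← isClassFunction_character (irr_isCharacter (k.irr χ k.mem)) (⟨a, haL⟩ : L) ⟨l, hl⟩]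
      rfl
    · rfl
  set FL : L → ℂ := fun x => F x with hFL
  have hFLcl : IsClassFunction L FL := fun a l => hFcl (a : G) l l.2
  set Fr : K → ℂ := fun x => F x with hFr
  have hFrcl : IsClassFunction K Fr := fun x y => hFcl ((x : L) : G) ((y : L) : G) (y : L).2
  have hvanS : ∀ x : L, (x : G) ∉ H → χ x = 0 := d.vanish χ k.mem
  -- the coefficients
  have hcoef : ∀ θ : K → ℂ, IsIrrCharacter K θ → θ ≠ (fun _ => 1) →
      (∀ x : K, ((x : L) : G) ∈ M₀ → θ x = θ 1) → classInner θ Fr = (deg θ : ℂ) * classInner χ FL := by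
    intro θ hθ hθ1 hθ0
    set ψ := indFun K θ with hψ
    set dd := deg θ with hdd
    show classInner θ (fun h : K => FL h) = _
    rw [← frobenius K θ hFLcl]
    by_cases he : indFun K θ = χ
    · have hd1 : dd = 1 := by
        have h1 := congrFun he 1
        rw [indFun_one, d.deg_one, char_one_eq_deg (irr_isCharacter hθ), ← hdd] at h1
        exact_mod_cast (mul_eq_left₀ c.index_ne_zero).1 h1
      rw [he, hd1, Nat.cast_one, one_mul]
    obtain ⟨horth, hrel⟩ := d.rel θ hθ hθ1 hθ0 he
    change classInner ψ FL = _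
    have hψz : ∀ x : L, x ∉ K → ψ x = 0 := fun x hx => by
      rw [hψ, indFun, Finset.sum_eq_zero, mul_zero]
      intro y _
      refine Function.extend_apply' _ _ _ ?_
      rintro ⟨z, hzz⟩
      refine hx ?_
      have h := hKn.conj_mem _ z.2 y
      rw [show (z : L) = y⁻¹ * x * y from hzz, show y * (y⁻¹ * x * y) * y⁻¹ = x by group] at h
      exact h
    have hα : ∀ x : L, (x : G) ∉ A₁ → (ψ - (dd : ℂ) • χ) x = 0 := fun x hx => by
      by_cases hx1 : x = 1
      · subst hx1
        simp only [Pi.sub_apply, Pi.smul_apply, smul_eq_mul, hψ, indFun_one, d.deg_one,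
          char_one_eq_deg (irr_isCharacter hθ), ← hdd]
        show (coreIndex L : ℂ) * (dd : ℂ) - _ = 0
        ring
      have hxK : (x : G) ∉ H := fun h => hx ⟨h, fun e => hx1 (Subtype.ext e)⟩
      simp [hψz x fun h => hxK (Subgroup.mem_subgroupOf.1 h), hvanS x hxK]
    have hψcl : IsClassFunction L (ψ - (dd : ℂ) • χ) := fun x y => by
      simp only [Pi.sub_apply, Pi.smul_apply, hψ, isClassFunction_indFun K θ x y,
        isClassFunction_character (irr_isCharacter (k.irr χ k.mem)) x y]
    have h1 : classInner (dadeIsometry A₁ L (supportR L) (ψ - (dd : ℂ) • χ)) (ε • μ χ) =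
        classInner (ψ - (dd : ℂ) • χ) (χ + FL) := by
      refine classInner_dade hD hψcl hα hη fun a ha => ?_
      simp only [Pi.add_apply, hFL, hF, if_pos ha, hχe, extendByZero_mem L χ a.2, hP, Pi.smul_apply, smul_eq_mul]
      rw [add_sub_cancel, finsum_mem_eq_finite_toFinset_sum _ (Set.toFinite _)]
      refine congrArg _ (Finset.sum_congr ?_ fun _ _ => rfl)
      ext; simp
    rw [hrel, classInner_add_right, classInner_sub_left, classInner_sub_left, classInner_smul_left,
      classInner_smul_left, horth, irr_self (k.irr χ k.mem)] at h1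
    linear_combination -h1
  -- the averages
  set γ : ℂ := conj (classInner χ FL) with hγ
  set G0 : K → ℂ := fun x => Fr x - γ * (if x = 1 then (Nat.card K : ℂ) else 0) with hG0
  set N : Subgroup K := M₀.comap (L.subtype.comp K.subtype) with hN
  haveI hNn : N.Normal := ⟨fun n hn g => by
    show ((g * n * g⁻¹ : K) : L).1 ∈ M₀
    exact (Subgroup.mem_normalizer_iff.1 (c.M₀_norm (Subgroup.mem_subgroupOf.1 g.2)) _).1 hn⟩
  haveI : Fintype N := Fintype.ofFinite N
  set Bv : K → ℂ := fun x => ∑ v : N, G0 (x * v) with hBv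
  have hG0cl : IsClassFunction K G0 := fun x y => by
    simp only [hG0, hFrcl x y, conj_eq_one_iff]
  have hBcl : IsClassFunction K Bv := fun x y => by
    simp only [hBv]
    refine Fintype.sum_equiv (MulAut.conjNormal y⁻¹).toEquiv _ _ fun v => ?_
    show G0 (y * x * y⁻¹ * v) = G0 (x * (MulAut.conjNormal y⁻¹ v : N))
    rw [MulAut.conjNormal_apply, ← hG0cl (x * (y⁻¹ * v * y⁻¹⁻¹)) y]
    congr 1
    group
  have hinv : ∀ (x : K) (v : N), Bv (x * v) = Bv x := fun x v => by
    simp only [hBv]
    exact Fintype.sum_equiv (Equiv.mulLeft v) _ _ fun u => by simp [mul_assoc]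
  have hreg : ∀ θ : IrrCharacter K, classInner (fun x : K => γ * (if x = 1 then (Nat.card K : ℂ) else 0)) θ =
      γ * deg (θ : K → ℂ) := fun θ => by
    rw [classInner, Finset.sum_eq_single (1 : K) (fun x _ hx => by rw [if_neg hx, mul_zero, zero_mul])
      (fun h => absurd (Finset.mem_univ _) h), if_pos rfl, char_one_eq_deg (irr_isCharacter θ.2), Complex.conj_natCast]
    field_simp
  set c₀ : ℂ := classInner Bv (fun _ => 1) with hc₀
  have hzero : Bv - c₀ • (fun _ => (1 : ℂ)) = 0 := by
    refine classFun_eq_zero (fun x y => by simp [hBcl x y]) fun θ => ?_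
    rw [classInner_sub_left, classInner_smul_left]
    by_cases hθ : (θ : K → ℂ) = fun _ => 1
    · rw [hθ, irr_self (hθ ▸ θ.2), mul_one, sub_self]
    rw [irr_orth isIrrCharacter_one θ.2, if_neg (fun e => hθ e.symm), mul_zero, sub_zero]
    by_cases hker : ∀ x : K, ((x : L) : G) ∈ M₀ → (θ : K → ℂ) x = (θ : K → ℂ) 1
    · have hG : classInner G0 (θ : K → ℂ) = 0 := by
        rw [show G0 = Fr - (fun x => γ * (if x = 1 then (Nat.card K : ℂ) else 0)) from rfl, classInner_sub_left, hreg,
          ← classInner_symm (θ : K → ℂ) Fr, hcoef (θ : K → ℂ) θ.2 hθ hker, map_mul, Complex.conj_natCast, ← hγ]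
        ring
      have hmul : ∀ (v : N), classInner (fun x => G0 (x * v)) (θ : K → ℂ) = classInner G0 (θ : K → ℂ) := fun v => by
        simp only [classInner]
        refine congrArg _ (Fintype.sum_equiv (Equiv.mulRight (v : K)) _ _ fun x => ?_)
        simp only [Equiv.coe_mulRight]
        rw [show (θ : K → ℂ) (x * v) = (θ : K → ℂ) x from
          ((isClassFunction_character (irr_isCharacter θ.2) (x * v) v).symm.trans
            (by rw [show (v : K) * (x * v) * (v : K)⁻¹ = v * x by group])).trans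
            (char_mul_of_ker (irr_isCharacter θ.2) (hker v v.2) x)]
      rw [show Bv = ∑ v : N, fun x => G0 (x * v) from funext fun x => by simp [hBv], classInner_sum_left,
        Finset.sum_congr rfl fun v _ => hmul v]
      simp [hG]
    · -- the averages come from the quotient
      haveI : Fintype (K ⧸ N) := Fintype.ofFinite _
      set b : K ⧸ N → ℂ := fun q => Bv q.out with hb
      have hbval : ∀ x : K, b (QuotientGroup.mk x) = Bv x := fun x => by
        obtain ⟨v, hv⟩ := QuotientGroup.mk_out_eq_mul N x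
        simp only [hb, hv, hinv]
      have hbcl : IsClassFunction (K ⧸ N) b := fun q r => by
        obtain ⟨x, rfl⟩ := QuotientGroup.mk_surjective q
        obtain ⟨y, rfl⟩ := QuotientGroup.mk_surjective r
        rw [← QuotientGroup.mk_inv, ← QuotientGroup.mk_mul, ← QuotientGroup.mk_mul, hbval, hbval, hBcl x y]
      have hexp := classFun_expansion hbcl
      rw [show Bv = ∑ χ' : IrrCharacter (K ⧸ N), classInner b (χ' : K ⧸ N → ℂ) •
          (fun x : K => (χ' : K ⧸ N → ℂ) (QuotientGroup.mk x)) from funext fun x => by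
        have h := congrFun hexp (QuotientGroup.mk x)
        simp only [Finset.sum_apply, Pi.smul_apply] at h ⊢
        rw [← hbval x, h], classInner_sum_left, Finset.sum_eq_zero]
      intro χ' _
      rw [classInner_smul_left, irr_orth (isIrr_inflate N χ'.2) θ.2, if_neg, mul_zero]
      intro e
      refine hker fun x hx => ?_
      rw [← congrFun e x, ← congrFun e 1, (QuotientGroup.eq_one_iff x).2 hx, QuotientGroup.mk_one]
  have hBc : ∀ x : K, Bv x = c₀ := fun x => by
    have h := congrFun hzero x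
    simp only [Pi.sub_apply, Pi.smul_apply, smul_eq_mul, mul_one, Pi.zero_apply] at h
    exact sub_eq_zero.1 h
  -- back to `G`
  have hFex : ∀ a ∈ H, a ∉ M₀ → ∑ v : G with v ∈ M₀, F (a * v) = c₀ := by
    intro a ha ha0
    rw [← hBc ⟨⟨a, hHL ha⟩, Subgroup.mem_subgroupOf.2 ha⟩, hBv]
    refine Finset.sum_bij' (fun v hv => (⟨⟨⟨v, hHL (c.M₀_le (Finset.mem_filter.1 hv).2)⟩,
        Subgroup.mem_subgroupOf.2 (c.M₀_le (Finset.mem_filter.1 hv).2)⟩, (Finset.mem_filter.1 hv).2⟩ : N))
      (fun v _ => (((v : K) : L) : G)) (fun _ _ => Finset.mem_univ _)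
      (fun v _ => Finset.mem_filter.2 ⟨Finset.mem_univ _, v.2⟩) (fun _ _ => rfl) (fun _ _ => rfl) fun v hv => ?_
    simp only [hG0, hFr]
    rw [if_neg, mul_zero, sub_zero]
    · rfl
    · intro e
      have e' : a * v = 1 := congrArg (fun x : K => ((x : L) : G)) e
      exact ha0 (eq_inv_of_mul_eq_one_left e' ▸ M₀.inv_mem (Finset.mem_filter.1 hv).2)
  -- the value at `w`
  have hwA : w ∈ A₁ := ⟨c.w_core, c.w_ne⟩
  have hwM₀ : w ∉ M₀ := fun h => by
    obtain ⟨g, -, hg⟩ := c.M₀_class w⁻¹ (M₀.inv_mem h)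
    rw [mul_inv_cancel] at hg
    exact c.w_ne (conj_eq_one_iff.1 hg)
  have hwval : ∑ v : G with v ∈ M₀, F (w * v) = (Nat.card M₀ : ℂ) * F w := by
    rw [Finset.sum_congr rfl fun v hv => ?_, Finset.sum_const, nsmul_eq_mul, Nat.card_eq_fintype_card,
      Fintype.card_subtype]
    obtain ⟨g, hg, hgv⟩ := c.M₀_class v (Finset.mem_filter.1 hv).2
    rw [← hgv, hFcl w g (hHL hg)]
  have hw' : F w = P w - χe w := by simp only [hF, if_pos hwA]
  obtain ⟨z, hz⟩ : ∃ z : ℤ, F w = z := by
    have hgen : IsGeneralizedCharacter G (ε • μ χ) := by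
      have hchar := irr_isCharacter (k.irrμ χ k.mem)
      rcases k.sign with h | h <;> rw [h]
      · exact ⟨μ χ, 0, hchar, isCharacter_zero, by simp⟩
      · exact ⟨0, μ χ, isCharacter_zero, hchar, by simp⟩
    have hwL : w ∈ L := hHL c.w_core
    have hi : IsIntegral ℤ (F w) := by
      rw [hw', hP, hχe, extendByZero_mem L χ hwL]
      refine IsIntegral.sub ?_ (char_isIntegral (irr_isCharacter (k.irr χ k.mem)) _)
      refine avg_isIntegral hgen _ (z := w) ?_
      exact Subgroup.centralizer_le_normalizer _ (Subgroup.mem_centralizer_iff.2 fun u hu =>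
        (dade_commute hD hwA hu).eq.symm)
    have hex : ∀ u : G, ∃ n : ℤ, u ∈ supportR L w → ε * μ χ (w * u) - χe w = n := fun u => by
      by_cases hu : u ∈ supportR L w
      · obtain ⟨n, hn⟩ := k.int_on (a := ⟨w, hwL⟩) hwA hu
        exact ⟨n, fun _ => by rw [hχe, extendByZero_mem L χ hwL]; exact hn⟩
      · exact ⟨0, fun h => absurd h hu⟩
    choose n hn using hex
    have hq : F w = (((Nat.card (supportR L w) : ℚ)⁻¹ *
        ∑ u : G with u ∈ supportR L w, (n u : ℚ) : ℚ) : ℂ) := by
      push_cast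
      simp only [hw', hP]
      rw [Finset.sum_congr rfl fun u hu => by
        rw [show ε * μ χ (w * u) = (n u : ℂ) + χe w by rw [← hn u (Finset.mem_filter.1 hu).2]; ring],
        Finset.sum_add_distrib, Finset.sum_const, nsmul_eq_mul]
      have hcard : ((Finset.univ.filter fun u : G => u ∈ supportR L w).card : ℂ) = Nat.card (supportR L w) := by
        rw [Nat.card_eq_fintype_card, Fintype.card_subtype]
      have hN : (Nat.card (supportR L w) : ℂ) ≠ 0 := Nat.cast_ne_zero.2 Nat.card_pos.ne'
      rw [hcard]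
      field_simp
      ring
    obtain ⟨z, hz⟩ := isIntegral_rat_cast_imp (hq ▸ hi)
    exact ⟨z, by rw [hq, ← hz]; simp⟩
  refine ⟨z, fun a ha ha0 => ?_⟩
  rw [← hz, ← hwval, hFex w c.w_core hwM₀, ← hFex a ha ha0]
  refine Finset.sum_congr rfl fun v hv => ?_
  have hmem : a * v ∈ A₁ := ⟨H.mul_mem ha (c.M₀_le (Finset.mem_filter.1 hv).2), fun e =>
    ha0 (eq_inv_of_mul_eq_one_left (Set.mem_singleton_iff.1 e) ▸ M₀.inv_mem (Finset.mem_filter.1 hv).2)⟩
  simp only [hF, if_pos hmem, hP]

end Config

end Cfsg.Agent.OddChar
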