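import Cfsg.Agent.Lib.OddChar.TauTwoBound
import Cfsg.Agent.Lib.OddChar.TauTwoSetup
import Cfsg.Agent.Lib.OddChar.DadeSpan
import Cfsg.Agent.Lib.Char.Clifford
import Cfsg.Agent.Lib.Char.FrobCoherenceBasic

/-!
The averages over the cosets of the derived subgroup of the core of `M`.
-/

set_option autoImplicit false
set_option linter.unusedSectionVars false
set_option linter.style.haveILetI false

open Cfsg Cfsg.Agent.Char
open scoped ComplexConjugate commutatorElement
open Cfsg.Agent.Fusion (cj)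
open Cfsg.Agent.OddLocal

namespace Cfsg.Agent.OddChar

universe u

variable {G : Type u} [Group G] [Fintype G] {t : ℕ} [ht : Fact t.Prime] {M L A E M₀ : Subgroup G} {w : G}

/-- The stabiliser of a linear character of `Y`. -/
def fixSub (Y : Subgroup G) (φ : ↥Y →* ℂˣ) : Subgroup G where
  carrier := {g | ∃ hg : g ∈ Subgroup.normalizer (Y : Set G), homAct Y ⟨g, hg⟩ φ = φ}
  one_mem' := ⟨one_mem _, by
    rw [show (⟨1, one_mem _⟩ : ↥(Subgroup.normalizer (Y : Set G))) = 1 from rfl, map_one]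
    rfl⟩
  mul_mem' := by
    rintro a b ⟨ha, ea⟩ ⟨hb, eb⟩
    refine ⟨mul_mem ha hb, ?_⟩
    rw [show (⟨a * b, mul_mem ha hb⟩ : ↥(Subgroup.normalizer (Y : Set G))) = ⟨a, ha⟩ * ⟨b, hb⟩ from rfl, map_mul]
    show homAct Y ⟨a, ha⟩ (homAct Y ⟨b, hb⟩ φ) = φ
    rw [eb, ea]
  inv_mem' := by
    rintro a ⟨ha, ea⟩
    refine ⟨inv_mem ha, ?_⟩
    rw [show (⟨a⁻¹, inv_mem ha⟩ : ↥(Subgroup.normalizer (Y : Set G))) = (⟨a, ha⟩ : ↥(Subgroup.normalizer (Y : Set G)))⁻¹
      from rfl, map_inv]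
    conv_lhs => arg 2; rw [← ea]
    exact MulEquiv.symm_apply_apply _ _

theorem mem_fixSub {Y : Subgroup G} {φ : ↥Y →* ℂˣ} {g : G} (hg : g ∈ Subgroup.normalizer (Y : Set G)) :
    g ∈ fixSub Y φ ↔ ∀ y : Y, φ (Y.normalizerMonoidHom ⟨g, hg⟩ y) = φ y := by
  constructor
  · rintro ⟨hg', e⟩ y
    exact homAct_eq e rfl
  · intro h
    refine ⟨hg, MonoidHom.ext fun y => ?_⟩
    show φ (Y.normalizerMonoidHom (⟨g, hg⟩ : ↥(Subgroup.normalizer (Y : Set G)))⁻¹ y) = φ y
    conv_rhs => rw [← (show Y.normalizerMonoidHom ⟨g, hg⟩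
      (Y.normalizerMonoidHom (⟨g, hg⟩ : ↥(Subgroup.normalizer (Y : Set G)))⁻¹ y) = y by
        rw [← MulAut.mul_apply, ← map_mul, mul_inv_cancel, map_one]; rfl)]
    exact (h _).symm

theorem le_fixSub (Y : Subgroup G) (φ : ↥Y →* ℂˣ) : Y ≤ fixSub Y φ := fun g hg =>
  (mem_fixSub (Subgroup.le_normalizer hg)).2 fun y => by
    rw [show Y.normalizerMonoidHom ⟨g, Subgroup.le_normalizer hg⟩ y = ⟨g, hg⟩ * y * (⟨g, hg⟩ : Y)⁻¹ from rfl,
      map_mul, map_mul, map_inv, mul_comm (φ ⟨g, hg⟩), mul_inv_cancel_right]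

namespace Config

variable (c : Config t M L A E M₀ w)
include c

theorem not_dvd_core : ¬ t ∣ Nat.card (sigmaCore M) := fun h =>
  c.setup.not_sigma ((Sig.sigmaCore_hall c.minSimple c.coatomM).1.2.1 t ht.out h)

theorem A_norm : A ≤ Subgroup.normalizer ((sigmaCore M : Subgroup G) : Set G) :=
  c.setup.le.trans Sig.le_normalizer_piCoreOf

theorem fix_eq_one {φ : ↥(sigmaCore M) →* ℂˣ} (h : A ≤ fixSub (sigmaCore M) φ) : φ = 1 :=
  homAct_fix (Fusion.elab_isPGroup c.setup.elem) c.A_norm c.not_dvd_core (TauTwo.sigmaCore_inf_centralizer c.setup)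
    fun _ hx => (h hx).2

/-- A linear character fixed by `a` and nontrivial. -/
theorem exists_fixed {a : G} (ha : a ∈ A) {y : G} (hy : y ∈ sigmaCore M) (hya : Commute a y)
    (hyΨ : y ∉ ⁅sigmaCore M, sigmaCore M⁆) :
    ∃ φ : ↥(sigmaCore M) →* ℂˣ, φ ≠ 1 ∧ a ∈ fixSub (sigmaCore M) φ := by
  classical
  set Y := sigmaCore M with hY
  obtain ⟨l, hl⟩ := exists_hom_ne_one (Y := ↥Y) (y := ⟨y, hy⟩) fun h => hyΨ (by
    rw [← Y.map_subtype_commutator]
    exact ⟨_, h, rfl⟩)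
  set g : ↥(Subgroup.normalizer (Y : Set G)) := ⟨a, c.A_norm ha⟩ with hg
  have hgt : g ^ t = 1 := Subtype.ext (by
    show a ^ t = 1
    exact c.setup.elem.2 a ha)
  refine ⟨∏ j ∈ Finset.range t, homAct Y (g ^ j) l, fun h => hl ?_, c.A_norm ha, ?_⟩
  · have h1 := DFunLike.congr_fun h ⟨y, hy⟩
    rw [MonoidHom.one_apply, MonoidHom.finset_prod_apply, Finset.prod_congr rfl (g := fun _ => l ⟨y, hy⟩) fun j _ => by
      show l (Y.normalizerMonoidHom (g ^ j)⁻¹ ⟨y, hy⟩) = l ⟨y, hy⟩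
      refine congrArg l (Subtype.ext ?_)
      show (((g ^ j)⁻¹ : ↥(Subgroup.normalizer (Y : Set G))) : G) * y * (((g ^ j)⁻¹ : ↥(Subgroup.normalizer (Y : Set G))) : G)⁻¹ = y
      push_cast
      rw [inv_inv, mul_assoc, ← (hya.pow_left j).eq, inv_mul_cancel_left], Finset.prod_const, Finset.card_range] at h1
    have h2 : l ⟨y, hy⟩ ^ Nat.card Y = 1 := by rw [← map_pow, pow_card_eq_one', map_one]
    have h3 := Nat.dvd_gcd (orderOf_dvd_of_pow_eq_one h1) (orderOf_dvd_of_pow_eq_one h2)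
    rw [((Nat.Prime.coprime_iff_not_dvd ht.out).2 c.not_dvd_core).gcd_eq_one, Nat.dvd_one] at h3
    exact orderOf_eq_one_iff.1 h3
  · show homAct Y g _ = _
    rw [map_prod]
    have e1 := Finset.prod_range_succ (fun j => homAct Y (g ^ j) l) t
    have e2 := Finset.prod_range_succ' (fun j => homAct Y (g ^ j) l) t
    rw [e1, hgt, pow_zero] at e2
    refine (Finset.prod_congr rfl fun j _ => ?_).trans (mul_right_cancel e2).symm
    rw [pow_succ', map_mul (homAct Y) g]
    rfl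

/-- A linear character without fixed points in `A`. -/
theorem exists_regular (hnc : ¬ sigmaCore M ≤ Subgroup.centralizer ({w} : Set G)) :
    ∃ φ : ↥(sigmaCore M) →* ℂˣ, φ ≠ 1 ∧ A ⊓ fixSub (sigmaCore M) φ = ⊥ := by
  classical
  set Y := sigmaCore M with hY
  have hA := c.setup.elem
  haveI : IsMulCommutative A := hA.1
  have hAt := c.setup.card
  obtain ⟨y₁, ⟨hy₁, hy₁c⟩, hy₁Ψ⟩ := SetLike.not_le_iff_exists.1 c.w_fix
  rw [← hY] at hy₁
  obtain ⟨a, ha, haw, hafix⟩ : ∃ a ∈ A, a ∉ Subgroup.zpowers w ∧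
      ¬ Y ⊓ Subgroup.centralizer ({a} : Set G) ≤ ⁅Y, Y⁆ := by
    by_contra hno
    push Not at hno
    haveI hnil : Group.IsNilpotent ↥Y := TauTwo.sigmaCore_nilpotent c.setup
    have hco : (Nat.card A).Coprime (Nat.card Y) := by
      rw [hAt]
      exact ((Nat.Prime.coprime_iff_not_dvd ht.out).2 c.not_dvd_core).pow_left 2
    have hle : Y ≤ (Y ⊓ Subgroup.centralizer ({w} : Set G)) ⊔ ⁅Y, Y⁆ := by
      refine (Solv.gen_eq A Y hA.1 c.A_norm hco).ge.trans (iSup₂_le fun B hB => ?_)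
      obtain ⟨b, hbB, hb1⟩ : ∃ b ∈ B, b ≠ 1 := B.bot_or_exists_ne_one.resolve_left fun h0 => by
        have hle := Fusion.card_le_mul_of_cycQuot hA hB
        rw [h0, Subgroup.card_bot, mul_one, hAt, pow_two] at hle
        have : t * 2 ≤ t * t := Nat.mul_le_mul_left t ht.out.two_le
        have := ht.out.two_le
        omega
      have hBb : Y ⊓ Subgroup.centralizer (B : Set G) ≤ Y ⊓ Subgroup.centralizer ({b} : Set G) :=
        inf_le_inf_left _ fun g hg =>
          Subgroup.mem_centralizer_singleton_iff.2 (Subgroup.mem_centralizer_iff.1 hg b hbB).symm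
      refine hBb.trans ?_
      by_cases hbw : b ∈ Subgroup.zpowers w
      · refine le_trans (inf_le_inf_left _ ?_) le_sup_left
        obtain ⟨i, rfl⟩ := (isOfFinOrder_of_finite w).mem_powers_iff_mem_zpowers.2 hbw
        rw [centralizer_pow_eq]
        rw [c.w_order]
        refine ((Nat.Prime.coprime_iff_not_dvd ht.out).2 fun hd => hb1 ?_).symm
        obtain ⟨j, rfl⟩ := hd
        show w ^ (t * j) = 1
        rw [pow_mul, ← c.w_order, pow_orderOf_eq_one, one_pow]
      · exact le_trans (hno b (hB.1 hbB) hbw) le_sup_right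
    refine hnc ?_
    have htop : (Subgroup.centralizer ({w} : Set G)).subgroupOf Y ⊔ commutator ↥Y = ⊤ := by
      refine Subgroup.map_injective Y.subtype_injective ?_
      rw [Subgroup.map_sup, Subgroup.subgroupOf_map_subtype, Y.map_subtype_commutator, ← MonoidHom.range_eq_map,
        Subgroup.range_subtype, inf_comm]
      exact le_antisymm (sup_le inf_le_left (Subgroup.commutator_le_self Y)) hle
    exact Subgroup.subgroupOf_eq_top.1 (eq_top_of_sup_commutator htop)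
  obtain ⟨y₂, ⟨hy₂, hy₂c⟩, hy₂Ψ⟩ := SetLike.not_le_iff_exists.1 hafix
  obtain ⟨φ₁, hφ₁, hf₁⟩ := c.exists_fixed c.w_mem hy₁ (Subgroup.mem_centralizer_singleton_iff.1 hy₁c).symm hy₁Ψ
  obtain ⟨φ₂, hφ₂, hf₂⟩ := c.exists_fixed ha hy₂ (Subgroup.mem_centralizer_singleton_iff.1 hy₂c).symm hy₂Ψ
  have ha1 : a ≠ 1 := fun h => haw (h ▸ one_mem _)
  have hao : orderOf a = t := orderOf_eq_prime (hA.2 a ha) ha1
  have hgenA : ∀ {b d : G}, b ∈ A → d ∈ A → orderOf b = t → d ∉ Subgroup.zpowers b →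
      Subgroup.zpowers b ⊔ Subgroup.zpowers d = A := fun {b d} hb hd hbo hdb => by
    have hd1 : d ≠ 1 := fun h => hdb (h ▸ one_mem _)
    have hdo : orderOf d = t := orderOf_eq_prime (hA.2 d hd) hd1
    exact RankTwo.line_sup hAt (Subgroup.zpowers_le.2 hb) (Subgroup.zpowers_le.2 hd) (by rw [Nat.card_zpowers, hbo])
      (by rw [Nat.card_zpowers, hdo]) fun e => hdb (e ▸ Subgroup.mem_zpowers d)
  have hAgen : Subgroup.zpowers w ⊔ Subgroup.zpowers a = A := hgenA c.w_mem ha c.w_order haw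
  have key : ∀ b ∈ A, b ∈ fixSub Y (φ₁ * φ₂) → b ∈ fixSub Y φ₁ ∧ b ∈ fixSub Y φ₂ := by
    intro b hb hbf
    have hbn := c.A_norm hb
    set g : ↥(Subgroup.normalizer (Y : Set G)) := ⟨b, hbn⟩
    have hcomm : ∀ d (hd : d ∈ A), homAct Y ⟨d, c.A_norm hd⟩ φ₁ = φ₁ →
        homAct Y ⟨d, c.A_norm hd⟩ (homAct Y g φ₁) = homAct Y g φ₁ := fun d hd e => by
      show (homAct Y ⟨d, c.A_norm hd⟩ * homAct Y g) φ₁ = homAct Y g φ₁
      rw [← map_mul, show (⟨d, c.A_norm hd⟩ : ↥(Subgroup.normalizer (Y : Set G))) * g = g * ⟨d, c.A_norm hd⟩ from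
        Subtype.ext (congrArg Subtype.val (mul_comm' (⟨d, hd⟩ : A) ⟨b, hb⟩) :), map_mul]
      show homAct Y g (homAct Y ⟨d, c.A_norm hd⟩ φ₁) = _
      rw [e]
    have hcomm₂ : ∀ d (hd : d ∈ A), homAct Y ⟨d, c.A_norm hd⟩ φ₂ = φ₂ →
        homAct Y ⟨d, c.A_norm hd⟩ (homAct Y g φ₂) = homAct Y g φ₂ := fun d hd e => by
      show (homAct Y ⟨d, c.A_norm hd⟩ * homAct Y g) φ₂ = homAct Y g φ₂
      rw [← map_mul, show (⟨d, c.A_norm hd⟩ : ↥(Subgroup.normalizer (Y : Set G))) * g = g * ⟨d, c.A_norm hd⟩ from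
        Subtype.ext (congrArg Subtype.val (mul_comm' (⟨d, hd⟩ : A) ⟨b, hb⟩) :), map_mul]
      show homAct Y g (homAct Y ⟨d, c.A_norm hd⟩ φ₂) = _
      rw [e]
    have e0 : homAct Y g (φ₁ * φ₂) = φ₁ * φ₂ := hbf.2
    rw [map_mul] at e0
    obtain ⟨X, hX1, hX2⟩ : ∃ X : ↥Y →* ℂˣ, X * φ₁ = homAct Y g φ₁ ∧ X * homAct Y g φ₂ = φ₂ := by
      refine ⟨homAct Y g φ₁ * φ₁⁻¹, MonoidHom.ext fun y => ?_, MonoidHom.ext fun y => ?_⟩
      · simp only [MonoidHom.mul_apply, MonoidHom.inv_apply, inv_mul_cancel_right]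
      · have h1 := DFunLike.congr_fun e0 y
        simp only [MonoidHom.mul_apply, MonoidHom.inv_apply] at h1 ⊢
        rw [mul_right_comm, h1, mul_inv_cancel_comm]
    have hX : X = 1 := by
      refine c.fix_eq_one ?_
      rw [← hAgen, sup_le_iff, Subgroup.zpowers_le, Subgroup.zpowers_le]
      refine ⟨⟨c.A_norm c.w_mem, ?_⟩, c.A_norm ha, ?_⟩
      · have h2 := congrArg (homAct Y ⟨w, c.A_norm c.w_mem⟩) hX1
        rw [map_mul, hcomm w c.w_mem hf₁.2, hf₁.2, ← hX1] at h2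
        exact mul_right_cancel h2
      · have h2 := congrArg (homAct Y ⟨a, c.A_norm ha⟩) hX2
        rw [map_mul, hcomm₂ a ha hf₂.2, hf₂.2] at h2
        exact mul_right_cancel (h2.trans hX2.symm)
    have e1 : homAct Y g φ₁ = φ₁ := MonoidHom.ext fun y => by
      have h2 := DFunLike.congr_fun hX1 y
      rw [MonoidHom.mul_apply, DFunLike.congr_fun hX y, MonoidHom.one_apply] at h2
      exact h2.symm.trans (one_mul _)
    have e2 : homAct Y g φ₂ = φ₂ := MonoidHom.ext fun y => by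
      have h2 := DFunLike.congr_fun hX2 y
      rw [MonoidHom.mul_apply, DFunLike.congr_fun hX y, MonoidHom.one_apply] at h2
      exact (one_mul _).symm.trans h2
    exact ⟨⟨hbn, e1⟩, hbn, e2⟩
  have hbot : A ⊓ fixSub Y (φ₁ * φ₂) = ⊥ := by
    rw [eq_bot_iff]
    intro b hb
    obtain ⟨hb₁, hb₂⟩ := key b hb.1 hb.2
    have h1 : b ∈ Subgroup.zpowers w := by
      by_contra hn
      refine hφ₁ (c.fix_eq_one ?_)
      rw [← hgenA c.w_mem hb.1 c.w_order hn, sup_le_iff, Subgroup.zpowers_le, Subgroup.zpowers_le]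
      exact ⟨hf₁, hb₁⟩
    have h2 : b ∈ Subgroup.zpowers a := by
      by_contra hn
      refine hφ₂ (c.fix_eq_one ?_)
      rw [← hgenA ha hb.1 hao hn, sup_le_iff, Subgroup.zpowers_le, Subgroup.zpowers_le]
      exact ⟨hf₂, hb₂⟩
    rw [Subgroup.mem_bot]
    by_contra hb1
    refine haw ?_
    have h3 : Subgroup.zpowers b = Subgroup.zpowers a := Subgroup.eq_of_le_of_card_ge (Subgroup.zpowers_le.2 h2) (by
      rw [Nat.card_zpowers, Nat.card_zpowers, hao, orderOf_eq_prime (hA.2 b hb.1) hb1])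
    exact (h3.symm.le.trans (Subgroup.zpowers_le.2 h1)) (Subgroup.mem_zpowers a)
  refine ⟨φ₁ * φ₂, fun h => c.setup.ne_bot (le_bot_iff.1 (hbot ▸ le_inf le_rfl ?_)), hbot⟩
  rw [h]
  exact fun b hb => ⟨c.A_norm hb, map_one _⟩

section Coset

variable [Fintype L] {S : Set (L → ℂ)} {χ : L → ℂ} {ε : ℂ} {μ : (L → ℂ) → (G → ℂ)}

open Classical in
/-- The averages over the nontrivial cosets of the derived subgroup are equal. -/
theorem coset_const (dd : Data M L E M₀ w S χ ε μ)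
    (hnc : ¬ sigmaCore M ≤ Subgroup.centralizer ({w} : Set G)) (P : G → ℤ)
    (hP : ∀ y ∈ (sigmaCore M : Set G) \ {1},
      (Nat.card (supportR M y) : ℂ)⁻¹ * ∑ u : G with u ∈ supportR M y, ε * μ χ (y * u) = (P y : ℂ))
    (hP1 : P 1 = 0) :
    ∃ a : ℤ, ∀ y₀ ∈ sigmaCore M, y₀ ∉ ⁅sigmaCore M, sigmaCore M⁆ →
      ∑ u : G with u ∈ ⁅sigmaCore M, sigmaCore M⁆, P (y₀ * u) =
        (Nat.card ↥⁅sigmaCore M, sigmaCore M⁆ : ℤ) * a := by
  obtain ⟨S₁, d, hS₁, hd1, hbig⟩ := dd.big hnc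
  have k := dd.coh
  set Y := sigmaCore M with hY
  obtain ⟨θ₀, hθ₀, hθ₀A⟩ := c.exists_regular hnc
  have hYM : Y ≤ M := Subgroup.map_subtype_le _
  have hYn : M ≤ Subgroup.normalizer (Y : Set G) := Sig.le_normalizer_piCoreOf
  set K : Subgroup M := Y.subgroupOf M with hK
  haveI hKn : K.Normal := Subgroup.normal_subgroupOf_of_le_normalizer hYn
  haveI : Fintype M := Fintype.ofFinite M
  haveI : Fintype K := Fintype.ofFinite K
  haveI : Fintype Y := Fintype.ofFinite Y
  haveI : Finite (↥Y →* ℂˣ) := Nat.finite_of_card_ne_zero (by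
    rw [card_hom_units]; exact Subgroup.index_ne_zero_of_finite)
  haveI : Fintype (↥Y →* ℂˣ) := Fintype.ofFinite _
  set B₁ : Set G := (Y : Set G) \ {1} with hB₁
  have hD := c.dade_M
  let e2 : K ≃* Y := Subgroup.subgroupOfEquivOfLe hYM
  let lin : (↥Y →* ℂˣ) → (↥K → ℂ) := fun l x => (l (e2 x) : ℂ)
  have hlin : ∀ l, IsIrrCharacter K (lin l) := fun l => isIrrCharacter_linear (l.comp e2.toMonoidHom)
  let ind : (↥Y →* ℂˣ) → (↥M → ℂ) := fun l => indFun K (lin l)
  have hindc : ∀ l, IsCharacter M (ind l) := fun l => isCharacter_indFun K (irr_isCharacter (hlin l))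
  have hoff : ∀ l (x : M), x ∉ K → ind l x = 0 := by
    intro l x hx
    show indFun K (lin l) x = 0
    rw [indFun, Finset.sum_eq_zero, mul_zero]
    intro y _
    refine Function.extend_apply' _ _ _ ?_
    rintro ⟨z, hz⟩
    refine hx ?_
    have h := hKn.conj_mem _ z.2 y
    rw [show (z : M) = y⁻¹ * x * y from hz, show y * (y⁻¹ * x * y) * y⁻¹ = x by group] at h
    exact h
  have hone : ∀ l, ind l 1 = (K.index : ℂ) := fun l => by
    show indFun K (lin l) 1 = _
    rw [indFun_one]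
    simp [lin]
  have hαA : ∀ l l' (x : M), (x : G) ∉ B₁ → (ind l - ind l') x = 0 := fun l l' x hx => by
    by_cases hx1 : x = 1
    · rw [Pi.sub_apply, hx1, hone, hone, sub_self]
    · have hxK : x ∉ K := fun h => hx ⟨Subgroup.mem_subgroupOf.1 h, fun e => hx1 (Subtype.ext e)⟩
      rw [Pi.sub_apply, hoff _ _ hxK, hoff _ _ hxK, sub_self]
  have hgen : ∀ l l', IsGeneralizedCharacter M (ind l - ind l') := fun l l' => ⟨_, _, hindc l, hindc l', rfl⟩
  set η : G → ℂ := ε • μ χ with hη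
  have hηcl : IsClassFunction G η := fun g x => by
    simp only [hη, Pi.smul_apply, isClassFunction_character (irr_isCharacter (k.irrμ χ k.mem)) g x]
  have hηgen : IsGeneralizedCharacter G η := by
    have hchar := irr_isCharacter (k.irrμ χ k.mem)
    rw [hη]
    rcases k.sign with h | h <;> rw [h]
    · exact ⟨μ χ, 0, hchar, isCharacter_zero, by simp⟩
    · exact ⟨0, μ χ, isCharacter_zero, hchar, by simp⟩
  set PM : M → ℂ := fun x => if (x : G) ∈ B₁ then (P (x : G) : ℂ) else 0 with hPM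
  have hPMcl : IsClassFunction M PM := fun x g => by
    have hiff : ((g * x * g⁻¹ : M) : G) ∈ B₁ ↔ (x : G) ∈ B₁ := by
      refine ⟨fun h => ?_, fun h => hD.conj_mem _ g.2 _ h⟩
      have h2 := hD.conj_mem _ (g⁻¹).2 _ h
      rwa [show ((g⁻¹ : M) : G) * ((g * x * g⁻¹ : M) : G) * ((g⁻¹ : M) : G)⁻¹ = x by push_cast; group] at h2
    simp only [hPM, hiff]
    split_ifs with h
    · rw [← hP _ (hiff.2 h), ← hP _ h]
      have h2 := coset_avg_conj hD h g.2 hηcl
      simpa only [hη, Pi.smul_apply, smul_eq_mul, Subgroup.coe_mul, Subgroup.coe_inv] using h2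
    · rfl
  set T : (↥Y →* ℂˣ) → ℂ := fun l => ∑ y : Y, (l y : ℂ) * (P (y : G) : ℂ) with hT
  have hdade : ∀ l l', classInner (dadeIsometry B₁ M (supportR M) (ind l - ind l')) η =
      (Nat.card Y : ℂ)⁻¹ * (T l - T l') := by
    intro l l'
    have hind : ∀ l, classInner (ind l) PM = (Nat.card Y : ℂ)⁻¹ * T l := fun l => by
      show classInner (indFun K (lin l)) PM = _
      rw [frobenius K (lin l) hPMcl, classInner, Solv.card_subgroupOf hYM, hT]
      refine congrArg _ (Fintype.sum_equiv e2.toEquiv _ _ fun x => ?_)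
      have hx : ((x : M) : G) = ((e2 x : Y) : G) := rfl
      show (l (e2 x) : ℂ) * conj (PM (x : M)) = (l (e2 x) : ℂ) * (P ((e2 x : Y) : G) : ℂ)
      congr 1
      simp only [hPM]
      split_ifs with h
      · rw [map_intCast, ← hx]
      · have h1 : ((x : M) : G) = 1 := by
          by_contra hne
          exact h ⟨Subgroup.mem_subgroupOf.1 x.2, hne⟩
        rw [map_zero, ← hx, h1, hP1, Int.cast_zero]
    rw [classInner_dade hD (isClassFunction_genChar (hgen l l')) (hαA l l') hηcl (ψ := PM) fun a ha => ?_,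
      classInner_sub_left, hind, hind, mul_sub]
    simp only [hPM]
    rw [if_pos ha, ← hP _ ha]
    rw [finsum_mem_eq_finite_toFinset_sum _ (Set.toFinite _)]
    simp only [hη, Pi.smul_apply, smul_eq_mul]
    refine congrArg _ (Finset.sum_congr ?_ fun _ _ => rfl)
    ext; simp
  -- the norms
  have hnorm : ∀ l : ↥Y →* ℂˣ,
      ∃ N : ℕ, classInner (ind l) (ind l) = (N : ℂ) ∧ N ≤ Nat.card ↥(E ⊓ fixSub Y l) := by
    intro l
    obtain ⟨N, hN⟩ := classInner_natCast (hindc l) (hindc l)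
    refine ⟨N, hN, ?_⟩
    set Fx : Finset M := Finset.univ.filter fun g : M => (g : G) ∈ fixSub Y l with hFx
    have hval : classInner (ind l) (ind l) = (Nat.card Y : ℂ)⁻¹ * (Fx.card : ℂ) := by
      show classInner (indFun K (lin l)) (indFun K (lin l)) = _
      rw [frobenius K (lin l) (isClassFunction_indFun K _)]
      have hres : (fun x : K => indFun K (lin l) x) =
          (Nat.card K : ℂ)⁻¹ • ∑ g : M, fun x : K => lin l (MulAut.conjNormal g x) := by
        funext x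
        rw [indFun_restrict_normal (lin l) x, Pi.smul_apply, Finset.sum_apply, smul_eq_mul]
      rw [hres, classInner_smul_right, classInner_sum_right, map_inv₀, Complex.conj_natCast,
        Solv.card_subgroupOf hYM, hFx, Finset.card_filter, Nat.cast_sum]
      refine congrArg _ (Finset.sum_congr rfl fun g _ => ?_)
      have hirr : IsIrrCharacter K fun x : K => lin l (MulAut.conjNormal g x) :=
        isIrrCharacter_linear ((l.comp e2.toMonoidHom).comp (MulAut.conjNormal g).toMonoidHom)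
      rw [irr_orth (hlin l) hirr]
      have hiff : ((g : G) ∈ fixSub Y l) ↔ (lin l = fun x : K => lin l (MulAut.conjNormal g x)) := by
        rw [mem_fixSub (hYn g.2)]
        constructor
        · intro h
          funext x
          show (l (e2 x) : ℂ) = (l (e2 (MulAut.conjNormal g x)) : ℂ)
          rw [show e2 (MulAut.conjNormal g x) = Y.normalizerMonoidHom ⟨g, hYn g.2⟩ (e2 x) from Subtype.ext rfl, h]
        · intro h y
          have h1 := congrFun h (e2.symm y)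
          have h2 : e2 (MulAut.conjNormal g (e2.symm y)) = Y.normalizerMonoidHom ⟨g, hYn g.2⟩ y := Subtype.ext rfl
          simp only [lin, MulEquiv.apply_symm_apply, h2] at h1
          exact (Units.ext h1).symm
      by_cases hg : (g : G) ∈ fixSub Y l
      · rw [if_pos (hiff.1 hg), if_pos hg, Nat.cast_one]
      · rw [if_neg fun e => hg (hiff.2 e), if_neg hg, Nat.cast_zero]
    have hle : Fx.card ≤ Nat.card Y * Nat.card ↥(E ⊓ fixSub Y l) := by
      choose eF heF yF hyF hef using fun g : M => c.complM.2.2.2 g g.2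
      have hmem : ∀ g ∈ Fx, eF g ∈ E ⊓ fixSub Y l := fun g hg => by
        refine ⟨heF g, ?_⟩
        have h1 : (g : G) ∈ fixSub Y l := (Finset.mem_filter.1 hg).2
        rw [hef g] at h1
        have h2 := (fixSub Y l).mul_mem h1 ((fixSub Y l).inv_mem (le_fixSub Y l (hyF g)))
        rwa [mul_inv_cancel_right] at h2
      rw [← Nat.card_prod, Nat.card_eq_fintype_card, ← Finset.card_univ]
      refine Finset.card_le_card_of_injOn
        (fun g => if hg : g ∈ Fx then ((⟨yF g, hyF g⟩ : Y), (⟨eF g, hmem g hg⟩ : ↥(E ⊓ fixSub Y l))) else (1, 1))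
        (fun _ _ => Finset.mem_coe.2 (Finset.mem_univ _)) fun p hp q hq e => ?_
      simp only [dif_pos (Finset.mem_coe.1 hp), dif_pos (Finset.mem_coe.1 hq), Prod.mk.injEq, Subtype.mk.injEq] at e
      exact Subtype.ext ((hef p).trans (by rw [e.1, e.2, ← hef q]))
    have h1 : (N : ℂ) * (Nat.card Y : ℂ) = (Fx.card : ℂ) := by
      rw [← hN, hval, mul_comm, ← mul_assoc, mul_inv_cancel₀ (Nat.cast_ne_zero.2 Nat.card_pos.ne'), one_mul]
    have h2 : N * Nat.card Y = Fx.card := by exact_mod_cast h1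
    rw [← h2, mul_comm (Nat.card Y)] at hle
    exact Nat.le_of_mul_le_mul_right hle Nat.card_pos
  have hidx : ∀ l : ↥Y →* ℂˣ, l ≠ 1 → Nat.card ↥(E ⊓ fixSub Y l) * t ≤ Nat.card E ∧
      (A ⊓ fixSub Y l = ⊥ → Nat.card ↥(E ⊓ fixSub Y l) * t ^ 2 ≤ Nat.card E) := by
    intro l hl
    set C' := E ⊓ fixSub Y l with hC'
    have hmul : Nat.card C' * C'.relIndex E = Nat.card E := by
      rw [← Solv.card_subgroupOf (inf_le_left : C' ≤ E)]
      exact Subgroup.card_mul_index _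
    have hAE : C'.relIndex A ≤ C'.relIndex E :=
      Subgroup.relIndex_le_of_le_right c.A_le Subgroup.index_ne_zero_of_finite
    have heq : C' ⊓ A = A ⊓ fixSub Y l := by
      rw [hC', inf_right_comm, inf_eq_right.2 c.A_le]
    have hd : C'.relIndex A ∣ t ^ 2 := c.setup.card ▸ Subgroup.relIndex_dvd_card C' A
    refine ⟨?_, fun hb => ?_⟩
    · obtain ⟨j, -, hj⟩ := (Nat.dvd_prime_pow ht.out).1 hd
      have hj0 : j ≠ 0 := fun h => hl (c.fix_eq_one (by
        rw [h, pow_zero, Subgroup.relIndex_eq_one] at hj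
        exact hj.trans inf_le_right))
      have ht1 : t ≤ C'.relIndex A := hj ▸ Nat.le_self_pow hj0 t
      rw [← hmul]
      exact Nat.mul_le_mul_left _ (ht1.trans hAE)
    · have h2 : C'.relIndex A = t ^ 2 := by
        rw [← Subgroup.inf_relIndex_right, heq, hb, Subgroup.relIndex_bot_left, c.setup.card]
      rw [← hmul, ← h2]
      exact Nat.mul_le_mul_left _ hAE
  -- the coefficients agree
  set kk := ∑ ψ ∈ S₁, d ψ ^ 2 with hkk
  have hmemS : ∀ ψ ∈ S₁, ψ ∈ S := fun ψ hψ => hS₁ (Finset.mem_coe.2 hψ)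
  have hTeq : ∀ l : ↥Y →* ℂˣ, l ≠ 1 → T l = T θ₀ := by
    intro l hl
    set D := dadeIsometry B₁ M (supportR M) (ind l - ind θ₀) with hDdef
    have hDgen : IsGeneralizedCharacter G D := isGenChar_dadeIsometry hD (hgen l θ₀) (hαA l θ₀)
    obtain ⟨x₀, hx₀⟩ := classInner_gen_int hDgen
      (⟨μ χ, 0, irr_isCharacter (k.irrμ χ k.mem), isCharacter_zero, (sub_zero _).symm⟩ : IsGeneralizedCharacter G (μ χ))
    have hcoef : ∀ ψ ∈ S₁, classInner D (μ ψ) = (d ψ : ℂ) * (x₀ : ℂ) := by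
      intro ψ hψ
      rw [← hx₀, classInner, classInner, ← mul_assoc, mul_comm (d ψ : ℂ), mul_assoc, Finset.mul_sum (a := (d ψ : ℂ))]
      refine congrArg _ (Finset.sum_congr rfl fun g _ => ?_)
      by_cases hg : g ∈ dadeSet B₁ (supportR M)
      · rw [k.off (hmemS ψ hψ) (hd1 ψ hψ) fun h => c.dade_disjoint h hg, map_mul, Complex.conj_natCast]
        ring
      · rw [hDdef, dadeIsometry_eq_zero hD hg]
        ring
    have hx : x₀ = 0 := by
      by_contra hne
      set D' : G → ℂ := D - ∑ ψ ∈ S₁, ((d ψ : ℂ) * (x₀ : ℂ)) • μ ψ with hD'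
      have hDμ : ∀ ψ ∈ S₁, classInner D' (μ ψ) = 0 := by
        intro ψ hψ
        rw [hD', classInner_sub_left, classInner_sum_left, Finset.sum_eq_single ψ, classInner_smul_left,
          irr_self (k.irrμ ψ (hmemS ψ hψ)), mul_one, hcoef ψ hψ, sub_self]
        · intro φ hφ hne'
          rw [classInner_smul_left, irr_orth (k.irrμ φ (hmemS φ hφ)) (k.irrμ ψ (hmemS ψ hψ)),
            if_neg fun e => hne' (k.inj φ (hmemS φ hφ) ψ (hmemS ψ hψ) e), mul_zero]
        · exact fun h => absurd hψ h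
      have hz : classInner D' (∑ ψ ∈ S₁, ((d ψ : ℂ) * (x₀ : ℂ)) • μ ψ) = 0 := by
        rw [classInner_sum_right, Finset.sum_eq_zero]
        intro ψ hψ
        rw [classInner_smul_right, hDμ ψ hψ, mul_zero]
      have h1 : classInner D' D' = classInner D D - (x₀ : ℂ) ^ 2 * (kk : ℂ) := by
        have h' : classInner D' D' = classInner D' D - classInner D' (∑ ψ ∈ S₁, ((d ψ : ℂ) * (x₀ : ℂ)) • μ ψ) := by
          rw [← classInner_sub_right]
        rw [h', hz, sub_zero, hD', classInner_sub_left, classInner_sum_left, hkk]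
        push_cast
        rw [Finset.mul_sum]
        refine congrArg _ (Finset.sum_congr rfl fun ψ hψ => ?_)
        rw [classInner_smul_left, ← classInner_symm, hcoef ψ hψ, map_mul, Complex.conj_natCast, map_intCast]
        ring
      have h2 : classInner D D = classInner (ind l - ind θ₀) (ind l - ind θ₀) :=
        classInner_dade_dade hD (isClassFunction_genChar (hgen l θ₀)) (hαA l θ₀)
          (isClassFunction_genChar (hgen l θ₀))
      obtain ⟨N₁, hN₁, hN₁le⟩ := hnorm l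
      obtain ⟨N₀, hN₀, hN₀le⟩ := hnorm θ₀
      obtain ⟨N₂, hN₂⟩ := classInner_natCast (hindc l) (hindc θ₀)
      obtain ⟨N₃, hN₃⟩ := classInner_natCast (hindc θ₀) (hindc l)
      rw [classInner_sub_left, classInner_sub_right, classInner_sub_right, hN₁, hN₀, hN₂, hN₃] at h2
      have h3 : (0 : ℝ) ≤ (classInner D' D').re := by
        rw [classInner_self_re, Complex.ofReal_re]
        positivity
      rw [h1, h2, show ((N₁ : ℂ) - (N₂ : ℂ) - ((N₃ : ℂ) - (N₀ : ℂ)) - (x₀ : ℂ) ^ 2 * (kk : ℂ)) =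
        (((N₁ : ℝ) - N₂ - ((N₃ : ℝ) - N₀) - (x₀ : ℝ) ^ 2 * kk : ℝ) : ℂ) by push_cast; ring, Complex.ofReal_re] at h3
      have hx1 : (1 : ℝ) ≤ (x₀ : ℝ) ^ 2 := by
        have : (1 : ℤ) ≤ x₀ ^ 2 := by
          rcases lt_or_gt_of_ne hne with h | h <;> nlinarith
        exact_mod_cast this
      have h4 : kk ≤ N₁ + N₀ := by
        have : (kk : ℝ) ≤ (N₁ : ℝ) + N₀ := by
          have h5 : (kk : ℝ) ≤ (x₀ : ℝ) ^ 2 * kk := le_mul_of_one_le_left (Nat.cast_nonneg _) hx1
          linarith [(Nat.cast_nonneg N₂ : (0 : ℝ) ≤ N₂), (Nat.cast_nonneg N₃ : (0 : ℝ) ≤ N₃)]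
        exact_mod_cast this
      have hb1 := (hidx l hl).1
      have hb0 := (hidx θ₀ hθ₀).2 hθ₀A
      have hte := c.bound
      have he3 := c.three_le
      have hE2 := c.sq_le_E
      set e := coreIndex L
      have h6 : t ^ 2 * kk ≤ Nat.card E * (t + 1) := by
        calc t ^ 2 * kk ≤ t ^ 2 * (N₁ + N₀) := Nat.mul_le_mul_left _ h4
          _ = N₁ * t * t + N₀ * t ^ 2 := by ring
          _ ≤ Nat.card E * t + Nat.card E := by
            gcongr
            · exact (Nat.mul_le_mul_right t hN₁le).trans hb1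
            · exact (Nat.mul_le_mul_right _ hN₀le).trans hb0
          _ = _ := by ring
      have h7 : 2 * (t ^ 2 * (e * kk)) ≤ Nat.card E * ((t + 1) * (t + 1)) := by
        calc 2 * (t ^ 2 * (e * kk)) = (2 * e) * (t ^ 2 * kk) := by ring
          _ ≤ (t + 1) * (Nat.card E * (t + 1)) := Nat.mul_le_mul hte h6
          _ = _ := by ring
      have h8 := Nat.mul_le_mul_left (2 * t ^ 2) hbig
      have ht5 : 5 ≤ t := by omega
      have hexp : (t + 1) * (t + 1) + 3 ≤ 2 * t ^ 2 := by nlinarith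
      have := Nat.mul_le_mul_left (Nat.card E) hexp
      nlinarith
    have h0 := hdade l θ₀
    rw [← hDdef, hη, classInner_smul_right, hx₀, hx, Int.cast_zero, mul_zero] at h0
    exact sub_eq_zero.1 ((mul_eq_zero.1 h0.symm).resolve_left (inv_ne_zero (Nat.cast_ne_zero.2 Nat.card_pos.ne')))
  -- the integer
  obtain ⟨a, ha⟩ := classInner_gen_int
    (isGenChar_dadeIsometry hD (hgen 1 θ₀) (hαA 1 θ₀)) hηgen
  rw [hdade 1 θ₀] at ha
  refine ⟨a, fun y₀ hy₀ hy₀Ψ => ?_⟩
  set Ψ : Subgroup G := ⁅Y, Y⁆ with hΨ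
  have hΨY : Ψ ≤ Y := Subgroup.commutator_le_self Y
  have hmap : (commutator ↥Y).map Y.subtype = Ψ := Y.map_subtype_commutator
  have hmemΨ : ∀ x : Y, x ∈ commutator ↥Y ↔ (x : G) ∈ Ψ := fun x => by
    rw [← hmap]
    exact ⟨fun h => ⟨x, h, rfl⟩, fun ⟨z, hz, e⟩ => Subtype.ext e ▸ hz⟩
  set z₀ : Y := ⟨y₀, hy₀⟩ with hz₀
  have hsum : ((commutator ↥Y).index : ℂ) * ((∑ u : G with u ∈ Ψ, P (y₀ * u) : ℤ) : ℂ) = T 1 - T θ₀ := by
    have h1 : ∑ l : ↥Y →* ℂˣ, (l z₀⁻¹ : ℂ) * T l = T 1 - T θ₀ := by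
      rw [← Finset.add_sum_erase _ _ (Finset.mem_univ (1 : ↥Y →* ℂˣ)), MonoidHom.one_apply, Units.val_one, one_mul,
        Finset.sum_congr rfl fun l hl => by rw [hTeq l (Finset.ne_of_mem_erase hl)], ← Finset.sum_mul,
        Finset.sum_erase_eq_sub (Finset.mem_univ (1 : ↥Y →* ℂˣ)), sum_hom_eq,
        if_neg fun h => hy₀Ψ ((hmemΨ z₀).1 (by simpa using (commutator ↥Y).inv_mem h))]
      simp
      ring
    rw [← h1]
    simp only [hT, Finset.mul_sum]
    rw [Finset.sum_comm]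
    have h2 : ∀ y : Y, ∑ l : ↥Y →* ℂˣ, (l z₀⁻¹ : ℂ) * ((l y : ℂ) * (P (y : G) : ℂ)) =
        (if z₀⁻¹ * y ∈ commutator ↥Y then ((commutator ↥Y).index : ℂ) else 0) * (P (y : G) : ℂ) := fun y => by
      rw [← sum_hom_eq, Finset.sum_mul]
      exact Finset.sum_congr rfl fun l _ => by rw [map_mul, Units.val_mul]; ring
    rw [Finset.sum_congr rfl fun y _ => h2 y]
    simp only [ite_mul, zero_mul, ← Finset.sum_filter]
    rw [Int.cast_sum, Finset.mul_sum]
    refine (Finset.sum_bij (fun y _ => (z₀⁻¹ * y : Y).1) (fun y hy => ?_) (fun y _ y' _ e => ?_)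
      (fun u hu => ?_) (fun y hy => ?_)).symm
    · exact Finset.mem_filter.2 ⟨Finset.mem_univ _, (hmemΨ _).1 (Finset.mem_filter.1 hy).2⟩
    · exact mul_left_cancel (Subtype.ext e)
    · have hu' := (Finset.mem_filter.1 hu).2
      exact ⟨z₀ * ⟨u, hΨY hu'⟩, Finset.mem_filter.2 ⟨Finset.mem_univ _,
        (hmemΨ _).2 (by rw [inv_mul_cancel_left]; exact hu')⟩, by rw [inv_mul_cancel_left]⟩
    · have e : y₀ * ((z₀⁻¹ * y : Y) : G) = y := by rw [hz₀]; simp
      rw [e]
  have hcard : (commutator ↥Y).index * Nat.card Ψ = Nat.card Y := by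
    rw [← hmap, Subgroup.card_map_of_injective Y.subtype_injective]
    exact Subgroup.index_mul_card _
  have hfin : ((∑ u : G with u ∈ Ψ, P (y₀ * u) : ℤ) : ℂ) = (((Nat.card Ψ : ℤ) * a : ℤ) : ℂ) := by
    refine mul_left_cancel₀ (Nat.cast_ne_zero.2 (Subgroup.index_ne_zero_of_finite (H := commutator ↥Y))) ?_
    rw [hsum, Int.cast_mul, Int.cast_natCast, ← ha, ← mul_assoc, ← mul_assoc, ← Nat.cast_mul, hcard,
      mul_inv_cancel₀ (Nat.cast_ne_zero.2 Nat.card_pos.ne'), one_mul]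
  exact_mod_cast hfin

end Coset

end Config

end Cfsg.Agent.OddChar
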