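import Cfsg.Agent.Lib.OddChar.TauTwoCoh
import Cfsg.Agent.Lib.OddChar.KappaCaseNilpotent
import Cfsg.Agent.Lib.OddChar.KappaCaseSplit

/-!
A maximal subgroup without `κ`-primes has no `τ₂`-primes.
-/

set_option autoImplicit false
set_option linter.style.haveILetI false

open Cfsg

namespace Cfsg.Agent.OddChar

universe u

variable {G : Type u} [Group G] [Finite G]

/-- In a minimal simple group of odd order, `κ(M) = ∅` implies `τ₂(M) = ∅`. -/
theorem tau2_empty (hG : IsMinSimpleOddOrder G) {M : Subgroup G} (hM : IsCoatom M) (hκ : kappa M = ∅) :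
    tau2 M = ∅ := by
  classical
  haveI : Fintype G := Fintype.ofFinite G
  by_contra hne
  obtain ⟨s, hs⟩ := Set.nonempty_iff_ne_empty.2 hne
  have hex : ∃ t, ∃ N : Subgroup G, IsCoatom N ∧ kappa N = ∅ ∧ t ∈ tau2 N := ⟨s, M, hM, hκ, hs⟩
  obtain ⟨N, hN, hκN, htN⟩ := Nat.find_spec hex
  haveI := Fact.mk htN.1
  have hmin : ∀ N' : Subgroup G, IsCoatom N' → kappa N' = ∅ → ∀ q ∈ tau2 N', Nat.find hex ≤ q :=
    fun N' hN' hκ' q hq => Nat.find_min' hex ⟨N', hN', hκ', hq⟩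
  by_cases hL : ∃ L₀ : Subgroup G, IsCoatom L₀ ∧ Nat.find hex ∈ sigma L₀ ∧ (kappa L₀).Nonempty
  · obtain ⟨L₀, hL₀, htL₀, hκL⟩ := hL
    obtain ⟨g, A, E, S, w, d⟩ := exists_pre hG hN hκN htN hmin hL₀ htL₀
    have hκ' : (kappa (Fusion.cj L₀ g)).Nonempty := hκL.imp fun _ h => OddLocal.Kappa.kappa_cj hG hL₀ h
    obtain ⟨K, c⟩ := exists_kconf d hκ'
    by_cases hnil : Group.IsNilpotent ↥(sigmaCore (Fusion.cj L₀ g))
    · exact c.false_of_nilpotent hnil
    · exact c.false_of_not_nilpotent hnil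
  push Not at hL
  obtain ⟨L, A, E, W, w, hc⟩ := exists_config hG hN hκN htN hmin fun L hL' htL => hL L hL' htL
  haveI : Fintype L := Fintype.ofFinite L
  obtain ⟨χ, ε, μ, hd⟩ := hc.exists_data
  exact hc.toConfig.false hd

end Cfsg.Agent.OddChar
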